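import Cfsg.Agent.Lib.H64.TCHSA.Chk
set_option autoImplicit false
set_option maxRecDepth 100000
set_option linter.all false
namespace H64.TCHSA
open H35.TC
section
variable {G : Type} [Group G] {g : Lt → G} {H : Subgroup G}
/-- hypotheses -/
abbrev Hy (g : Lt → G) (H : Subgroup G) : Prop := (∀ x, g (inv x) = (g x)⁻¹) ∧ (∀ r ∈ rels, (r.map g).prod = 1) ∧ ∀ r ∈ subs, (r.map g).prod ∈ H
theorem hM0 : 0 < M := by decide
theorem hat {r W : List Lt} {x : Lt} (hr : (r.map g).prod = 1) (k : ℕ) (h : r.drop k ++ r.take k = W ++ [x]) (z : G ⧸ H) : fa g x (act (fa g) W z) = z := hole_at hr k h z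
theorem pat (hy : Hy g H) {r W1 W2 : List Lt} (hr : (r.map g).prod = 1) (k : ℕ) (h : r.drop k ++ r.take k = W1 ++ (W2.map inv).reverse) (z : G ⧸ H) : act (fa g) W1 z = act (fa g) W2 z := pair_at hy.1 hr k h z
theorem ivt (hy : Hy g H) (x x' : Lt) (hx : inv x = x') (z : G ⧸ H) : fa g x (fa g x' z) = z := inv_rel hy.1 x x' hx z
theorem rf_0 (hy : Hy g H) : (([.q, .q, .q] : List Lt).map g).prod = 1 := hy.2.1 _ (by decide +kernel)
theorem rb_0 (hy : Hy g H) : (([.qi, .qi, .qi] : List Lt).map g).prod = 1 := inv_at hy.1 (rf_0 hy)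
theorem rf_1 (hy : Hy g H) : (([.d, .d, .d] : List Lt).map g).prod = 1 := hy.2.1 _ (by decide +kernel)
theorem rb_1 (hy : Hy g H) : (([.di, .di, .di] : List Lt).map g).prod = 1 := inv_at hy.1 (rf_1 hy)
theorem rf_2 (hy : Hy g H) : (([.n, .n, .n] : List Lt).map g).prod = 1 := hy.2.1 _ (by decide +kernel)
theorem rb_2 (hy : Hy g H) : (([.ni, .ni, .ni] : List Lt).map g).prod = 1 := inv_at hy.1 (rf_2 hy)
theorem rf_3 (hy : Hy g H) : (([.p, .q, .pi, .q, .p, .q, .pi, .q] : List Lt).map g).prod = 1 := hy.2.1 _ (by decide +kernel)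
theorem rb_3 (hy : Hy g H) : (([.qi, .p, .qi, .pi, .qi, .p, .qi, .pi] : List Lt).map g).prod = 1 := inv_at hy.1 (rf_3 hy)
theorem rf_4 (hy : Hy g H) : (([.m, .qi, .pi, .qi, .m, .qi, .pi, .qi] : List Lt).map g).prod = 1 := hy.2.1 _ (by decide +kernel)
theorem rb_4 (hy : Hy g H) : (([.q, .p, .q, .mi, .q, .p, .q, .mi] : List Lt).map g).prod = 1 := inv_at hy.1 (rf_4 hy)
theorem rf_5 (hy : Hy g H) : (([.m, .p, .q, .p, .m, .qi, .pi, .qi] : List Lt).map g).prod = 1 := hy.2.1 _ (by decide +kernel)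
theorem rb_5 (hy : Hy g H) : (([.q, .p, .q, .mi, .pi, .qi, .pi, .mi] : List Lt).map g).prod = 1 := inv_at hy.1 (rf_5 hy)
theorem rf_6 (hy : Hy g H) : (([.n, .pi, .q, .ni, .q, .n, .qi, .p] : List Lt).map g).prod = 1 := hy.2.1 _ (by decide +kernel)
theorem rb_6 (hy : Hy g H) : (([.pi, .q, .ni, .qi, .n, .qi, .p, .ni] : List Lt).map g).prod = 1 := inv_at hy.1 (rf_6 hy)
theorem rf_7 (hy : Hy g H) : (([.n, .pi, .pi, .q, .n, .pi, .pi, .q] : List Lt).map g).prod = 1 := hy.2.1 _ (by decide +kernel)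
theorem rb_7 (hy : Hy g H) : (([.qi, .p, .p, .ni, .qi, .p, .p, .ni] : List Lt).map g).prod = 1 := inv_at hy.1 (rf_7 hy)
theorem rf_8 (hy : Hy g H) : (([.n, .p, .ni, .qi, .n, .p, .ni, .qi] : List Lt).map g).prod = 1 := hy.2.1 _ (by decide +kernel)
theorem rb_8 (hy : Hy g H) : (([.q, .n, .pi, .ni, .q, .n, .pi, .ni] : List Lt).map g).prod = 1 := inv_at hy.1 (rf_8 hy)
theorem rf_9 (hy : Hy g H) : (([.n, .pi, .pi, .n, .qi, .p, .ni, .p] : List Lt).map g).prod = 1 := hy.2.1 _ (by decide +kernel)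
theorem rb_9 (hy : Hy g H) : (([.pi, .n, .pi, .q, .ni, .p, .p, .ni] : List Lt).map g).prod = 1 := inv_at hy.1 (rf_9 hy)
theorem rf_10 (hy : Hy g H) : (([.d, .q, .p, .di, .m, .m, .n, .mi, .mi] : List Lt).map g).prod = 1 := hy.2.1 _ (by decide +kernel)
theorem rb_10 (hy : Hy g H) : (([.m, .m, .ni, .mi, .mi, .d, .pi, .qi, .di] : List Lt).map g).prod = 1 := inv_at hy.1 (rf_10 hy)
theorem rf_11 (hy : Hy g H) : (([.d, .pi, .q, .di, .m, .m, .m, .n, .mi] : List Lt).map g).prod = 1 := hy.2.1 _ (by decide +kernel)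
theorem rb_11 (hy : Hy g H) : (([.m, .ni, .mi, .mi, .mi, .d, .qi, .p, .di] : List Lt).map g).prod = 1 := inv_at hy.1 (rf_11 hy)
theorem rf_12 (hy : Hy g H) : (([.d, .q, .pi, .di, .mi, .n, .m, .m, .m] : List Lt).map g).prod = 1 := hy.2.1 _ (by decide +kernel)
theorem rb_12 (hy : Hy g H) : (([.mi, .mi, .mi, .ni, .m, .d, .p, .qi, .di] : List Lt).map g).prod = 1 := inv_at hy.1 (rf_12 hy)
theorem rf_13 (hy : Hy g H) : (([.pi, .q, .ni, .pi, .d, .p, .n, .qi, .p, .d] : List Lt).map g).prod = 1 := hy.2.1 _ (by decide +kernel)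
theorem rb_13 (hy : Hy g H) : (([.di, .pi, .q, .ni, .pi, .di, .p, .n, .qi, .p] : List Lt).map g).prod = 1 := inv_at hy.1 (rf_13 hy)
theorem rf_14 (hy : Hy g H) : (([.m, .n, .mi, .n, .d, .ni, .m, .ni, .mi, .di] : List Lt).map g).prod = 1 := hy.2.1 _ (by decide +kernel)
theorem rb_14 (hy : Hy g H) : (([.d, .m, .n, .mi, .n, .di, .ni, .m, .ni, .mi] : List Lt).map g).prod = 1 := inv_at hy.1 (rf_14 hy)
theorem rf_15 (hy : Hy g H) : (([.d, .p, .q, .p, .p, .qi, .pi, .di, .ni, .m] : List Lt).map g).prod = 1 := hy.2.1 _ (by decide +kernel)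
theorem rb_15 (hy : Hy g H) : (([.mi, .n, .d, .p, .q, .pi, .pi, .qi, .pi, .di] : List Lt).map g).prod = 1 := inv_at hy.1 (rf_15 hy)
theorem rf_16 (hy : Hy g H) : (([.d, .q, .di, .pi, .q, .ni, .q, .n, .qi, .p] : List Lt).map g).prod = 1 := hy.2.1 _ (by decide +kernel)
theorem rb_16 (hy : Hy g H) : (([.pi, .q, .ni, .qi, .n, .qi, .p, .d, .qi, .di] : List Lt).map g).prod = 1 := inv_at hy.1 (rf_16 hy)
theorem rf_17 (hy : Hy g H) : (([.m, .mi] : List Lt).map g).prod = 1 := hy.2.1 _ (by decide +kernel)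
theorem rb_17 (hy : Hy g H) : (([.m, .mi] : List Lt).map g).prod = 1 := inv_at hy.1 (rf_17 hy)
theorem rf_18 (hy : Hy g H) : (([.mi, .m] : List Lt).map g).prod = 1 := hy.2.1 _ (by decide +kernel)
theorem rb_18 (hy : Hy g H) : (([.mi, .m] : List Lt).map g).prod = 1 := inv_at hy.1 (rf_18 hy)
theorem rf_19 (hy : Hy g H) : (([.n, .ni] : List Lt).map g).prod = 1 := hy.2.1 _ (by decide +kernel)
theorem rb_19 (hy : Hy g H) : (([.n, .ni] : List Lt).map g).prod = 1 := inv_at hy.1 (rf_19 hy)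
theorem rf_20 (hy : Hy g H) : (([.ni, .n] : List Lt).map g).prod = 1 := hy.2.1 _ (by decide +kernel)
theorem rb_20 (hy : Hy g H) : (([.ni, .n] : List Lt).map g).prod = 1 := inv_at hy.1 (rf_20 hy)
theorem rf_21 (hy : Hy g H) : (([.p, .pi] : List Lt).map g).prod = 1 := hy.2.1 _ (by decide +kernel)
theorem rb_21 (hy : Hy g H) : (([.p, .pi] : List Lt).map g).prod = 1 := inv_at hy.1 (rf_21 hy)
theorem rf_22 (hy : Hy g H) : (([.pi, .p] : List Lt).map g).prod = 1 := hy.2.1 _ (by decide +kernel)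
theorem rb_22 (hy : Hy g H) : (([.pi, .p] : List Lt).map g).prod = 1 := inv_at hy.1 (rf_22 hy)
theorem rf_23 (hy : Hy g H) : (([.q, .qi] : List Lt).map g).prod = 1 := hy.2.1 _ (by decide +kernel)
theorem rb_23 (hy : Hy g H) : (([.q, .qi] : List Lt).map g).prod = 1 := inv_at hy.1 (rf_23 hy)
theorem rf_24 (hy : Hy g H) : (([.qi, .q] : List Lt).map g).prod = 1 := hy.2.1 _ (by decide +kernel)
theorem rb_24 (hy : Hy g H) : (([.qi, .q] : List Lt).map g).prod = 1 := inv_at hy.1 (rf_24 hy)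
theorem rf_25 (hy : Hy g H) : (([.d, .di] : List Lt).map g).prod = 1 := hy.2.1 _ (by decide +kernel)
theorem rb_25 (hy : Hy g H) : (([.d, .di] : List Lt).map g).prod = 1 := inv_at hy.1 (rf_25 hy)
theorem rf_26 (hy : Hy g H) : (([.di, .d] : List Lt).map g).prod = 1 := hy.2.1 _ (by decide +kernel)
theorem rb_26 (hy : Hy g H) : (([.di, .d] : List Lt).map g).prod = 1 := inv_at hy.1 (rf_26 hy)
/-- the points of the nodes -/
noncomputable def cP (g : Lt → G) (H : Subgroup G) : ℕ → G ⧸ H := cc (fa g) lt P ((1 : G) : G ⧸ H)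
/-- soundness of an entry -/
abbrev Gd (g : Lt → G) (H : Subgroup G) (x : Lt) (u : ℕ) : Prop := Good (fa g) T MG M (cP g H) x u
/-- soundness of a merge -/
abbrev GdM (g : Lt → G) (H : Subgroup G) (u : ℕ) : Prop := GoodM (fa g) T MG M (cP g H) u
theorem dp_m_0_s (hy : Hy g H)
    (j u : ℕ) (hu : u < M) (h : dp_m_0 j u = true) : Gd g H Lt.m u := by
  unfold dp_m_0 at h
  rcases brec_true h with h | h
  · exact lF_good (T := T) (x := Lt.m) hM0 [Lt.d, Lt.p, Lt.qi, Lt.di, Lt.mi, Lt.mi, Lt.mi, Lt.ni] (hat (rb_12 hy) 5 rfl) h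
  · exact lS_good (T := T) (x := Lt.m) hM0 hu [Lt.qi, Lt.pi, Lt.qi, Lt.m, Lt.p, Lt.q, Lt.p] (hat (rf_5 hy) 5 rfl) h
theorem dp_m_1_s (hy : Hy g H)
    (j u : ℕ) (hu : u < M) (h : dp_m_1 j u = true) : Gd g H Lt.m u := by
  unfold dp_m_1 at h
  rcases brec_true h with h | h
  · exact lF_good (T := T) (x := Lt.m) hM0 [Lt.qi, Lt.pi, Lt.qi, Lt.m, Lt.qi, Lt.pi, Lt.qi] (hat (rf_4 hy) 1 rfl) h
  · exact dp_m_0_s hy j u hu h
theorem dp_m_2_s (hy : Hy g H)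
    (j u : ℕ) (hu : u < M) (h : dp_m_2 j u = true) : Gd g H Lt.m u := by
  unfold dp_m_2 at h
  rcases brec_true h with h | h
  · exact lF_good (T := T) (x := Lt.m) hM0 [Lt.p, Lt.q, Lt.p, Lt.m, Lt.qi, Lt.pi, Lt.qi] (hat (rf_5 hy) 1 rfl) h
  · exact lS_good (T := T) (x := Lt.m) hM0 hu [Lt.d, Lt.q, Lt.pi, Lt.di, Lt.mi, Lt.n, Lt.m, Lt.m] (hat (rf_12 hy) 0 rfl) h
theorem dp_m_3_s (hy : Hy g H)
    (j u : ℕ) (hu : u < M) (h : dp_m_3 j u = true) : Gd g H Lt.m u := by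
  unfold dp_m_3 at h
  rcases brec_true h with h | h
  · exact lS_good (T := T) (x := Lt.m) hM0 hu [Lt.qi, Lt.pi, Lt.qi, Lt.m, Lt.qi, Lt.pi, Lt.qi] (hat (rf_4 hy) 1 rfl) h
  · exact dp_m_2_s hy j u hu h
theorem dp_m_4_s (hy : Hy g H)
    (j u : ℕ) (hu : u < M) (h : dp_m_4 j u = true) : Gd g H Lt.m u := by
  unfold dp_m_4 at h
  rcases brec_true h with h | h
  · exact lS_good (T := T) (x := Lt.m) hM0 hu [Lt.m, Lt.ni, Lt.mi, Lt.mi, Lt.d, Lt.pi, Lt.qi, Lt.di] (hat (rb_10 hy) 1 rfl) h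
  · exact lF_good (T := T) (x := Lt.m) hM0 [Lt.m, Lt.m, Lt.n, Lt.mi, Lt.d, Lt.pi, Lt.q, Lt.di] (hat (rf_11 hy) 5 rfl) h
theorem dp_m_5_s (hy : Hy g H)
    (j u : ℕ) (hu : u < M) (h : dp_m_5 j u = true) : Gd g H Lt.m u := by
  unfold dp_m_5 at h
  rcases brec_true h with h | h
  · exact lF_good (T := T) (x := Lt.m) hM0 [Lt.m, Lt.ni, Lt.mi, Lt.mi, Lt.d, Lt.pi, Lt.qi, Lt.di] (hat (rb_10 hy) 1 rfl) h
  · exact lS_good (T := T) (x := Lt.m) hM0 hu [Lt.n, Lt.mi, Lt.d, Lt.pi, Lt.q, Lt.di, Lt.m, Lt.m] (hat (rf_11 hy) 7 rfl) h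
theorem dp_m_6_s (hy : Hy g H)
    (j u : ℕ) (hu : u < M) (h : dp_m_6 j u = true) : Gd g H Lt.m u := by
  unfold dp_m_6 at h
  rcases brec_true h with h | h
  · exact dp_m_4_s hy j u hu h
  · exact dp_m_5_s hy j u hu h
theorem dp_m_7_s (hy : Hy g H)
    (j u : ℕ) (hu : u < M) (h : dp_m_7 j u = true) : Gd g H Lt.m u := by
  unfold dp_m_7 at h
  rcases brec_true h with h | h
  · exact dp_m_3_s hy j u hu h
  · exact dp_m_6_s hy j u hu h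
theorem dp_m_8_s (hy : Hy g H)
    (j u : ℕ) (hu : u < M) (h : dp_m_8 j u = true) : Gd g H Lt.m u := by
  unfold dp_m_8 at h
  rcases brec_true h with h | h
  · exact dp_m_1_s hy j u hu h
  · exact dp_m_7_s hy j u hu h
theorem dp_m_9_s (hy : Hy g H)
    (j u : ℕ) (hu : u < M) (h : dp_m_9 j u = true) : Gd g H Lt.m u := by
  unfold dp_m_9 at h
  rcases brec_true h with h | h
  · exact lS_good (T := T) (x := Lt.m) hM0 hu [Lt.ni, Lt.mi, Lt.mi, Lt.d, Lt.pi, Lt.qi, Lt.di, Lt.m] (hat (rb_10 hy) 2 rfl) h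
  · exact lS_good (T := T) (x := Lt.m) hM0 hu [Lt.m, Lt.n, Lt.mi, Lt.mi, Lt.d, Lt.q, Lt.p, Lt.di] (hat (rf_10 hy) 5 rfl) h
theorem dp_m_10_s (hy : Hy g H)
    (j u : ℕ) (hu : u < M) (h : dp_m_10 j u = true) : Gd g H Lt.m u := by
  unfold dp_m_10 at h
  rcases brec_true h with h | h
  · exact lF_good (T := T) (x := Lt.m) hM0 [Lt.qi, Lt.pi, Lt.qi, Lt.m, Lt.p, Lt.q, Lt.p] (hat (rf_5 hy) 5 rfl) h
  · exact lF_good (T := T) (x := Lt.m) hM0 [Lt.m, Lt.n, Lt.mi, Lt.d, Lt.pi, Lt.q, Lt.di, Lt.m] (hat (rf_11 hy) 6 rfl) h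
theorem dp_m_11_s (hy : Hy g H)
    (j u : ℕ) (hu : u < M) (h : dp_m_11 j u = true) : Gd g H Lt.m u := by
  unfold dp_m_11 at h
  rcases brec_true h with h | h
  · exact dp_m_9_s hy j u hu h
  · exact dp_m_10_s hy j u hu h
theorem dp_m_12_s (hy : Hy g H)
    (j u : ℕ) (hu : u < M) (h : dp_m_12 j u = true) : Gd g H Lt.m u := by
  unfold dp_m_12 at h
  rcases brec_true h with h | h
  · exact lF_good (T := T) (x := Lt.m) hM0 [Lt.ni, Lt.mi, Lt.mi, Lt.mi, Lt.d, Lt.qi, Lt.p, Lt.di] (hat (rb_11 hy) 1 rfl) h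
  · exact lS_good (T := T) (x := Lt.m) hM0 hu [Lt.p, Lt.q, Lt.p, Lt.m, Lt.qi, Lt.pi, Lt.qi] (hat (rf_5 hy) 1 rfl) h
theorem dp_m_13_s (hy : Hy g H)
    (j u : ℕ) (hu : u < M) (h : dp_m_13 j u = true) : Gd g H Lt.m u := by
  unfold dp_m_13 at h
  rcases brec_true h with h | h
  · exact lF_good (T := T) (x := Lt.m) hM0 [Lt.d, Lt.p, Lt.q, Lt.p, Lt.p, Lt.qi, Lt.pi, Lt.di, Lt.ni] (hat (rf_15 hy) 0 rfl) h
  · exact lS_good (T := T) (x := Lt.m) hM0 hu [Lt.n, Lt.mi, Lt.mi, Lt.d, Lt.q, Lt.p, Lt.di, Lt.m] (hat (rf_10 hy) 6 rfl) h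
theorem dp_m_14_s (hy : Hy g H)
    (j u : ℕ) (hu : u < M) (h : dp_m_14 j u = true) : Gd g H Lt.m u := by
  unfold dp_m_14 at h
  rcases brec_true h with h | h
  · exact lS_good (T := T) (x := Lt.m) hM0 hu [Lt.m, Lt.m, Lt.d, Lt.q, Lt.pi, Lt.di, Lt.mi, Lt.n] (hat (rf_12 hy) 7 rfl) h
  · exact dp_m_13_s hy j u hu h
theorem dp_m_15_s (hy : Hy g H)
    (j u : ℕ) (hu : u < M) (h : dp_m_15 j u = true) : Gd g H Lt.m u := by
  unfold dp_m_15 at h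
  rcases brec_true h with h | h
  · exact dp_m_12_s hy j u hu h
  · exact dp_m_14_s hy j u hu h
theorem dp_m_16_s (hy : Hy g H)
    (j u : ℕ) (hu : u < M) (h : dp_m_16 j u = true) : Gd g H Lt.m u := by
  unfold dp_m_16 at h
  rcases brec_true h with h | h
  · exact dp_m_11_s hy j u hu h
  · exact dp_m_15_s hy j u hu h
theorem dp_m_17_s (hy : Hy g H)
    (j u : ℕ) (hu : u < M) (h : dp_m_17 j u = true) : Gd g H Lt.m u := by
  unfold dp_m_17 at h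
  rcases brec_true h with h | h
  · exact lF_good (T := T) (x := Lt.m) hM0 [Lt.n, Lt.mi, Lt.mi, Lt.d, Lt.q, Lt.p, Lt.di, Lt.m] (hat (rf_10 hy) 6 rfl) h
  · exact lS_good (T := T) (x := Lt.m) hM0 hu [Lt.m, Lt.m, Lt.n, Lt.mi, Lt.d, Lt.pi, Lt.q, Lt.di] (hat (rf_11 hy) 5 rfl) h
theorem dp_m_18_s (hy : Hy g H)
    (j u : ℕ) (hu : u < M) (h : dp_m_18 j u = true) : Gd g H Lt.m u := by
  unfold dp_m_18 at h
  rcases brec_true h with h | h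
  · exact lS_good (T := T) (x := Lt.m) hM0 hu [Lt.d, Lt.p, Lt.q, Lt.p, Lt.p, Lt.qi, Lt.pi, Lt.di, Lt.ni] (hat (rf_15 hy) 0 rfl) h
  · exact dp_m_17_s hy j u hu h
theorem dp_m_19_s (hy : Hy g H)
    (j u : ℕ) (hu : u < M) (h : dp_m_19 j u = true) : Gd g H Lt.m u := by
  unfold dp_m_19 at h
  rcases brec_true h with h | h
  · exact lS_good (T := T) (x := Lt.m) hM0 hu [Lt.ni, Lt.mi, Lt.mi, Lt.mi, Lt.d, Lt.qi, Lt.p, Lt.di] (hat (rb_11 hy) 1 rfl) h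
  · exact lF_good (T := T) (x := Lt.m) hM0 [Lt.m, Lt.n, Lt.mi, Lt.mi, Lt.d, Lt.q, Lt.p, Lt.di] (hat (rf_10 hy) 5 rfl) h
theorem dp_m_20_s (hy : Hy g H)
    (j u : ℕ) (hu : u < M) (h : dp_m_20 j u = true) : Gd g H Lt.m u := by
  unfold dp_m_20 at h
  rcases brec_true h with h | h
  · exact lF_good (T := T) (x := Lt.m) hM0 [Lt.d, Lt.q, Lt.pi, Lt.di, Lt.mi, Lt.n, Lt.m, Lt.m] (hat (rf_12 hy) 0 rfl) h
  · exact lF_good (T := T) (x := Lt.m) hM0 [Lt.ni, Lt.mi, Lt.mi, Lt.d, Lt.pi, Lt.qi, Lt.di, Lt.m] (hat (rb_10 hy) 2 rfl) h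
theorem dp_m_21_s (hy : Hy g H)
    (j u : ℕ) (hu : u < M) (h : dp_m_21 j u = true) : Gd g H Lt.m u := by
  unfold dp_m_21 at h
  rcases brec_true h with h | h
  · exact dp_m_19_s hy j u hu h
  · exact dp_m_20_s hy j u hu h
theorem dp_m_22_s (hy : Hy g H)
    (j u : ℕ) (hu : u < M) (h : dp_m_22 j u = true) : Gd g H Lt.m u := by
  unfold dp_m_22 at h
  rcases brec_true h with h | h
  · exact dp_m_18_s hy j u hu h
  · exact dp_m_21_s hy j u hu h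
theorem dp_m_23_s (hy : Hy g H)
    (j u : ℕ) (hu : u < M) (h : dp_m_23 j u = true) : Gd g H Lt.m u := by
  unfold dp_m_23 at h
  rcases brec_true h with h | h
  · exact lF_good (T := T) (x := Lt.m) hM0 [Lt.m, Lt.d, Lt.q, Lt.pi, Lt.di, Lt.mi, Lt.n, Lt.m] (hat (rf_12 hy) 8 rfl) h
  · exact lF_good (T := T) (x := Lt.m) hM0 [Lt.n, Lt.mi, Lt.d, Lt.pi, Lt.q, Lt.di, Lt.m, Lt.m] (hat (rf_11 hy) 7 rfl) h
theorem dp_m_24_s (hy : Hy g H)
    (j u : ℕ) (hu : u < M) (h : dp_m_24 j u = true) : Gd g H Lt.m u := by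
  unfold dp_m_24 at h
  rcases brec_true h with h | h
  · exact lS_good (T := T) (x := Lt.m) hM0 hu [Lt.m, Lt.n, Lt.mi, Lt.d, Lt.pi, Lt.q, Lt.di, Lt.m] (hat (rf_11 hy) 6 rfl) h
  · exact lS_good (T := T) (x := Lt.m) hM0 hu [Lt.n, Lt.mi, Lt.n, Lt.d, Lt.ni, Lt.m, Lt.ni, Lt.mi, Lt.di] (hat (rf_14 hy) 1 rfl) h
theorem dp_m_25_s (hy : Hy g H)
    (j u : ℕ) (hu : u < M) (h : dp_m_25 j u = true) : Gd g H Lt.m u := by
  unfold dp_m_25 at h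
  rcases brec_true h with h | h
  · exact dp_m_23_s hy j u hu h
  · exact dp_m_24_s hy j u hu h
theorem dp_m_26_s (hy : Hy g H)
    (j u : ℕ) (hu : u < M) (h : dp_m_26 j u = true) : Gd g H Lt.m u := by
  unfold dp_m_26 at h
  rcases brec_true h with h | h
  · exact lS_good (T := T) (x := Lt.m) hM0 hu [Lt.d, Lt.p, Lt.qi, Lt.di, Lt.mi, Lt.mi, Lt.mi, Lt.ni] (hat (rb_12 hy) 5 rfl) h
  · exact lS_good (T := T) (x := Lt.m) hM0 hu [Lt.n, Lt.mi, Lt.n, Lt.di, Lt.ni, Lt.m, Lt.ni, Lt.mi, Lt.d] (hat (rb_14 hy) 2 rfl) h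
theorem dp_m_27_s (hy : Hy g H)
    (j u : ℕ) (hu : u < M) (h : dp_m_27 j u = true) : Gd g H Lt.m u := by
  unfold dp_m_27 at h
  rcases brec_true h with h | h
  · exact lS_good (T := T) (x := Lt.m) hM0 hu [Lt.ni, Lt.mi, Lt.di, Lt.m, Lt.n, Lt.mi, Lt.n, Lt.d, Lt.ni] (hat (rf_14 hy) 7 rfl) h
  · exact dp_m_26_s hy j u hu h
theorem dp_m_28_s (hy : Hy g H)
    (j u : ℕ) (hu : u < M) (h : dp_m_28 j u = true) : Gd g H Lt.m u := by
  unfold dp_m_28 at h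
  rcases brec_true h with h | h
  · exact lF_good (T := T) (x := Lt.m) hM0 [Lt.ni, Lt.mi, Lt.d, Lt.m, Lt.n, Lt.mi, Lt.n, Lt.di, Lt.ni] (hat (rb_14 hy) 8 rfl) h
  · exact lF_good (T := T) (x := Lt.m) hM0 [Lt.m, Lt.m, Lt.d, Lt.q, Lt.pi, Lt.di, Lt.mi, Lt.n] (hat (rf_12 hy) 7 rfl) h
theorem dp_m_29_s (hy : Hy g H)
    (j u : ℕ) (hu : u < M) (h : dp_m_29 j u = true) : Gd g H Lt.m u := by
  unfold dp_m_29 at h
  rcases brec_true h with h | h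
  · exact lF_good (T := T) (x := Lt.m) hM0 [Lt.ni, Lt.mi, Lt.di, Lt.m, Lt.n, Lt.mi, Lt.n, Lt.d, Lt.ni] (hat (rf_14 hy) 7 rfl) h
  · exact lF_good (T := T) (x := Lt.m) hM0 [Lt.n, Lt.mi, Lt.n, Lt.di, Lt.ni, Lt.m, Lt.ni, Lt.mi, Lt.d] (hat (rb_14 hy) 2 rfl) h
theorem dp_m_30_s (hy : Hy g H)
    (j u : ℕ) (hu : u < M) (h : dp_m_30 j u = true) : Gd g H Lt.m u := by
  unfold dp_m_30 at h
  rcases brec_true h with h | h
  · exact lH_good (T := T) (x := Lt.m) hM0 [] [] (by rw [show cP g H 0 = _ from cc_zero]; exact sub_rel hy.1 (hy.2.2 _ (by decide))) h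
  · exact dp_m_29_s hy j u hu h
theorem dp_m_31_s (hy : Hy g H)
    (j u : ℕ) (hu : u < M) (h : dp_m_31 j u = true) : Gd g H Lt.m u := by
  unfold dp_m_31 at h
  rcases brec_true h with h | h
  · exact dp_m_28_s hy j u hu h
  · exact dp_m_30_s hy j u hu h
theorem dp_m_32_s (hy : Hy g H)
    (j u : ℕ) (hu : u < M) (h : dp_m_32 j u = true) : Gd g H Lt.m u := by
  unfold dp_m_32 at h
  rcases brec_true h with h | h
  · exact dp_m_27_s hy j u hu h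
  · exact dp_m_31_s hy j u hu h
theorem dp_m_33_s (hy : Hy g H)
    (j u : ℕ) (hu : u < M) (h : dp_m_33 j u = true) : Gd g H Lt.m u := by
  unfold dp_m_33 at h
  rcases brec_true h with h | h
  · exact dp_m_25_s hy j u hu h
  · exact dp_m_32_s hy j u hu h
theorem dp_m_34_s (hy : Hy g H)
    (j u : ℕ) (hu : u < M) (h : dp_m_34 j u = true) : Gd g H Lt.m u := by
  unfold dp_m_34 at h
  rcases brec_true h with h | h
  · exact dp_m_22_s hy j u hu h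
  · exact dp_m_33_s hy j u hu h
theorem dp_m_35_s (hy : Hy g H)
    (j u : ℕ) (hu : u < M) (h : dp_m_35 j u = true) : Gd g H Lt.m u := by
  unfold dp_m_35 at h
  rcases brec_true h with h | h
  · exact dp_m_16_s hy j u hu h
  · exact dp_m_34_s hy j u hu h
theorem dp_m_36_s (hy : Hy g H)
    (j u : ℕ) (hu : u < M) (h : dp_m_36 j u = true) : Gd g H Lt.m u := by
  unfold dp_m_36 at h
  rcases brec_true h with h | h
  · exact dp_m_8_s hy j u hu h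
  · exact dp_m_35_s hy j u hu h
theorem snd_m (hy : Hy g H)
    (j u : ℕ) (hu : u < M) (h : disp_m j u = true) : Gd g H Lt.m u := by
  unfold disp_m at h
  rcases brec_true h with h | h
  · rcases brec_true h with h | h
    · exact lF1_good (T := T) (x := Lt.m) hM0 .mi (hat (rf_17 hy) 1 rfl) h
    · exact lDef_good (T := T) (x := Lt.m) (by decide) rfl h
  · rcases brec_true h with h | h
    · rcases brec_true h with h | h
      · exact lPar_good (T := T) (x := Lt.m) (x' := Lt.mi) (by decide) rfl (ivt hy _ _ rfl) h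
      · exact lS_good (T := T) (x := Lt.m) hM0 hu [Lt.mi] (hat (rf_17 hy) 1 rfl) h
    · exact dp_m_36_s hy j u hu h
theorem snc_m (hy : Hy g H)
    (j u : ℕ) (hu : u < M) (h : chk_m j u = true) : (T Lt.m u < A ∧ Gd g H Lt.m u) ∨ (A ≤ T Lt.m u ∧ MG u < A) := by
  unfold chk_m at h
  cases hb : Nat.ble A (T_m u) with
  | true => rw [hb] at h; exact Or.inr ⟨le_of_ble hb, le_of_ble h⟩
  | false => rw [hb] at h; exact Or.inl ⟨lt_of_ble_false hb, snd_m hy j u hu h⟩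
theorem dp_mi_0_s (hy : Hy g H)
    (j u : ℕ) (hu : u < M) (h : dp_mi_0 j u = true) : Gd g H Lt.mi u := by
  unfold dp_mi_0 at h
  rcases brec_true h with h | h
  · exact lS_good (T := T) (x := Lt.mi) hM0 hu [Lt.q, Lt.p, Lt.q, Lt.mi, Lt.q, Lt.p, Lt.q] (hat (rb_4 hy) 0 rfl) h
  · exact lF_good (T := T) (x := Lt.mi) hM0 [Lt.n, Lt.m, Lt.m, Lt.m, Lt.d, Lt.q, Lt.pi, Lt.di] (hat (rf_12 hy) 5 rfl) h
theorem dp_mi_1_s (hy : Hy g H)
    (j u : ℕ) (hu : u < M) (h : dp_mi_1 j u = true) : Gd g H Lt.mi u := by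
  unfold dp_mi_1 at h
  rcases brec_true h with h | h
  · exact lF_good (T := T) (x := Lt.mi) hM0 [Lt.q, Lt.p, Lt.q, Lt.mi, Lt.q, Lt.p, Lt.q] (hat (rb_4 hy) 0 rfl) h
  · exact dp_mi_0_s hy j u hu h
theorem dp_mi_2_s (hy : Hy g H)
    (j u : ℕ) (hu : u < M) (h : dp_mi_2 j u = true) : Gd g H Lt.mi u := by
  unfold dp_mi_2 at h
  rcases brec_true h with h | h
  · exact lF_good (T := T) (x := Lt.mi) hM0 [Lt.mi, Lt.d, Lt.q, Lt.p, Lt.di, Lt.m, Lt.m, Lt.n] (hat (rf_10 hy) 8 rfl) h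
  · exact lF_good (T := T) (x := Lt.mi) hM0 [Lt.d, Lt.pi, Lt.q, Lt.di, Lt.m, Lt.m, Lt.m, Lt.n] (hat (rf_11 hy) 0 rfl) h
theorem dp_mi_3_s (hy : Hy g H)
    (j u : ℕ) (hu : u < M) (h : dp_mi_3 j u = true) : Gd g H Lt.mi u := by
  unfold dp_mi_3 at h
  rcases brec_true h with h | h
  · exact lF_good (T := T) (x := Lt.mi) hM0 [Lt.ni, Lt.m, Lt.d, Lt.p, Lt.qi, Lt.di, Lt.mi, Lt.mi] (hat (rb_12 hy) 3 rfl) h
  · exact dp_mi_2_s hy j u hu h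
theorem dp_mi_4_s (hy : Hy g H)
    (j u : ℕ) (hu : u < M) (h : dp_mi_4 j u = true) : Gd g H Lt.mi u := by
  unfold dp_mi_4 at h
  rcases brec_true h with h | h
  · exact lS_good (T := T) (x := Lt.mi) hM0 hu [Lt.n, Lt.m, Lt.m, Lt.m, Lt.d, Lt.q, Lt.pi, Lt.di] (hat (rf_12 hy) 5 rfl) h
  · exact lS_good (T := T) (x := Lt.mi) hM0 hu [Lt.mi, Lt.mi, Lt.ni, Lt.m, Lt.d, Lt.p, Lt.qi, Lt.di] (hat (rb_12 hy) 1 rfl) h
theorem dp_mi_5_s (hy : Hy g H)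
    (j u : ℕ) (hu : u < M) (h : dp_mi_5 j u = true) : Gd g H Lt.mi u := by
  unfold dp_mi_5 at h
  rcases brec_true h with h | h
  · exact lS_good (T := T) (x := Lt.mi) hM0 hu [Lt.mi, Lt.d, Lt.q, Lt.p, Lt.di, Lt.m, Lt.m, Lt.n] (hat (rf_10 hy) 8 rfl) h
  · exact lS_good (T := T) (x := Lt.mi) hM0 hu [Lt.d, Lt.q, Lt.p, Lt.di, Lt.m, Lt.m, Lt.n, Lt.mi] (hat (rf_10 hy) 0 rfl) h
theorem dp_mi_6_s (hy : Hy g H)
    (j u : ℕ) (hu : u < M) (h : dp_mi_6 j u = true) : Gd g H Lt.mi u := by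
  unfold dp_mi_6 at h
  rcases brec_true h with h | h
  · exact dp_mi_4_s hy j u hu h
  · exact dp_mi_5_s hy j u hu h
theorem dp_mi_7_s (hy : Hy g H)
    (j u : ℕ) (hu : u < M) (h : dp_mi_7 j u = true) : Gd g H Lt.mi u := by
  unfold dp_mi_7 at h
  rcases brec_true h with h | h
  · exact dp_mi_3_s hy j u hu h
  · exact dp_mi_6_s hy j u hu h
theorem dp_mi_8_s (hy : Hy g H)
    (j u : ℕ) (hu : u < M) (h : dp_mi_8 j u = true) : Gd g H Lt.mi u := by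
  unfold dp_mi_8 at h
  rcases brec_true h with h | h
  · exact dp_mi_1_s hy j u hu h
  · exact dp_mi_7_s hy j u hu h
theorem dp_mi_9_s (hy : Hy g H)
    (j u : ℕ) (hu : u < M) (h : dp_mi_9 j u = true) : Gd g H Lt.mi u := by
  unfold dp_mi_9 at h
  rcases brec_true h with h | h
  · exact lF_good (T := T) (x := Lt.mi) hM0 [Lt.d, Lt.q, Lt.p, Lt.di, Lt.m, Lt.m, Lt.n, Lt.mi] (hat (rf_10 hy) 0 rfl) h
  · exact lF_good (T := T) (x := Lt.mi) hM0 [Lt.q, Lt.p, Lt.q, Lt.mi, Lt.pi, Lt.qi, Lt.pi] (hat (rb_5 hy) 0 rfl) h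
theorem dp_mi_10_s (hy : Hy g H)
    (j u : ℕ) (hu : u < M) (h : dp_mi_10 j u = true) : Gd g H Lt.mi u := by
  unfold dp_mi_10 at h
  rcases brec_true h with h | h
  · exact lS_good (T := T) (x := Lt.mi) hM0 hu [Lt.n, Lt.di, Lt.ni, Lt.m, Lt.ni, Lt.mi, Lt.d, Lt.m, Lt.n] (hat (rb_14 hy) 4 rfl) h
  · exact lS_good (T := T) (x := Lt.mi) hM0 hu [Lt.q, Lt.p, Lt.q, Lt.mi, Lt.pi, Lt.qi, Lt.pi] (hat (rb_5 hy) 0 rfl) h
theorem dp_mi_11_s (hy : Hy g H)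
    (j u : ℕ) (hu : u < M) (h : dp_mi_11 j u = true) : Gd g H Lt.mi u := by
  unfold dp_mi_11 at h
  rcases brec_true h with h | h
  · exact dp_mi_9_s hy j u hu h
  · exact dp_mi_10_s hy j u hu h
theorem dp_mi_12_s (hy : Hy g H)
    (j u : ℕ) (hu : u < M) (h : dp_mi_12 j u = true) : Gd g H Lt.mi u := by
  unfold dp_mi_12 at h
  rcases brec_true h with h | h
  · exact lS_good (T := T) (x := Lt.mi) hM0 hu [Lt.d, Lt.pi, Lt.qi, Lt.di, Lt.m, Lt.m, Lt.ni, Lt.mi] (hat (rb_10 hy) 5 rfl) h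
  · exact lF_good (T := T) (x := Lt.mi) hM0 [Lt.mi, Lt.mi, Lt.ni, Lt.m, Lt.d, Lt.p, Lt.qi, Lt.di] (hat (rb_12 hy) 1 rfl) h
theorem dp_mi_13_s (hy : Hy g H)
    (j u : ℕ) (hu : u < M) (h : dp_mi_13 j u = true) : Gd g H Lt.mi u := by
  unfold dp_mi_13 at h
  rcases brec_true h with h | h
  · exact lS_good (T := T) (x := Lt.mi) hM0 hu [Lt.ni, Lt.m, Lt.d, Lt.p, Lt.qi, Lt.di, Lt.mi, Lt.mi] (hat (rb_12 hy) 3 rfl) h
  · exact lS_good (T := T) (x := Lt.mi) hM0 hu [Lt.mi, Lt.d, Lt.pi, Lt.qi, Lt.di, Lt.m, Lt.m, Lt.ni] (hat (rb_10 hy) 4 rfl) h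
theorem dp_mi_14_s (hy : Hy g H)
    (j u : ℕ) (hu : u < M) (h : dp_mi_14 j u = true) : Gd g H Lt.mi u := by
  unfold dp_mi_14 at h
  rcases brec_true h with h | h
  · exact lS_good (T := T) (x := Lt.mi) hM0 hu [Lt.di, Lt.m, Lt.n, Lt.mi, Lt.n, Lt.d, Lt.ni, Lt.m, Lt.ni] (hat (rf_14 hy) 9 rfl) h
  · exact dp_mi_13_s hy j u hu h
theorem dp_mi_15_s (hy : Hy g H)
    (j u : ℕ) (hu : u < M) (h : dp_mi_15 j u = true) : Gd g H Lt.mi u := by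
  unfold dp_mi_15 at h
  rcases brec_true h with h | h
  · exact dp_mi_12_s hy j u hu h
  · exact dp_mi_14_s hy j u hu h
theorem dp_mi_16_s (hy : Hy g H)
    (j u : ℕ) (hu : u < M) (h : dp_mi_16 j u = true) : Gd g H Lt.mi u := by
  unfold dp_mi_16 at h
  rcases brec_true h with h | h
  · exact dp_mi_11_s hy j u hu h
  · exact dp_mi_15_s hy j u hu h
theorem dp_mi_17_s (hy : Hy g H)
    (j u : ℕ) (hu : u < M) (h : dp_mi_17 j u = true) : Gd g H Lt.mi u := by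
  unfold dp_mi_17 at h
  rcases brec_true h with h | h
  · exact lF_good (T := T) (x := Lt.mi) hM0 [Lt.n, Lt.d, Lt.p, Lt.q, Lt.pi, Lt.pi, Lt.qi, Lt.pi, Lt.di] (hat (rb_15 hy) 1 rfl) h
  · exact lS_good (T := T) (x := Lt.mi) hM0 hu [Lt.d, Lt.qi, Lt.p, Lt.di, Lt.m, Lt.ni, Lt.mi, Lt.mi] (hat (rb_11 hy) 5 rfl) h
theorem dp_mi_18_s (hy : Hy g H)
    (j u : ℕ) (hu : u < M) (h : dp_mi_18 j u = true) : Gd g H Lt.mi u := by
  unfold dp_mi_18 at h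
  rcases brec_true h with h | h
  · exact lF_good (T := T) (x := Lt.mi) hM0 [Lt.mi, Lt.d, Lt.pi, Lt.qi, Lt.di, Lt.m, Lt.m, Lt.ni] (hat (rb_10 hy) 4 rfl) h
  · exact dp_mi_17_s hy j u hu h
theorem dp_mi_19_s (hy : Hy g H)
    (j u : ℕ) (hu : u < M) (h : dp_mi_19 j u = true) : Gd g H Lt.mi u := by
  unfold dp_mi_19 at h
  rcases brec_true h with h | h
  · exact lF_good (T := T) (x := Lt.mi) hM0 [Lt.d, Lt.qi, Lt.p, Lt.di, Lt.m, Lt.ni, Lt.mi, Lt.mi] (hat (rb_11 hy) 5 rfl) h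
  · exact lF_good (T := T) (x := Lt.mi) hM0 [Lt.d, Lt.pi, Lt.qi, Lt.di, Lt.m, Lt.m, Lt.ni, Lt.mi] (hat (rb_10 hy) 5 rfl) h
theorem dp_mi_20_s (hy : Hy g H)
    (j u : ℕ) (hu : u < M) (h : dp_mi_20 j u = true) : Gd g H Lt.mi u := by
  unfold dp_mi_20 at h
  rcases brec_true h with h | h
  · exact lF_good (T := T) (x := Lt.mi) hM0 [Lt.pi, Lt.qi, Lt.pi, Lt.mi, Lt.q, Lt.p, Lt.q] (hat (rb_5 hy) 4 rfl) h
  · exact dp_mi_19_s hy j u hu h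
theorem dp_mi_21_s (hy : Hy g H)
    (j u : ℕ) (hu : u < M) (h : dp_mi_21 j u = true) : Gd g H Lt.mi u := by
  unfold dp_mi_21 at h
  rcases brec_true h with h | h
  · exact dp_mi_18_s hy j u hu h
  · exact dp_mi_20_s hy j u hu h
theorem dp_mi_22_s (hy : Hy g H)
    (j u : ℕ) (hu : u < M) (h : dp_mi_22 j u = true) : Gd g H Lt.mi u := by
  unfold dp_mi_22 at h
  rcases brec_true h with h | h
  · exact lS_good (T := T) (x := Lt.mi) hM0 hu [Lt.d, Lt.m, Lt.n, Lt.mi, Lt.n, Lt.di, Lt.ni, Lt.m, Lt.ni] (hat (rb_14 hy) 0 rfl) h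
  · exact lS_good (T := T) (x := Lt.mi) hM0 hu [Lt.d, Lt.pi, Lt.q, Lt.di, Lt.m, Lt.m, Lt.m, Lt.n] (hat (rf_11 hy) 0 rfl) h
theorem dp_mi_23_s (hy : Hy g H)
    (j u : ℕ) (hu : u < M) (h : dp_mi_23 j u = true) : Gd g H Lt.mi u := by
  unfold dp_mi_23 at h
  rcases brec_true h with h | h
  · exact lF_good (T := T) (x := Lt.mi) hM0 [Lt.mi, Lt.mi, Lt.d, Lt.qi, Lt.p, Lt.di, Lt.m, Lt.ni] (hat (rb_11 hy) 3 rfl) h
  · exact lF_good (T := T) (x := Lt.mi) hM0 [Lt.n, Lt.di, Lt.ni, Lt.m, Lt.ni, Lt.mi, Lt.d, Lt.m, Lt.n] (hat (rb_14 hy) 4 rfl) h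
theorem dp_mi_24_s (hy : Hy g H)
    (j u : ℕ) (hu : u < M) (h : dp_mi_24 j u = true) : Gd g H Lt.mi u := by
  unfold dp_mi_24 at h
  rcases brec_true h with h | h
  · exact lS_good (T := T) (x := Lt.mi) hM0 hu [Lt.n, Lt.d, Lt.p, Lt.q, Lt.pi, Lt.pi, Lt.qi, Lt.pi, Lt.di] (hat (rb_15 hy) 1 rfl) h
  · exact dp_mi_23_s hy j u hu h
theorem dp_mi_25_s (hy : Hy g H)
    (j u : ℕ) (hu : u < M) (h : dp_mi_25 j u = true) : Gd g H Lt.mi u := by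
  unfold dp_mi_25 at h
  rcases brec_true h with h | h
  · exact dp_mi_22_s hy j u hu h
  · exact dp_mi_24_s hy j u hu h
theorem dp_mi_26_s (hy : Hy g H)
    (j u : ℕ) (hu : u < M) (h : dp_mi_26 j u = true) : Gd g H Lt.mi u := by
  unfold dp_mi_26 at h
  rcases brec_true h with h | h
  · exact lS_good (T := T) (x := Lt.mi) hM0 hu [Lt.pi, Lt.qi, Lt.pi, Lt.mi, Lt.q, Lt.p, Lt.q] (hat (rb_5 hy) 4 rfl) h
  · exact lS_good (T := T) (x := Lt.mi) hM0 hu [Lt.mi, Lt.ni, Lt.m, Lt.d, Lt.p, Lt.qi, Lt.di, Lt.mi] (hat (rb_12 hy) 2 rfl) h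
theorem dp_mi_27_s (hy : Hy g H)
    (j u : ℕ) (hu : u < M) (h : dp_mi_27 j u = true) : Gd g H Lt.mi u := by
  unfold dp_mi_27 at h
  rcases brec_true h with h | h
  · exact lF_good (T := T) (x := Lt.mi) hM0 [Lt.n, Lt.d, Lt.ni, Lt.m, Lt.ni, Lt.mi, Lt.di, Lt.m, Lt.n] (hat (rf_14 hy) 3 rfl) h
  · exact dp_mi_26_s hy j u hu h
theorem dp_mi_28_s (hy : Hy g H)
    (j u : ℕ) (hu : u < M) (h : dp_mi_28 j u = true) : Gd g H Lt.mi u := by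
  unfold dp_mi_28 at h
  rcases brec_true h with h | h
  · exact lS_good (T := T) (x := Lt.mi) hM0 hu [Lt.n, Lt.d, Lt.ni, Lt.m, Lt.ni, Lt.mi, Lt.di, Lt.m, Lt.n] (hat (rf_14 hy) 3 rfl) h
  · exact lS_good (T := T) (x := Lt.mi) hM0 hu [Lt.mi, Lt.d, Lt.qi, Lt.p, Lt.di, Lt.m, Lt.ni, Lt.mi] (hat (rb_11 hy) 4 rfl) h
theorem dp_mi_29_s (hy : Hy g H)
    (j u : ℕ) (hu : u < M) (h : dp_mi_29 j u = true) : Gd g H Lt.mi u := by
  unfold dp_mi_29 at h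
  rcases brec_true h with h | h
  · exact lF_good (T := T) (x := Lt.mi) hM0 [Lt.mi, Lt.d, Lt.qi, Lt.p, Lt.di, Lt.m, Lt.ni, Lt.mi] (hat (rb_11 hy) 4 rfl) h
  · exact lS_good (T := T) (x := Lt.mi) hM0 hu [Lt.mi, Lt.mi, Lt.d, Lt.qi, Lt.p, Lt.di, Lt.m, Lt.ni] (hat (rb_11 hy) 3 rfl) h
theorem dp_mi_30_s (hy : Hy g H)
    (j u : ℕ) (hu : u < M) (h : dp_mi_30 j u = true) : Gd g H Lt.mi u := by
  unfold dp_mi_30 at h
  rcases brec_true h with h | h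
  · exact dp_mi_28_s hy j u hu h
  · exact dp_mi_29_s hy j u hu h
theorem dp_mi_31_s (hy : Hy g H)
    (j u : ℕ) (hu : u < M) (h : dp_mi_31 j u = true) : Gd g H Lt.mi u := by
  unfold dp_mi_31 at h
  rcases brec_true h with h | h
  · exact dp_mi_27_s hy j u hu h
  · exact dp_mi_30_s hy j u hu h
theorem dp_mi_32_s (hy : Hy g H)
    (j u : ℕ) (hu : u < M) (h : dp_mi_32 j u = true) : Gd g H Lt.mi u := by
  unfold dp_mi_32 at h
  rcases brec_true h with h | h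
  · exact dp_mi_25_s hy j u hu h
  · exact dp_mi_31_s hy j u hu h
theorem dp_mi_33_s (hy : Hy g H)
    (j u : ℕ) (hu : u < M) (h : dp_mi_33 j u = true) : Gd g H Lt.mi u := by
  unfold dp_mi_33 at h
  rcases brec_true h with h | h
  · exact dp_mi_21_s hy j u hu h
  · exact dp_mi_32_s hy j u hu h
theorem dp_mi_34_s (hy : Hy g H)
    (j u : ℕ) (hu : u < M) (h : dp_mi_34 j u = true) : Gd g H Lt.mi u := by
  unfold dp_mi_34 at h
  rcases brec_true h with h | h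
  · exact dp_mi_16_s hy j u hu h
  · exact dp_mi_33_s hy j u hu h
theorem dp_mi_35_s (hy : Hy g H)
    (j u : ℕ) (hu : u < M) (h : dp_mi_35 j u = true) : Gd g H Lt.mi u := by
  unfold dp_mi_35 at h
  rcases brec_true h with h | h
  · exact dp_mi_8_s hy j u hu h
  · exact dp_mi_34_s hy j u hu h
theorem snd_mi (hy : Hy g H)
    (j u : ℕ) (hu : u < M) (h : disp_mi j u = true) : Gd g H Lt.mi u := by
  unfold disp_mi at h
  rcases brec_true h with h | h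
  · rcases brec_true h with h | h
    · exact lF1_good (T := T) (x := Lt.mi) hM0 .m (hat (rf_17 hy) 0 rfl) h
    · exact lPar_good (T := T) (x := Lt.mi) (x' := Lt.m) (by decide) rfl (ivt hy _ _ rfl) h
  · rcases brec_true h with h | h
    · rcases brec_true h with h | h
      · exact lDef_good (T := T) (x := Lt.mi) (by decide) rfl h
      · exact lS_good (T := T) (x := Lt.mi) hM0 hu [Lt.m] (hat (rf_17 hy) 0 rfl) h
    · exact dp_mi_35_s hy j u hu h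
theorem snc_mi (hy : Hy g H)
    (j u : ℕ) (hu : u < M) (h : chk_mi j u = true) : (T Lt.mi u < A ∧ Gd g H Lt.mi u) ∨ (A ≤ T Lt.mi u ∧ MG u < A) := by
  unfold chk_mi at h
  cases hb : Nat.ble A (T_mi u) with
  | true => rw [hb] at h; exact Or.inr ⟨le_of_ble hb, le_of_ble h⟩
  | false => rw [hb] at h; exact Or.inl ⟨lt_of_ble_false hb, snd_mi hy j u hu h⟩
theorem dp_n_0_s (hy : Hy g H)
    (j u : ℕ) (hu : u < M) (h : dp_n_0 j u = true) : Gd g H Lt.n u := by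
  unfold dp_n_0 at h
  rcases brec_true h with h | h
  · exact lF_good (T := T) (x := Lt.n) hM0 [Lt.m, Lt.m, Lt.m, Lt.d, Lt.q, Lt.pi, Lt.di, Lt.mi] (hat (rf_12 hy) 6 rfl) h
  · exact lF_good (T := T) (x := Lt.n) hM0 [Lt.pi, Lt.pi, Lt.n, Lt.qi, Lt.p, Lt.ni, Lt.p] (hat (rf_9 hy) 1 rfl) h
theorem dp_n_1_s (hy : Hy g H)
    (j u : ℕ) (hu : u < M) (h : dp_n_1 j u = true) : Gd g H Lt.n u := by
  unfold dp_n_1 at h
  rcases brec_true h with h | h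
  · exact lS_good (T := T) (x := Lt.n) hM0 hu [Lt.qi, Lt.p, Lt.n, Lt.pi, Lt.q, Lt.ni, Lt.q] (hat (rf_6 hy) 6 rfl) h
  · exact lS_good (T := T) (x := Lt.n) hM0 hu [Lt.m, Lt.m, Lt.m, Lt.d, Lt.q, Lt.pi, Lt.di, Lt.mi] (hat (rf_12 hy) 6 rfl) h
theorem dp_n_2_s (hy : Hy g H)
    (j u : ℕ) (hu : u < M) (h : dp_n_2 j u = true) : Gd g H Lt.n u := by
  unfold dp_n_2 at h
  rcases brec_true h with h | h
  · exact dp_n_0_s hy j u hu h
  · exact dp_n_1_s hy j u hu h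
theorem dp_n_3_s (hy : Hy g H)
    (j u : ℕ) (hu : u < M) (h : dp_n_3 j u = true) : Gd g H Lt.n u := by
  unfold dp_n_3 at h
  rcases brec_true h with h | h
  · exact lF_good (T := T) (x := Lt.n) hM0 [Lt.pi, Lt.q, Lt.ni, Lt.q, Lt.n, Lt.qi, Lt.p] (hat (rf_6 hy) 1 rfl) h
  · exact lS_good (T := T) (x := Lt.n) hM0 hu [Lt.mi, Lt.n, Lt.di, Lt.ni, Lt.m, Lt.ni, Lt.mi, Lt.d, Lt.m] (hat (rb_14 hy) 3 rfl) h
theorem dp_n_4_s (hy : Hy g H)
    (j u : ℕ) (hu : u < M) (h : dp_n_4 j u = true) : Gd g H Lt.n u := by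
  unfold dp_n_4 at h
  rcases brec_true h with h | h
  · exact lF_good (T := T) (x := Lt.n) hM0 [Lt.qi, Lt.p, Lt.n, Lt.pi, Lt.q, Lt.ni, Lt.q] (hat (rf_6 hy) 6 rfl) h
  · exact lF_good (T := T) (x := Lt.n) hM0 [Lt.p, Lt.ni, Lt.qi, Lt.n, Lt.p, Lt.ni, Lt.qi] (hat (rf_8 hy) 1 rfl) h
theorem dp_n_5_s (hy : Hy g H)
    (j u : ℕ) (hu : u < M) (h : dp_n_5 j u = true) : Gd g H Lt.n u := by
  unfold dp_n_5 at h
  rcases brec_true h with h | h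
  · exact lF_good (T := T) (x := Lt.n) hM0 [Lt.qi, Lt.p, Lt.ni, Lt.pi, Lt.q, Lt.ni, Lt.qi] (hat (rb_6 hy) 5 rfl) h
  · exact dp_n_4_s hy j u hu h
theorem dp_n_6_s (hy : Hy g H)
    (j u : ℕ) (hu : u < M) (h : dp_n_6 j u = true) : Gd g H Lt.n u := by
  unfold dp_n_6 at h
  rcases brec_true h with h | h
  · exact dp_n_3_s hy j u hu h
  · exact dp_n_5_s hy j u hu h
theorem dp_n_7_s (hy : Hy g H)
    (j u : ℕ) (hu : u < M) (h : dp_n_7 j u = true) : Gd g H Lt.n u := by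
  unfold dp_n_7 at h
  rcases brec_true h with h | h
  · exact dp_n_2_s hy j u hu h
  · exact dp_n_6_s hy j u hu h
theorem dp_n_8_s (hy : Hy g H)
    (j u : ℕ) (hu : u < M) (h : dp_n_8 j u = true) : Gd g H Lt.n u := by
  unfold dp_n_8 at h
  rcases brec_true h with h | h
  · exact lF_good (T := T) (x := Lt.n) hM0 [Lt.mi, Lt.mi, Lt.d, Lt.q, Lt.p, Lt.di, Lt.m, Lt.m] (hat (rf_10 hy) 7 rfl) h
  · exact lS_good (T := T) (x := Lt.n) hM0 hu [Lt.pi, Lt.pi, Lt.n, Lt.qi, Lt.p, Lt.ni, Lt.p] (hat (rf_9 hy) 1 rfl) h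
theorem dp_n_9_s (hy : Hy g H)
    (j u : ℕ) (hu : u < M) (h : dp_n_9 j u = true) : Gd g H Lt.n u := by
  unfold dp_n_9 at h
  rcases brec_true h with h | h
  · exact lS_good (T := T) (x := Lt.n) hM0 hu [Lt.mi, Lt.d, Lt.pi, Lt.q, Lt.di, Lt.m, Lt.m, Lt.m] (hat (rf_11 hy) 8 rfl) h
  · exact dp_n_8_s hy j u hu h
theorem dp_n_10_s (hy : Hy g H)
    (j u : ℕ) (hu : u < M) (h : dp_n_10 j u = true) : Gd g H Lt.n u := by
  unfold dp_n_10 at h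
  rcases brec_true h with h | h
  · exact lS_good (T := T) (x := Lt.n) hM0 hu [Lt.qi, Lt.p, Lt.ni, Lt.pi, Lt.q, Lt.ni, Lt.qi] (hat (rb_6 hy) 5 rfl) h
  · exact lF_good (T := T) (x := Lt.n) hM0 [Lt.mi, Lt.d, Lt.pi, Lt.q, Lt.di, Lt.m, Lt.m, Lt.m] (hat (rf_11 hy) 8 rfl) h
theorem dp_n_11_s (hy : Hy g H)
    (j u : ℕ) (hu : u < M) (h : dp_n_11 j u = true) : Gd g H Lt.n u := by
  unfold dp_n_11 at h
  rcases brec_true h with h | h
  · exact lS_good (T := T) (x := Lt.n) hM0 hu [Lt.pi, Lt.q, Lt.ni, Lt.q, Lt.n, Lt.qi, Lt.p] (hat (rf_6 hy) 1 rfl) h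
  · exact lS_good (T := T) (x := Lt.n) hM0 hu [Lt.mi, Lt.mi, Lt.d, Lt.q, Lt.p, Lt.di, Lt.m, Lt.m] (hat (rf_10 hy) 7 rfl) h
theorem dp_n_12_s (hy : Hy g H)
    (j u : ℕ) (hu : u < M) (h : dp_n_12 j u = true) : Gd g H Lt.n u := by
  unfold dp_n_12 at h
  rcases brec_true h with h | h
  · exact dp_n_10_s hy j u hu h
  · exact dp_n_11_s hy j u hu h
theorem dp_n_13_s (hy : Hy g H)
    (j u : ℕ) (hu : u < M) (h : dp_n_13 j u = true) : Gd g H Lt.n u := by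
  unfold dp_n_13 at h
  rcases brec_true h with h | h
  · exact dp_n_9_s hy j u hu h
  · exact dp_n_12_s hy j u hu h
theorem dp_n_14_s (hy : Hy g H)
    (j u : ℕ) (hu : u < M) (h : dp_n_14 j u = true) : Gd g H Lt.n u := by
  unfold dp_n_14 at h
  rcases brec_true h with h | h
  · exact lF_good (T := T) (x := Lt.n) hM0 [Lt.qi, Lt.p, Lt.ni, Lt.p, Lt.n, Lt.pi, Lt.pi] (hat (rf_9 hy) 4 rfl) h
  · exact lS_good (T := T) (x := Lt.n) hM0 hu [Lt.pi, Lt.q, Lt.ni, Lt.p, Lt.p, Lt.ni, Lt.pi] (hat (rb_9 hy) 2 rfl) h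
theorem dp_n_15_s (hy : Hy g H)
    (j u : ℕ) (hu : u < M) (h : dp_n_15 j u = true) : Gd g H Lt.n u := by
  unfold dp_n_15 at h
  rcases brec_true h with h | h
  · exact lS_good (T := T) (x := Lt.n) hM0 hu [Lt.n, Lt.n] (hat (rf_2 hy) 0 rfl) h
  · exact dp_n_14_s hy j u hu h
theorem dp_n_16_s (hy : Hy g H)
    (j u : ℕ) (hu : u < M) (h : dp_n_16 j u = true) : Gd g H Lt.n u := by
  unfold dp_n_16 at h
  rcases brec_true h with h | h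
  · exact lS_good (T := T) (x := Lt.n) hM0 hu [Lt.d, Lt.p, Lt.q, Lt.pi, Lt.pi, Lt.qi, Lt.pi, Lt.di, Lt.mi] (hat (rb_15 hy) 2 rfl) h
  · exact lS_good (T := T) (x := Lt.n) hM0 hu [Lt.p, Lt.ni, Lt.qi, Lt.n, Lt.p, Lt.ni, Lt.qi] (hat (rf_8 hy) 1 rfl) h
theorem dp_n_17_s (hy : Hy g H)
    (j u : ℕ) (hu : u < M) (h : dp_n_17 j u = true) : Gd g H Lt.n u := by
  unfold dp_n_17 at h
  rcases brec_true h with h | h
  · exact lS_good (T := T) (x := Lt.n) hM0 hu [Lt.pi, Lt.pi, Lt.q, Lt.n, Lt.pi, Lt.pi, Lt.q] (hat (rf_7 hy) 1 rfl) h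
  · exact dp_n_16_s hy j u hu h
theorem dp_n_18_s (hy : Hy g H)
    (j u : ℕ) (hu : u < M) (h : dp_n_18 j u = true) : Gd g H Lt.n u := by
  unfold dp_n_18 at h
  rcases brec_true h with h | h
  · exact dp_n_15_s hy j u hu h
  · exact dp_n_17_s hy j u hu h
theorem dp_n_19_s (hy : Hy g H)
    (j u : ℕ) (hu : u < M) (h : dp_n_19 j u = true) : Gd g H Lt.n u := by
  unfold dp_n_19 at h
  rcases brec_true h with h | h
  · exact lF_good (T := T) (x := Lt.n) hM0 [Lt.pi, Lt.ni, Lt.q, Lt.n, Lt.pi, Lt.ni, Lt.q] (hat (rb_8 hy) 2 rfl) h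
  · exact lF_good (T := T) (x := Lt.n) hM0 [Lt.pi, Lt.pi, Lt.q, Lt.n, Lt.pi, Lt.pi, Lt.q] (hat (rf_7 hy) 1 rfl) h
theorem dp_n_20_s (hy : Hy g H)
    (j u : ℕ) (hu : u < M) (h : dp_n_20 j u = true) : Gd g H Lt.n u := by
  unfold dp_n_20 at h
  rcases brec_true h with h | h
  · exact lS_good (T := T) (x := Lt.n) hM0 hu [Lt.qi, Lt.p, Lt.d, Lt.pi, Lt.q, Lt.ni, Lt.pi, Lt.d, Lt.p] (hat (rf_13 hy) 7 rfl) h
  · exact lS_good (T := T) (x := Lt.n) hM0 hu [Lt.pi, Lt.ni, Lt.q, Lt.n, Lt.pi, Lt.ni, Lt.q] (hat (rb_8 hy) 2 rfl) h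
theorem dp_n_21_s (hy : Hy g H)
    (j u : ℕ) (hu : u < M) (h : dp_n_21 j u = true) : Gd g H Lt.n u := by
  unfold dp_n_21 at h
  rcases brec_true h with h | h
  · exact dp_n_19_s hy j u hu h
  · exact dp_n_20_s hy j u hu h
theorem dp_n_22_s (hy : Hy g H)
    (j u : ℕ) (hu : u < M) (h : dp_n_22 j u = true) : Gd g H Lt.n u := by
  unfold dp_n_22 at h
  rcases brec_true h with h | h
  · exact lH_good (T := T) (x := Lt.n) hM0 [] [] (by rw [show cP g H 0 = _ from cc_zero]; exact sub_rel hy.1 (hy.2.2 _ (by decide))) h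
  · exact lF_good (T := T) (x := Lt.n) hM0 [Lt.mi, Lt.n, Lt.d, Lt.ni, Lt.m, Lt.ni, Lt.mi, Lt.di, Lt.m] (hat (rf_14 hy) 2 rfl) h
theorem dp_n_23_s (hy : Hy g H)
    (j u : ℕ) (hu : u < M) (h : dp_n_23 j u = true) : Gd g H Lt.n u := by
  unfold dp_n_23 at h
  rcases brec_true h with h | h
  · exact lS_good (T := T) (x := Lt.n) hM0 hu [Lt.qi, Lt.p, Lt.ni, Lt.p, Lt.n, Lt.pi, Lt.pi] (hat (rf_9 hy) 4 rfl) h
  · exact lS_good (T := T) (x := Lt.n) hM0 hu [Lt.mi, Lt.n, Lt.d, Lt.ni, Lt.m, Lt.ni, Lt.mi, Lt.di, Lt.m] (hat (rf_14 hy) 2 rfl) h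
theorem dp_n_24_s (hy : Hy g H)
    (j u : ℕ) (hu : u < M) (h : dp_n_24 j u = true) : Gd g H Lt.n u := by
  unfold dp_n_24 at h
  rcases brec_true h with h | h
  · exact lF_good (T := T) (x := Lt.n) hM0 [Lt.d, Lt.p, Lt.q, Lt.pi, Lt.pi, Lt.qi, Lt.pi, Lt.di, Lt.mi] (hat (rb_15 hy) 2 rfl) h
  · exact dp_n_23_s hy j u hu h
theorem dp_n_25_s (hy : Hy g H)
    (j u : ℕ) (hu : u < M) (h : dp_n_25 j u = true) : Gd g H Lt.n u := by
  unfold dp_n_25 at h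
  rcases brec_true h with h | h
  · exact dp_n_22_s hy j u hu h
  · exact dp_n_24_s hy j u hu h
theorem dp_n_26_s (hy : Hy g H)
    (j u : ℕ) (hu : u < M) (h : dp_n_26 j u = true) : Gd g H Lt.n u := by
  unfold dp_n_26 at h
  rcases brec_true h with h | h
  · exact lF_good (T := T) (x := Lt.n) hM0 [Lt.qi, Lt.p, Lt.d, Lt.pi, Lt.q, Lt.ni, Lt.pi, Lt.d, Lt.p] (hat (rf_13 hy) 7 rfl) h
  · exact lS_good (T := T) (x := Lt.n) hM0 hu [Lt.qi, Lt.p, Lt.d, Lt.q, Lt.di, Lt.pi, Lt.q, Lt.ni, Lt.q] (hat (rf_16 hy) 8 rfl) h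
theorem dp_n_27_s (hy : Hy g H)
    (j u : ℕ) (hu : u < M) (h : dp_n_27 j u = true) : Gd g H Lt.n u := by
  unfold dp_n_27 at h
  rcases brec_true h with h | h
  · exact lS_good (T := T) (x := Lt.n) hM0 hu [Lt.qi, Lt.p, Lt.di, Lt.pi, Lt.q, Lt.ni, Lt.pi, Lt.di, Lt.p] (hat (rb_13 hy) 8 rfl) h
  · exact lS_good (T := T) (x := Lt.n) hM0 hu [Lt.qi, Lt.p, Lt.d, Lt.qi, Lt.di, Lt.pi, Lt.q, Lt.ni, Lt.qi] (hat (rb_16 hy) 5 rfl) h
theorem dp_n_28_s (hy : Hy g H)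
    (j u : ℕ) (hu : u < M) (h : dp_n_28 j u = true) : Gd g H Lt.n u := by
  unfold dp_n_28 at h
  rcases brec_true h with h | h
  · exact lS_good (T := T) (x := Lt.n) hM0 hu [Lt.d, Lt.ni, Lt.m, Lt.ni, Lt.mi, Lt.di, Lt.m, Lt.n, Lt.mi] (hat (rf_14 hy) 4 rfl) h
  · exact dp_n_27_s hy j u hu h
theorem dp_n_29_s (hy : Hy g H)
    (j u : ℕ) (hu : u < M) (h : dp_n_29 j u = true) : Gd g H Lt.n u := by
  unfold dp_n_29 at h
  rcases brec_true h with h | h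
  · exact dp_n_26_s hy j u hu h
  · exact dp_n_28_s hy j u hu h
theorem dp_n_30_s (hy : Hy g H)
    (j u : ℕ) (hu : u < M) (h : dp_n_30 j u = true) : Gd g H Lt.n u := by
  unfold dp_n_30 at h
  rcases brec_true h with h | h
  · exact dp_n_25_s hy j u hu h
  · exact dp_n_29_s hy j u hu h
theorem dp_n_31_s (hy : Hy g H)
    (j u : ℕ) (hu : u < M) (h : dp_n_31 j u = true) : Gd g H Lt.n u := by
  unfold dp_n_31 at h
  rcases brec_true h with h | h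
  · exact dp_n_21_s hy j u hu h
  · exact dp_n_30_s hy j u hu h
theorem dp_n_32_s (hy : Hy g H)
    (j u : ℕ) (hu : u < M) (h : dp_n_32 j u = true) : Gd g H Lt.n u := by
  unfold dp_n_32 at h
  rcases brec_true h with h | h
  · exact dp_n_18_s hy j u hu h
  · exact dp_n_31_s hy j u hu h
theorem dp_n_33_s (hy : Hy g H)
    (j u : ℕ) (hu : u < M) (h : dp_n_33 j u = true) : Gd g H Lt.n u := by
  unfold dp_n_33 at h
  rcases brec_true h with h | h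
  · exact dp_n_13_s hy j u hu h
  · exact dp_n_32_s hy j u hu h
theorem dp_n_34_s (hy : Hy g H)
    (j u : ℕ) (hu : u < M) (h : dp_n_34 j u = true) : Gd g H Lt.n u := by
  unfold dp_n_34 at h
  rcases brec_true h with h | h
  · exact dp_n_7_s hy j u hu h
  · exact dp_n_33_s hy j u hu h
theorem dp_n_35_s (hy : Hy g H)
    (j u : ℕ) (hu : u < M) (h : dp_n_35 j u = true) : Gd g H Lt.n u := by
  unfold dp_n_35 at h
  rcases brec_true h with h | h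
  · rcases brec_true h with h | h
    · exact lPar_good (T := T) (x := Lt.n) (x' := Lt.ni) (by decide) rfl (ivt hy _ _ rfl) h
    · exact lS_good (T := T) (x := Lt.n) hM0 hu [Lt.ni] (hat (rf_19 hy) 1 rfl) h
  · exact dp_n_34_s hy j u hu h
theorem snd_n (hy : Hy g H)
    (j u : ℕ) (hu : u < M) (h : disp_n j u = true) : Gd g H Lt.n u := by
  unfold disp_n at h
  rcases brec_true h with h | h
  · rcases brec_true h with h | h
    · exact lF1_good (T := T) (x := Lt.n) hM0 .ni (hat (rf_19 hy) 1 rfl) h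
    · rcases brec_true h with h | h
      · exact lF_good (T := T) (x := Lt.n) hM0 [Lt.n, Lt.n] (hat (rf_2 hy) 0 rfl) h
      · exact lDef_good (T := T) (x := Lt.n) (by decide) rfl h
  · exact dp_n_35_s hy j u hu h
theorem snc_n (hy : Hy g H)
    (j u : ℕ) (hu : u < M) (h : chk_n j u = true) : (T Lt.n u < A ∧ Gd g H Lt.n u) ∨ (A ≤ T Lt.n u ∧ MG u < A) := by
  unfold chk_n at h
  cases hb : Nat.ble A (T_n u) with
  | true => rw [hb] at h; exact Or.inr ⟨le_of_ble hb, le_of_ble h⟩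
  | false => rw [hb] at h; exact Or.inl ⟨lt_of_ble_false hb, snd_n hy j u hu h⟩
theorem dp_ni_0_s (hy : Hy g H)
    (j u : ℕ) (hu : u < M) (h : dp_ni_0 j u = true) : Gd g H Lt.ni u := by
  unfold dp_ni_0 at h
  rcases brec_true h with h | h
  · exact lS_good (T := T) (x := Lt.ni) hM0 hu [Lt.q, Lt.n, Lt.qi, Lt.p, Lt.n, Lt.pi, Lt.q] (hat (rf_6 hy) 4 rfl) h
  · exact lF_good (T := T) (x := Lt.ni) hM0 [Lt.qi, Lt.n, Lt.qi, Lt.p, Lt.ni, Lt.pi, Lt.q] (hat (rb_6 hy) 3 rfl) h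
theorem dp_ni_1_s (hy : Hy g H)
    (j u : ℕ) (hu : u < M) (h : dp_ni_1 j u = true) : Gd g H Lt.ni u := by
  unfold dp_ni_1 at h
  rcases brec_true h with h | h
  · exact lS_good (T := T) (x := Lt.ni) hM0 hu [Lt.mi, Lt.mi, Lt.mi, Lt.d, Lt.qi, Lt.p, Lt.di, Lt.m] (hat (rb_11 hy) 2 rfl) h
  · exact dp_ni_0_s hy j u hu h
theorem dp_ni_2_s (hy : Hy g H)
    (j u : ℕ) (hu : u < M) (h : dp_ni_2 j u = true) : Gd g H Lt.ni u := by
  unfold dp_ni_2 at h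
  rcases brec_true h with h | h
  · exact lF_good (T := T) (x := Lt.ni) hM0 [Lt.q, Lt.n, Lt.qi, Lt.p, Lt.n, Lt.pi, Lt.q] (hat (rf_6 hy) 4 rfl) h
  · exact dp_ni_1_s hy j u hu h
theorem dp_ni_3_s (hy : Hy g H)
    (j u : ℕ) (hu : u < M) (h : dp_ni_3 j u = true) : Gd g H Lt.ni u := by
  unfold dp_ni_3 at h
  rcases brec_true h with h | h
  · exact lF_good (T := T) (x := Lt.ni) hM0 [Lt.pi, Lt.q, Lt.ni, Lt.qi, Lt.n, Lt.qi, Lt.p] (hat (rb_6 hy) 0 rfl) h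
  · exact lS_good (T := T) (x := Lt.ni) hM0 hu [Lt.qi, Lt.n, Lt.qi, Lt.p, Lt.ni, Lt.pi, Lt.q] (hat (rb_6 hy) 3 rfl) h
theorem dp_ni_4_s (hy : Hy g H)
    (j u : ℕ) (hu : u < M) (h : dp_ni_4 j u = true) : Gd g H Lt.ni u := by
  unfold dp_ni_4 at h
  rcases brec_true h with h | h
  · exact lS_good (T := T) (x := Lt.ni) hM0 hu [Lt.mi, Lt.mi, Lt.d, Lt.pi, Lt.qi, Lt.di, Lt.m, Lt.m] (hat (rb_10 hy) 3 rfl) h
  · exact dp_ni_3_s hy j u hu h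
theorem dp_ni_5_s (hy : Hy g H)
    (j u : ℕ) (hu : u < M) (h : dp_ni_5 j u = true) : Gd g H Lt.ni u := by
  unfold dp_ni_5 at h
  rcases brec_true h with h | h
  · exact lF_good (T := T) (x := Lt.ni) hM0 [Lt.m, Lt.d, Lt.p, Lt.qi, Lt.di, Lt.mi, Lt.mi, Lt.mi] (hat (rb_12 hy) 4 rfl) h
  · exact lS_good (T := T) (x := Lt.ni) hM0 hu [Lt.m, Lt.d, Lt.p, Lt.qi, Lt.di, Lt.mi, Lt.mi, Lt.mi] (hat (rb_12 hy) 4 rfl) h
theorem dp_ni_6_s (hy : Hy g H)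
    (j u : ℕ) (hu : u < M) (h : dp_ni_6 j u = true) : Gd g H Lt.ni u := by
  unfold dp_ni_6 at h
  rcases brec_true h with h | h
  · exact lS_good (T := T) (x := Lt.ni) hM0 hu [Lt.pi, Lt.q, Lt.ni, Lt.qi, Lt.n, Lt.qi, Lt.p] (hat (rb_6 hy) 0 rfl) h
  · exact lF_good (T := T) (x := Lt.ni) hM0 [Lt.p, Lt.n, Lt.pi, Lt.pi, Lt.n, Lt.qi, Lt.p] (hat (rf_9 hy) 7 rfl) h
theorem dp_ni_7_s (hy : Hy g H)
    (j u : ℕ) (hu : u < M) (h : dp_ni_7 j u = true) : Gd g H Lt.ni u := by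
  unfold dp_ni_7 at h
  rcases brec_true h with h | h
  · exact dp_ni_5_s hy j u hu h
  · exact dp_ni_6_s hy j u hu h
theorem dp_ni_8_s (hy : Hy g H)
    (j u : ℕ) (hu : u < M) (h : dp_ni_8 j u = true) : Gd g H Lt.ni u := by
  unfold dp_ni_8 at h
  rcases brec_true h with h | h
  · exact dp_ni_4_s hy j u hu h
  · exact dp_ni_7_s hy j u hu h
theorem dp_ni_9_s (hy : Hy g H)
    (j u : ℕ) (hu : u < M) (h : dp_ni_9 j u = true) : Gd g H Lt.ni u := by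
  unfold dp_ni_9 at h
  rcases brec_true h with h | h
  · exact lS_good (T := T) (x := Lt.ni) hM0 hu [Lt.mi, Lt.di, Lt.m, Lt.n, Lt.mi, Lt.n, Lt.d, Lt.ni, Lt.m] (hat (rf_14 hy) 8 rfl) h
  · exact lF_good (T := T) (x := Lt.ni) hM0 [Lt.mi, Lt.mi, Lt.mi, Lt.d, Lt.qi, Lt.p, Lt.di, Lt.m] (hat (rb_11 hy) 2 rfl) h
theorem dp_ni_10_s (hy : Hy g H)
    (j u : ℕ) (hu : u < M) (h : dp_ni_10 j u = true) : Gd g H Lt.ni u := by
  unfold dp_ni_10 at h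
  rcases brec_true h with h | h
  · exact lF_good (T := T) (x := Lt.ni) hM0 [Lt.pi, Lt.n, Lt.pi, Lt.q, Lt.ni, Lt.p, Lt.p] (hat (rb_9 hy) 0 rfl) h
  · exact dp_ni_9_s hy j u hu h
theorem dp_ni_11_s (hy : Hy g H)
    (j u : ℕ) (hu : u < M) (h : dp_ni_11 j u = true) : Gd g H Lt.ni u := by
  unfold dp_ni_11 at h
  rcases brec_true h with h | h
  · exact lS_good (T := T) (x := Lt.ni) hM0 hu [Lt.pi, Lt.n, Lt.pi, Lt.q, Lt.ni, Lt.p, Lt.p] (hat (rb_9 hy) 0 rfl) h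
  · exact lF_good (T := T) (x := Lt.ni) hM0 [Lt.qi, Lt.n, Lt.p, Lt.ni, Lt.qi, Lt.n, Lt.p] (hat (rf_8 hy) 3 rfl) h
theorem dp_ni_12_s (hy : Hy g H)
    (j u : ℕ) (hu : u < M) (h : dp_ni_12 j u = true) : Gd g H Lt.ni u := by
  unfold dp_ni_12 at h
  rcases brec_true h with h | h
  · exact lF_good (T := T) (x := Lt.ni) hM0 [Lt.q, Lt.n, Lt.pi, Lt.ni, Lt.q, Lt.n, Lt.pi] (hat (rb_8 hy) 0 rfl) h
  · exact dp_ni_11_s hy j u hu h
theorem dp_ni_13_s (hy : Hy g H)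
    (j u : ℕ) (hu : u < M) (h : dp_ni_13 j u = true) : Gd g H Lt.ni u := by
  unfold dp_ni_13 at h
  rcases brec_true h with h | h
  · exact dp_ni_10_s hy j u hu h
  · exact dp_ni_12_s hy j u hu h
theorem dp_ni_14_s (hy : Hy g H)
    (j u : ℕ) (hu : u < M) (h : dp_ni_14 j u = true) : Gd g H Lt.ni u := by
  unfold dp_ni_14 at h
  rcases brec_true h with h | h
  · exact lF_good (T := T) (x := Lt.ni) hM0 [Lt.qi, Lt.p, Lt.p, Lt.ni, Lt.qi, Lt.p, Lt.p] (hat (rb_7 hy) 0 rfl) h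
  · exact lF_good (T := T) (x := Lt.ni) hM0 [Lt.mi, Lt.mi, Lt.d, Lt.pi, Lt.qi, Lt.di, Lt.m, Lt.m] (hat (rb_10 hy) 3 rfl) h
theorem dp_ni_15_s (hy : Hy g H)
    (j u : ℕ) (hu : u < M) (h : dp_ni_15 j u = true) : Gd g H Lt.ni u := by
  unfold dp_ni_15 at h
  rcases brec_true h with h | h
  · exact lS_good (T := T) (x := Lt.ni) hM0 hu [Lt.qi, Lt.p, Lt.p, Lt.ni, Lt.qi, Lt.p, Lt.p] (hat (rb_7 hy) 0 rfl) h
  · exact lS_good (T := T) (x := Lt.ni) hM0 hu [Lt.qi, Lt.n, Lt.p, Lt.ni, Lt.qi, Lt.n, Lt.p] (hat (rf_8 hy) 3 rfl) h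
theorem dp_ni_16_s (hy : Hy g H)
    (j u : ℕ) (hu : u < M) (h : dp_ni_16 j u = true) : Gd g H Lt.ni u := by
  unfold dp_ni_16 at h
  rcases brec_true h with h | h
  · exact dp_ni_14_s hy j u hu h
  · exact dp_ni_15_s hy j u hu h
theorem dp_ni_17_s (hy : Hy g H)
    (j u : ℕ) (hu : u < M) (h : dp_ni_17 j u = true) : Gd g H Lt.ni u := by
  unfold dp_ni_17 at h
  rcases brec_true h with h | h
  · exact lS_good (T := T) (x := Lt.ni) hM0 hu [Lt.pi, Lt.d, Lt.p, Lt.n, Lt.qi, Lt.p, Lt.d, Lt.pi, Lt.q] (hat (rf_13 hy) 3 rfl) h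
  · exact lF_good (T := T) (x := Lt.ni) hM0 [Lt.m, Lt.d, Lt.p, Lt.q, Lt.p, Lt.p, Lt.qi, Lt.pi, Lt.di] (hat (rf_15 hy) 9 rfl) h
theorem dp_ni_18_s (hy : Hy g H)
    (j u : ℕ) (hu : u < M) (h : dp_ni_18 j u = true) : Gd g H Lt.ni u := by
  unfold dp_ni_18 at h
  rcases brec_true h with h | h
  · exact lS_good (T := T) (x := Lt.ni) hM0 hu [Lt.q, Lt.n, Lt.pi, Lt.ni, Lt.q, Lt.n, Lt.pi] (hat (rb_8 hy) 0 rfl) h
  · exact dp_ni_17_s hy j u hu h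
theorem dp_ni_19_s (hy : Hy g H)
    (j u : ℕ) (hu : u < M) (h : dp_ni_19 j u = true) : Gd g H Lt.ni u := by
  unfold dp_ni_19 at h
  rcases brec_true h with h | h
  · exact lS_good (T := T) (x := Lt.ni) hM0 hu [Lt.ni, Lt.ni] (hat (rb_2 hy) 0 rfl) h
  · exact lF_good (T := T) (x := Lt.ni) hM0 [Lt.pi, Lt.di, Lt.p, Lt.n, Lt.qi, Lt.p, Lt.di, Lt.pi, Lt.q] (hat (rb_13 hy) 4 rfl) h
theorem dp_ni_20_s (hy : Hy g H)
    (j u : ℕ) (hu : u < M) (h : dp_ni_20 j u = true) : Gd g H Lt.ni u := by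
  unfold dp_ni_20 at h
  rcases brec_true h with h | h
  · exact lS_good (T := T) (x := Lt.ni) hM0 hu [Lt.p, Lt.p, Lt.ni, Lt.pi, Lt.n, Lt.pi, Lt.q] (hat (rb_9 hy) 5 rfl) h
  · exact lS_good (T := T) (x := Lt.ni) hM0 hu [Lt.pi, Lt.di, Lt.p, Lt.n, Lt.qi, Lt.p, Lt.di, Lt.pi, Lt.q] (hat (rb_13 hy) 4 rfl) h
theorem dp_ni_21_s (hy : Hy g H)
    (j u : ℕ) (hu : u < M) (h : dp_ni_21 j u = true) : Gd g H Lt.ni u := by
  unfold dp_ni_21 at h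
  rcases brec_true h with h | h
  · exact lS_good (T := T) (x := Lt.ni) hM0 hu [Lt.p, Lt.n, Lt.pi, Lt.pi, Lt.n, Lt.qi, Lt.p] (hat (rf_9 hy) 7 rfl) h
  · exact dp_ni_20_s hy j u hu h
theorem dp_ni_22_s (hy : Hy g H)
    (j u : ℕ) (hu : u < M) (h : dp_ni_22 j u = true) : Gd g H Lt.ni u := by
  unfold dp_ni_22 at h
  rcases brec_true h with h | h
  · exact lF_good (T := T) (x := Lt.ni) hM0 [Lt.mi, Lt.di, Lt.m, Lt.n, Lt.mi, Lt.n, Lt.d, Lt.ni, Lt.m] (hat (rf_14 hy) 8 rfl) h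
  · exact dp_ni_21_s hy j u hu h
theorem dp_ni_23_s (hy : Hy g H)
    (j u : ℕ) (hu : u < M) (h : dp_ni_23 j u = true) : Gd g H Lt.ni u := by
  unfold dp_ni_23 at h
  rcases brec_true h with h | h
  · exact dp_ni_19_s hy j u hu h
  · exact dp_ni_22_s hy j u hu h
theorem dp_ni_24_s (hy : Hy g H)
    (j u : ℕ) (hu : u < M) (h : dp_ni_24 j u = true) : Gd g H Lt.ni u := by
  unfold dp_ni_24 at h
  rcases brec_true h with h | h
  · exact dp_ni_18_s hy j u hu h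
  · exact dp_ni_23_s hy j u hu h
theorem dp_ni_25_s (hy : Hy g H)
    (j u : ℕ) (hu : u < M) (h : dp_ni_25 j u = true) : Gd g H Lt.ni u := by
  unfold dp_ni_25 at h
  rcases brec_true h with h | h
  · exact dp_ni_16_s hy j u hu h
  · exact dp_ni_24_s hy j u hu h
theorem dp_ni_26_s (hy : Hy g H)
    (j u : ℕ) (hu : u < M) (h : dp_ni_26 j u = true) : Gd g H Lt.ni u := by
  unfold dp_ni_26 at h
  rcases brec_true h with h | h
  · exact dp_ni_13_s hy j u hu h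
  · exact dp_ni_25_s hy j u hu h
theorem dp_ni_27_s (hy : Hy g H)
    (j u : ℕ) (hu : u < M) (h : dp_ni_27 j u = true) : Gd g H Lt.ni u := by
  unfold dp_ni_27 at h
  rcases brec_true h with h | h
  · exact dp_ni_8_s hy j u hu h
  · exact dp_ni_26_s hy j u hu h
theorem dp_ni_28_s (hy : Hy g H)
    (j u : ℕ) (hu : u < M) (h : dp_ni_28 j u = true) : Gd g H Lt.ni u := by
  unfold dp_ni_28 at h
  rcases brec_true h with h | h
  · rcases brec_true h with h | h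
    · exact lF_good (T := T) (x := Lt.ni) hM0 [Lt.ni, Lt.ni] (hat (rb_2 hy) 0 rfl) h
    · exact dp_ni_2_s hy j u hu h
  · exact dp_ni_27_s hy j u hu h
theorem snd_ni (hy : Hy g H)
    (j u : ℕ) (hu : u < M) (h : disp_ni j u = true) : Gd g H Lt.ni u := by
  unfold disp_ni at h
  rcases brec_true h with h | h
  · rcases brec_true h with h | h
    · exact lF1_good (T := T) (x := Lt.ni) hM0 .n (hat (rf_19 hy) 0 rfl) h
    · exact lDef_good (T := T) (x := Lt.ni) (by decide) rfl h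
  · rcases brec_true h with h | h
    · rcases brec_true h with h | h
      · exact lPar_good (T := T) (x := Lt.ni) (x' := Lt.n) (by decide) rfl (ivt hy _ _ rfl) h
      · exact lS_good (T := T) (x := Lt.ni) hM0 hu [Lt.n] (hat (rf_19 hy) 0 rfl) h
    · exact dp_ni_28_s hy j u hu h
theorem snc_ni (hy : Hy g H)
    (j u : ℕ) (hu : u < M) (h : chk_ni j u = true) : (T Lt.ni u < A ∧ Gd g H Lt.ni u) ∨ (A ≤ T Lt.ni u ∧ MG u < A) := by
  unfold chk_ni at h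
  cases hb : Nat.ble A (T_ni u) with
  | true => rw [hb] at h; exact Or.inr ⟨le_of_ble hb, le_of_ble h⟩
  | false => rw [hb] at h; exact Or.inl ⟨lt_of_ble_false hb, snd_ni hy j u hu h⟩
theorem dp_p_0_s (hy : Hy g H)
    (j u : ℕ) (hu : u < M) (h : dp_p_0 j u = true) : Gd g H Lt.p u := by
  unfold dp_p_0 at h
  rcases brec_true h with h | h
  · exact lF_good (T := T) (x := Lt.p) hM0 [Lt.p, Lt.ni, Lt.qi, Lt.p, Lt.p, Lt.ni, Lt.qi] (hat (rb_7 hy) 2 rfl) h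
  · exact lF_good (T := T) (x := Lt.p) hM0 [Lt.q, Lt.pi, Lt.q, Lt.p, Lt.q, Lt.pi, Lt.q] (hat (rf_3 hy) 1 rfl) h
theorem dp_p_1_s (hy : Hy g H)
    (j u : ℕ) (hu : u < M) (h : dp_p_1 j u = true) : Gd g H Lt.p u := by
  unfold dp_p_1 at h
  rcases brec_true h with h | h
  · exact lF_good (T := T) (x := Lt.p) hM0 [Lt.qi, Lt.pi, Lt.qi, Lt.p, Lt.qi, Lt.pi, Lt.qi] (hat (rb_3 hy) 2 rfl) h
  · exact lS_good (T := T) (x := Lt.p) hM0 hu [Lt.q, Lt.mi, Lt.q, Lt.p, Lt.q, Lt.mi, Lt.q] (hat (rb_4 hy) 2 rfl) h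
theorem dp_p_2_s (hy : Hy g H)
    (j u : ℕ) (hu : u < M) (h : dp_p_2 j u = true) : Gd g H Lt.p u := by
  unfold dp_p_2 at h
  rcases brec_true h with h | h
  · exact dp_p_0_s hy j u hu h
  · exact dp_p_1_s hy j u hu h
theorem dp_p_3_s (hy : Hy g H)
    (j u : ℕ) (hu : u < M) (h : dp_p_3 j u = true) : Gd g H Lt.p u := by
  unfold dp_p_3 at h
  rcases brec_true h with h | h
  · exact lF_good (T := T) (x := Lt.p) hM0 [Lt.n, Lt.pi, Lt.pi, Lt.n, Lt.qi, Lt.p, Lt.ni] (hat (rf_9 hy) 0 rfl) h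
  · exact lF_good (T := T) (x := Lt.p) hM0 [Lt.ni, Lt.qi, Lt.n, Lt.p, Lt.ni, Lt.qi, Lt.n] (hat (rf_8 hy) 2 rfl) h
theorem dp_p_4_s (hy : Hy g H)
    (j u : ℕ) (hu : u < M) (h : dp_p_4 j u = true) : Gd g H Lt.p u := by
  unfold dp_p_4 at h
  rcases brec_true h with h | h
  · exact lS_good (T := T) (x := Lt.p) hM0 hu [Lt.qi, Lt.pi, Lt.qi, Lt.p, Lt.qi, Lt.pi, Lt.qi] (hat (rb_3 hy) 2 rfl) h
  · exact dp_p_3_s hy j u hu h
theorem dp_p_5_s (hy : Hy g H)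
    (j u : ℕ) (hu : u < M) (h : dp_p_5 j u = true) : Gd g H Lt.p u := by
  unfold dp_p_5 at h
  rcases brec_true h with h | h
  · exact lF_good (T := T) (x := Lt.p) hM0 [Lt.ni, Lt.pi, Lt.n, Lt.pi, Lt.q, Lt.ni, Lt.p] (hat (rb_9 hy) 7 rfl) h
  · exact lS_good (T := T) (x := Lt.p) hM0 hu [Lt.n, Lt.pi, Lt.pi, Lt.n, Lt.qi, Lt.p, Lt.ni] (hat (rf_9 hy) 0 rfl) h
theorem dp_p_6_s (hy : Hy g H)
    (j u : ℕ) (hu : u < M) (h : dp_p_6 j u = true) : Gd g H Lt.p u := by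
  unfold dp_p_6 at h
  rcases brec_true h with h | h
  · exact lF_good (T := T) (x := Lt.p) hM0 [Lt.q, Lt.mi, Lt.q, Lt.p, Lt.q, Lt.mi, Lt.q] (hat (rb_4 hy) 2 rfl) h
  · exact lS_good (T := T) (x := Lt.p) hM0 hu [Lt.q, Lt.pi, Lt.q, Lt.p, Lt.q, Lt.pi, Lt.q] (hat (rf_3 hy) 1 rfl) h
theorem dp_p_7_s (hy : Hy g H)
    (j u : ℕ) (hu : u < M) (h : dp_p_7 j u = true) : Gd g H Lt.p u := by
  unfold dp_p_7 at h
  rcases brec_true h with h | h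
  · exact dp_p_5_s hy j u hu h
  · exact dp_p_6_s hy j u hu h
theorem dp_p_8_s (hy : Hy g H)
    (j u : ℕ) (hu : u < M) (h : dp_p_8 j u = true) : Gd g H Lt.p u := by
  unfold dp_p_8 at h
  rcases brec_true h with h | h
  · exact dp_p_4_s hy j u hu h
  · exact dp_p_7_s hy j u hu h
theorem dp_p_9_s (hy : Hy g H)
    (j u : ℕ) (hu : u < M) (h : dp_p_9 j u = true) : Gd g H Lt.p u := by
  unfold dp_p_9 at h
  rcases brec_true h with h | h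
  · exact dp_p_2_s hy j u hu h
  · exact dp_p_8_s hy j u hu h
theorem dp_p_10_s (hy : Hy g H)
    (j u : ℕ) (hu : u < M) (h : dp_p_10 j u = true) : Gd g H Lt.p u := by
  unfold dp_p_10 at h
  rcases brec_true h with h | h
  · exact lS_good (T := T) (x := Lt.p) hM0 hu [Lt.qi, Lt.di, Lt.mi, Lt.mi, Lt.mi, Lt.ni, Lt.m, Lt.d] (hat (rb_12 hy) 7 rfl) h
  · exact lF_good (T := T) (x := Lt.p) hM0 [Lt.q, Lt.p, Lt.m, Lt.qi, Lt.pi, Lt.qi, Lt.m] (hat (rf_5 hy) 2 rfl) h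
theorem dp_p_11_s (hy : Hy g H)
    (j u : ℕ) (hu : u < M) (h : dp_p_11 j u = true) : Gd g H Lt.p u := by
  unfold dp_p_11 at h
  rcases brec_true h with h | h
  · exact lF_good (T := T) (x := Lt.p) hM0 [Lt.n, Lt.pi, Lt.q, Lt.ni, Lt.q, Lt.n, Lt.qi] (hat (rf_6 hy) 0 rfl) h
  · exact lF_good (T := T) (x := Lt.p) hM0 [Lt.di, Lt.m, Lt.m, Lt.n, Lt.mi, Lt.mi, Lt.d, Lt.q] (hat (rf_10 hy) 3 rfl) h
theorem dp_p_12_s (hy : Hy g H)
    (j u : ℕ) (hu : u < M) (h : dp_p_12 j u = true) : Gd g H Lt.p u := by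
  unfold dp_p_12 at h
  rcases brec_true h with h | h
  · exact dp_p_10_s hy j u hu h
  · exact dp_p_11_s hy j u hu h
theorem dp_p_13_s (hy : Hy g H)
    (j u : ℕ) (hu : u < M) (h : dp_p_13 j u = true) : Gd g H Lt.p u := by
  unfold dp_p_13 at h
  rcases brec_true h with h | h
  · exact lS_good (T := T) (x := Lt.p) hM0 hu [Lt.di, Lt.m, Lt.ni, Lt.mi, Lt.mi, Lt.mi, Lt.d, Lt.qi] (hat (rb_11 hy) 8 rfl) h
  · exact lS_good (T := T) (x := Lt.p) hM0 hu [Lt.m, Lt.qi, Lt.pi, Lt.qi, Lt.m, Lt.p, Lt.q] (hat (rf_5 hy) 4 rfl) h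
theorem dp_p_14_s (hy : Hy g H)
    (j u : ℕ) (hu : u < M) (h : dp_p_14 j u = true) : Gd g H Lt.p u := by
  unfold dp_p_14 at h
  rcases brec_true h with h | h
  · exact lS_good (T := T) (x := Lt.p) hM0 hu [Lt.q, Lt.p, Lt.m, Lt.qi, Lt.pi, Lt.qi, Lt.m] (hat (rf_5 hy) 2 rfl) h
  · exact lS_good (T := T) (x := Lt.p) hM0 hu [Lt.p, Lt.ni, Lt.qi, Lt.p, Lt.p, Lt.ni, Lt.qi] (hat (rb_7 hy) 2 rfl) h
theorem dp_p_15_s (hy : Hy g H)
    (j u : ℕ) (hu : u < M) (h : dp_p_15 j u = true) : Gd g H Lt.p u := by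
  unfold dp_p_15 at h
  rcases brec_true h with h | h
  · exact lF_good (T := T) (x := Lt.p) hM0 [Lt.p, Lt.ni, Lt.pi, Lt.n, Lt.pi, Lt.q, Lt.ni] (hat (rb_9 hy) 6 rfl) h
  · exact dp_p_14_s hy j u hu h
theorem dp_p_16_s (hy : Hy g H)
    (j u : ℕ) (hu : u < M) (h : dp_p_16 j u = true) : Gd g H Lt.p u := by
  unfold dp_p_16 at h
  rcases brec_true h with h | h
  · exact dp_p_13_s hy j u hu h
  · exact dp_p_15_s hy j u hu h
theorem dp_p_17_s (hy : Hy g H)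
    (j u : ℕ) (hu : u < M) (h : dp_p_17 j u = true) : Gd g H Lt.p u := by
  unfold dp_p_17 at h
  rcases brec_true h with h | h
  · exact dp_p_12_s hy j u hu h
  · exact dp_p_16_s hy j u hu h
theorem dp_p_18_s (hy : Hy g H)
    (j u : ℕ) (hu : u < M) (h : dp_p_18 j u = true) : Gd g H Lt.p u := by
  unfold dp_p_18 at h
  rcases brec_true h with h | h
  · exact lF_good (T := T) (x := Lt.p) hM0 [Lt.ni, Lt.qi, Lt.p, Lt.p, Lt.ni, Lt.qi, Lt.p] (hat (rb_7 hy) 3 rfl) h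
  · exact lF_good (T := T) (x := Lt.p) hM0 [Lt.qi, Lt.di, Lt.mi, Lt.mi, Lt.mi, Lt.ni, Lt.m, Lt.d] (hat (rb_12 hy) 7 rfl) h
theorem dp_p_19_s (hy : Hy g H)
    (j u : ℕ) (hu : u < M) (h : dp_p_19 j u = true) : Gd g H Lt.p u := by
  unfold dp_p_19 at h
  rcases brec_true h with h | h
  · exact lF_good (T := T) (x := Lt.p) hM0 [Lt.di, Lt.m, Lt.ni, Lt.mi, Lt.mi, Lt.mi, Lt.d, Lt.qi] (hat (rb_11 hy) 8 rfl) h
  · exact dp_p_18_s hy j u hu h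
theorem dp_p_20_s (hy : Hy g H)
    (j u : ℕ) (hu : u < M) (h : dp_p_20 j u = true) : Gd g H Lt.p u := by
  unfold dp_p_20 at h
  rcases brec_true h with h | h
  · exact lS_good (T := T) (x := Lt.p) hM0 hu [Lt.ni, Lt.qi, Lt.p, Lt.p, Lt.ni, Lt.qi, Lt.p] (hat (rb_7 hy) 3 rfl) h
  · exact lS_good (T := T) (x := Lt.p) hM0 hu [Lt.di, Lt.pi, Lt.q, Lt.ni, Lt.pi, Lt.di, Lt.p, Lt.n, Lt.qi] (hat (rb_13 hy) 0 rfl) h
theorem dp_p_21_s (hy : Hy g H)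
    (j u : ℕ) (hu : u < M) (h : dp_p_21 j u = true) : Gd g H Lt.p u := by
  unfold dp_p_21 at h
  rcases brec_true h with h | h
  · exact lS_good (T := T) (x := Lt.p) hM0 hu [Lt.ni, Lt.qi, Lt.n, Lt.p, Lt.ni, Lt.qi, Lt.n] (hat (rf_8 hy) 2 rfl) h
  · exact dp_p_20_s hy j u hu h
theorem dp_p_22_s (hy : Hy g H)
    (j u : ℕ) (hu : u < M) (h : dp_p_22 j u = true) : Gd g H Lt.p u := by
  unfold dp_p_22 at h
  rcases brec_true h with h | h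
  · exact dp_p_19_s hy j u hu h
  · exact dp_p_21_s hy j u hu h
theorem dp_p_23_s (hy : Hy g H)
    (j u : ℕ) (hu : u < M) (h : dp_p_23 j u = true) : Gd g H Lt.p u := by
  unfold dp_p_23 at h
  rcases brec_true h with h | h
  · exact lS_good (T := T) (x := Lt.p) hM0 hu [Lt.p, Lt.ni, Lt.pi, Lt.n, Lt.pi, Lt.q, Lt.ni] (hat (rb_9 hy) 6 rfl) h
  · exact lS_good (T := T) (x := Lt.p) hM0 hu [Lt.n, Lt.qi, Lt.p, Lt.di, Lt.pi, Lt.q, Lt.ni, Lt.pi, Lt.di] (hat (rb_13 hy) 7 rfl) h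
theorem dp_p_24_s (hy : Hy g H)
    (j u : ℕ) (hu : u < M) (h : dp_p_24 j u = true) : Gd g H Lt.p u := by
  unfold dp_p_24 at h
  rcases brec_true h with h | h
  · exact lS_good (T := T) (x := Lt.p) hM0 hu [Lt.ni, Lt.pi, Lt.q, Lt.ni, Lt.qi, Lt.n, Lt.qi] (hat (rb_6 hy) 7 rfl) h
  · exact lS_good (T := T) (x := Lt.p) hM0 hu [Lt.n, Lt.pi, Lt.q, Lt.ni, Lt.q, Lt.n, Lt.qi] (hat (rf_6 hy) 0 rfl) h
theorem dp_p_25_s (hy : Hy g H)
    (j u : ℕ) (hu : u < M) (h : dp_p_25 j u = true) : Gd g H Lt.p u := by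
  unfold dp_p_25 at h
  rcases brec_true h with h | h
  · exact lF_good (T := T) (x := Lt.p) hM0 [Lt.ni, Lt.p, Lt.n, Lt.pi, Lt.pi, Lt.n, Lt.qi] (hat (rf_9 hy) 6 rfl) h
  · exact dp_p_24_s hy j u hu h
theorem dp_p_26_s (hy : Hy g H)
    (j u : ℕ) (hu : u < M) (h : dp_p_26 j u = true) : Gd g H Lt.p u := by
  unfold dp_p_26 at h
  rcases brec_true h with h | h
  · exact dp_p_23_s hy j u hu h
  · exact dp_p_25_s hy j u hu h
theorem dp_p_27_s (hy : Hy g H)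
    (j u : ℕ) (hu : u < M) (h : dp_p_27 j u = true) : Gd g H Lt.p u := by
  unfold dp_p_27 at h
  rcases brec_true h with h | h
  · exact lS_good (T := T) (x := Lt.p) hM0 hu [Lt.ni, Lt.pi, Lt.n, Lt.pi, Lt.q, Lt.ni, Lt.p] (hat (rb_9 hy) 7 rfl) h
  · exact lS_good (T := T) (x := Lt.p) hM0 hu [Lt.di, Lt.m, Lt.m, Lt.n, Lt.mi, Lt.mi, Lt.d, Lt.q] (hat (rf_10 hy) 3 rfl) h
theorem dp_p_28_s (hy : Hy g H)
    (j u : ℕ) (hu : u < M) (h : dp_p_28 j u = true) : Gd g H Lt.p u := by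
  unfold dp_p_28 at h
  rcases brec_true h with h | h
  · exact lF_good (T := T) (x := Lt.p) hM0 [Lt.m, Lt.qi, Lt.pi, Lt.qi, Lt.m, Lt.p, Lt.q] (hat (rf_5 hy) 4 rfl) h
  · exact lS_good (T := T) (x := Lt.p) hM0 hu [Lt.d, Lt.pi, Lt.q, Lt.ni, Lt.pi, Lt.d, Lt.p, Lt.n, Lt.qi] (hat (rf_13 hy) 9 rfl) h
theorem dp_p_29_s (hy : Hy g H)
    (j u : ℕ) (hu : u < M) (h : dp_p_29 j u = true) : Gd g H Lt.p u := by
  unfold dp_p_29 at h
  rcases brec_true h with h | h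
  · exact lH_good (T := T) (x := Lt.p) hM0 [] [] (by rw [show cP g H 0 = _ from cc_zero]; exact sub_rel hy.1 (hy.2.2 _ (by decide))) h
  · exact lF_good (T := T) (x := Lt.p) hM0 [Lt.d, Lt.q, Lt.di, Lt.pi, Lt.q, Lt.ni, Lt.q, Lt.n, Lt.qi] (hat (rf_16 hy) 0 rfl) h
theorem dp_p_30_s (hy : Hy g H)
    (j u : ℕ) (hu : u < M) (h : dp_p_30 j u = true) : Gd g H Lt.p u := by
  unfold dp_p_30 at h
  rcases brec_true h with h | h
  · exact lF_good (T := T) (x := Lt.p) hM0 [Lt.ni, Lt.pi, Lt.q, Lt.ni, Lt.qi, Lt.n, Lt.qi] (hat (rb_6 hy) 7 rfl) h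
  · exact dp_p_29_s hy j u hu h
theorem dp_p_31_s (hy : Hy g H)
    (j u : ℕ) (hu : u < M) (h : dp_p_31 j u = true) : Gd g H Lt.p u := by
  unfold dp_p_31 at h
  rcases brec_true h with h | h
  · exact dp_p_28_s hy j u hu h
  · exact dp_p_30_s hy j u hu h
theorem dp_p_32_s (hy : Hy g H)
    (j u : ℕ) (hu : u < M) (h : dp_p_32 j u = true) : Gd g H Lt.p u := by
  unfold dp_p_32 at h
  rcases brec_true h with h | h
  · exact dp_p_27_s hy j u hu h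
  · exact dp_p_31_s hy j u hu h
theorem dp_p_33_s (hy : Hy g H)
    (j u : ℕ) (hu : u < M) (h : dp_p_33 j u = true) : Gd g H Lt.p u := by
  unfold dp_p_33 at h
  rcases brec_true h with h | h
  · exact dp_p_26_s hy j u hu h
  · exact dp_p_32_s hy j u hu h
theorem dp_p_34_s (hy : Hy g H)
    (j u : ℕ) (hu : u < M) (h : dp_p_34 j u = true) : Gd g H Lt.p u := by
  unfold dp_p_34 at h
  rcases brec_true h with h | h
  · exact dp_p_22_s hy j u hu h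
  · exact dp_p_33_s hy j u hu h
theorem dp_p_35_s (hy : Hy g H)
    (j u : ℕ) (hu : u < M) (h : dp_p_35 j u = true) : Gd g H Lt.p u := by
  unfold dp_p_35 at h
  rcases brec_true h with h | h
  · exact dp_p_17_s hy j u hu h
  · exact dp_p_34_s hy j u hu h
theorem dp_p_36_s (hy : Hy g H)
    (j u : ℕ) (hu : u < M) (h : dp_p_36 j u = true) : Gd g H Lt.p u := by
  unfold dp_p_36 at h
  rcases brec_true h with h | h
  · exact dp_p_9_s hy j u hu h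
  · exact dp_p_35_s hy j u hu h
theorem snd_p (hy : Hy g H)
    (j u : ℕ) (hu : u < M) (h : disp_p j u = true) : Gd g H Lt.p u := by
  unfold disp_p at h
  rcases brec_true h with h | h
  · rcases brec_true h with h | h
    · exact lF1_good (T := T) (x := Lt.p) hM0 .pi (hat (rf_21 hy) 1 rfl) h
    · exact lDef_good (T := T) (x := Lt.p) (by decide) rfl h
  · rcases brec_true h with h | h
    · rcases brec_true h with h | h
      · exact lPar_good (T := T) (x := Lt.p) (x' := Lt.pi) (by decide) rfl (ivt hy _ _ rfl) h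
      · exact lS_good (T := T) (x := Lt.p) hM0 hu [Lt.pi] (hat (rf_21 hy) 1 rfl) h
    · exact dp_p_36_s hy j u hu h
theorem snc_p (hy : Hy g H)
    (j u : ℕ) (hu : u < M) (h : chk_p j u = true) : (T Lt.p u < A ∧ Gd g H Lt.p u) ∨ (A ≤ T Lt.p u ∧ MG u < A) := by
  unfold chk_p at h
  cases hb : Nat.ble A (T_p u) with
  | true => rw [hb] at h; exact Or.inr ⟨le_of_ble hb, le_of_ble h⟩
  | false => rw [hb] at h; exact Or.inl ⟨lt_of_ble_false hb, snd_p hy j u hu h⟩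
theorem dp_pi_0_s (hy : Hy g H)
    (j u : ℕ) (hu : u < M) (h : dp_pi_0 j u = true) : Gd g H Lt.pi u := by
  unfold dp_pi_0 at h
  rcases brec_true h with h | h
  · exact lS_good (T := T) (x := Lt.pi) hM0 hu [Lt.n, Lt.pi, Lt.q, Lt.ni, Lt.p, Lt.p, Lt.ni] (hat (rb_9 hy) 1 rfl) h
  · exact lF_good (T := T) (x := Lt.pi) hM0 [Lt.q, Lt.p, Lt.q, Lt.pi, Lt.q, Lt.p, Lt.q] (hat (rf_3 hy) 3 rfl) h
theorem dp_pi_1_s (hy : Hy g H)
    (j u : ℕ) (hu : u < M) (h : dp_pi_1 j u = true) : Gd g H Lt.pi u := by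
  unfold dp_pi_1 at h
  rcases brec_true h with h | h
  · exact lF_good (T := T) (x := Lt.pi) hM0 [Lt.qi, Lt.p, Lt.qi, Lt.pi, Lt.qi, Lt.p, Lt.qi] (hat (rb_3 hy) 0 rfl) h
  · exact lS_good (T := T) (x := Lt.pi) hM0 hu [Lt.q, Lt.p, Lt.q, Lt.pi, Lt.q, Lt.p, Lt.q] (hat (rf_3 hy) 3 rfl) h
theorem dp_pi_2_s (hy : Hy g H)
    (j u : ℕ) (hu : u < M) (h : dp_pi_2 j u = true) : Gd g H Lt.pi u := by
  unfold dp_pi_2 at h
  rcases brec_true h with h | h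
  · exact dp_pi_0_s hy j u hu h
  · exact dp_pi_1_s hy j u hu h
theorem dp_pi_3_s (hy : Hy g H)
    (j u : ℕ) (hu : u < M) (h : dp_pi_3 j u = true) : Gd g H Lt.pi u := by
  unfold dp_pi_3 at h
  rcases brec_true h with h | h
  · exact lF_good (T := T) (x := Lt.pi) hM0 [Lt.n, Lt.pi, Lt.q, Lt.ni, Lt.p, Lt.p, Lt.ni] (hat (rb_9 hy) 1 rfl) h
  · exact lF_good (T := T) (x := Lt.pi) hM0 [Lt.ni, Lt.q, Lt.n, Lt.pi, Lt.ni, Lt.q, Lt.n] (hat (rb_8 hy) 3 rfl) h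
theorem dp_pi_4_s (hy : Hy g H)
    (j u : ℕ) (hu : u < M) (h : dp_pi_4 j u = true) : Gd g H Lt.pi u := by
  unfold dp_pi_4 at h
  rcases brec_true h with h | h
  · exact lF_good (T := T) (x := Lt.pi) hM0 [Lt.pi, Lt.q, Lt.n, Lt.pi, Lt.pi, Lt.q, Lt.n] (hat (rf_7 hy) 2 rfl) h
  · exact dp_pi_3_s hy j u hu h
theorem dp_pi_5_s (hy : Hy g H)
    (j u : ℕ) (hu : u < M) (h : dp_pi_5 j u = true) : Gd g H Lt.pi u := by
  unfold dp_pi_5 at h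
  rcases brec_true h with h | h
  · exact lF_good (T := T) (x := Lt.pi) hM0 [Lt.q, Lt.n, Lt.pi, Lt.pi, Lt.q, Lt.n, Lt.pi] (hat (rf_7 hy) 3 rfl) h
  · exact lF_good (T := T) (x := Lt.pi) hM0 [Lt.pi, Lt.n, Lt.qi, Lt.p, Lt.ni, Lt.p, Lt.n] (hat (rf_9 hy) 2 rfl) h
theorem dp_pi_6_s (hy : Hy g H)
    (j u : ℕ) (hu : u < M) (h : dp_pi_6 j u = true) : Gd g H Lt.pi u := by
  unfold dp_pi_6 at h
  rcases brec_true h with h | h
  · exact lF_good (T := T) (x := Lt.pi) hM0 [Lt.qi, Lt.m, Lt.qi, Lt.pi, Lt.qi, Lt.m, Lt.qi] (hat (rf_4 hy) 3 rfl) h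
  · exact dp_pi_5_s hy j u hu h
theorem dp_pi_7_s (hy : Hy g H)
    (j u : ℕ) (hu : u < M) (h : dp_pi_7 j u = true) : Gd g H Lt.pi u := by
  unfold dp_pi_7 at h
  rcases brec_true h with h | h
  · exact dp_pi_4_s hy j u hu h
  · exact dp_pi_6_s hy j u hu h
theorem dp_pi_8_s (hy : Hy g H)
    (j u : ℕ) (hu : u < M) (h : dp_pi_8 j u = true) : Gd g H Lt.pi u := by
  unfold dp_pi_8 at h
  rcases brec_true h with h | h
  · exact dp_pi_2_s hy j u hu h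
  · exact dp_pi_7_s hy j u hu h
theorem dp_pi_9_s (hy : Hy g H)
    (j u : ℕ) (hu : u < M) (h : dp_pi_9 j u = true) : Gd g H Lt.pi u := by
  unfold dp_pi_9 at h
  rcases brec_true h with h | h
  · exact lS_good (T := T) (x := Lt.pi) hM0 hu [Lt.qi, Lt.p, Lt.qi, Lt.pi, Lt.qi, Lt.p, Lt.qi] (hat (rb_3 hy) 0 rfl) h
  · exact lF_good (T := T) (x := Lt.pi) hM0 [Lt.qi, Lt.di, Lt.m, Lt.m, Lt.ni, Lt.mi, Lt.mi, Lt.d] (hat (rb_10 hy) 7 rfl) h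
theorem dp_pi_10_s (hy : Hy g H)
    (j u : ℕ) (hu : u < M) (h : dp_pi_10 j u = true) : Gd g H Lt.pi u := by
  unfold dp_pi_10 at h
  rcases brec_true h with h | h
  · exact lF_good (T := T) (x := Lt.pi) hM0 [Lt.n, Lt.qi, Lt.p, Lt.ni, Lt.p, Lt.n, Lt.pi] (hat (rf_9 hy) 3 rfl) h
  · exact lS_good (T := T) (x := Lt.pi) hM0 hu [Lt.q, Lt.ni, Lt.qi, Lt.n, Lt.qi, Lt.p, Lt.ni] (hat (rb_6 hy) 1 rfl) h
theorem dp_pi_11_s (hy : Hy g H)
    (j u : ℕ) (hu : u < M) (h : dp_pi_11 j u = true) : Gd g H Lt.pi u := by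
  unfold dp_pi_11 at h
  rcases brec_true h with h | h
  · exact dp_pi_9_s hy j u hu h
  · exact dp_pi_10_s hy j u hu h
theorem dp_pi_12_s (hy : Hy g H)
    (j u : ℕ) (hu : u < M) (h : dp_pi_12 j u = true) : Gd g H Lt.pi u := by
  unfold dp_pi_12 at h
  rcases brec_true h with h | h
  · exact lS_good (T := T) (x := Lt.pi) hM0 hu [Lt.ni, Lt.q, Lt.n, Lt.pi, Lt.ni, Lt.q, Lt.n] (hat (rb_8 hy) 3 rfl) h
  · exact lF_good (T := T) (x := Lt.pi) hM0 [Lt.qi, Lt.pi, Lt.mi, Lt.q, Lt.p, Lt.q, Lt.mi] (hat (rb_5 hy) 5 rfl) h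
theorem dp_pi_13_s (hy : Hy g H)
    (j u : ℕ) (hu : u < M) (h : dp_pi_13 j u = true) : Gd g H Lt.pi u := by
  unfold dp_pi_13 at h
  rcases brec_true h with h | h
  · exact lS_good (T := T) (x := Lt.pi) hM0 hu [Lt.mi, Lt.q, Lt.p, Lt.q, Lt.mi, Lt.pi, Lt.qi] (hat (rb_5 hy) 7 rfl) h
  · exact lS_good (T := T) (x := Lt.pi) hM0 hu [Lt.pi, Lt.n, Lt.qi, Lt.p, Lt.ni, Lt.p, Lt.n] (hat (rf_9 hy) 2 rfl) h
theorem dp_pi_14_s (hy : Hy g H)
    (j u : ℕ) (hu : u < M) (h : dp_pi_14 j u = true) : Gd g H Lt.pi u := by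
  unfold dp_pi_14 at h
  rcases brec_true h with h | h
  · exact lS_good (T := T) (x := Lt.pi) hM0 hu [Lt.q, Lt.n, Lt.pi, Lt.pi, Lt.q, Lt.n, Lt.pi] (hat (rf_7 hy) 3 rfl) h
  · exact dp_pi_13_s hy j u hu h
theorem dp_pi_15_s (hy : Hy g H)
    (j u : ℕ) (hu : u < M) (h : dp_pi_15 j u = true) : Gd g H Lt.pi u := by
  unfold dp_pi_15 at h
  rcases brec_true h with h | h
  · exact dp_pi_12_s hy j u hu h
  · exact dp_pi_14_s hy j u hu h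
theorem dp_pi_16_s (hy : Hy g H)
    (j u : ℕ) (hu : u < M) (h : dp_pi_16 j u = true) : Gd g H Lt.pi u := by
  unfold dp_pi_16 at h
  rcases brec_true h with h | h
  · exact dp_pi_11_s hy j u hu h
  · exact dp_pi_15_s hy j u hu h
theorem dp_pi_17_s (hy : Hy g H)
    (j u : ℕ) (hu : u < M) (h : dp_pi_17 j u = true) : Gd g H Lt.pi u := by
  unfold dp_pi_17 at h
  rcases brec_true h with h | h
  · exact lS_good (T := T) (x := Lt.pi) hM0 hu [Lt.pi, Lt.q, Lt.n, Lt.pi, Lt.pi, Lt.q, Lt.n] (hat (rf_7 hy) 2 rfl) h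
  · exact lF_good (T := T) (x := Lt.pi) hM0 [Lt.mi, Lt.q, Lt.p, Lt.q, Lt.mi, Lt.pi, Lt.qi] (hat (rb_5 hy) 7 rfl) h
theorem dp_pi_18_s (hy : Hy g H)
    (j u : ℕ) (hu : u < M) (h : dp_pi_18 j u = true) : Gd g H Lt.pi u := by
  unfold dp_pi_18 at h
  rcases brec_true h with h | h
  · exact lF_good (T := T) (x := Lt.pi) hM0 [Lt.q, Lt.ni, Lt.q, Lt.n, Lt.qi, Lt.p, Lt.n] (hat (rf_6 hy) 2 rfl) h
  · exact dp_pi_17_s hy j u hu h
theorem dp_pi_19_s (hy : Hy g H)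
    (j u : ℕ) (hu : u < M) (h : dp_pi_19 j u = true) : Gd g H Lt.pi u := by
  unfold dp_pi_19 at h
  rcases brec_true h with h | h
  · exact lS_good (T := T) (x := Lt.pi) hM0 hu [Lt.qi, Lt.pi, Lt.mi, Lt.q, Lt.p, Lt.q, Lt.mi] (hat (rb_5 hy) 5 rfl) h
  · exact lS_good (T := T) (x := Lt.pi) hM0 hu [Lt.n, Lt.qi, Lt.p, Lt.ni, Lt.p, Lt.n, Lt.pi] (hat (rf_9 hy) 3 rfl) h
theorem dp_pi_20_s (hy : Hy g H)
    (j u : ℕ) (hu : u < M) (h : dp_pi_20 j u = true) : Gd g H Lt.pi u := by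
  unfold dp_pi_20 at h
  rcases brec_true h with h | h
  · exact lS_good (T := T) (x := Lt.pi) hM0 hu [Lt.qi, Lt.di, Lt.m, Lt.m, Lt.ni, Lt.mi, Lt.mi, Lt.d] (hat (rb_10 hy) 7 rfl) h
  · exact dp_pi_19_s hy j u hu h
theorem dp_pi_21_s (hy : Hy g H)
    (j u : ℕ) (hu : u < M) (h : dp_pi_21 j u = true) : Gd g H Lt.pi u := by
  unfold dp_pi_21 at h
  rcases brec_true h with h | h
  · exact dp_pi_18_s hy j u hu h
  · exact dp_pi_20_s hy j u hu h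
theorem dp_pi_22_s (hy : Hy g H)
    (j u : ℕ) (hu : u < M) (h : dp_pi_22 j u = true) : Gd g H Lt.pi u := by
  unfold dp_pi_22 at h
  rcases brec_true h with h | h
  · exact lF_good (T := T) (x := Lt.pi) hM0 [Lt.di, Lt.mi, Lt.n, Lt.m, Lt.m, Lt.m, Lt.d, Lt.q] (hat (rf_12 hy) 3 rfl) h
  · exact lS_good (T := T) (x := Lt.pi) hM0 hu [Lt.q, Lt.di, Lt.m, Lt.m, Lt.m, Lt.n, Lt.mi, Lt.d] (hat (rf_11 hy) 2 rfl) h
theorem dp_pi_23_s (hy : Hy g H)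
    (j u : ℕ) (hu : u < M) (h : dp_pi_23 j u = true) : Gd g H Lt.pi u := by
  unfold dp_pi_23 at h
  rcases brec_true h with h | h
  · exact lS_good (T := T) (x := Lt.pi) hM0 hu [Lt.qi, Lt.m, Lt.qi, Lt.pi, Lt.qi, Lt.m, Lt.qi] (hat (rf_4 hy) 3 rfl) h
  · exact lS_good (T := T) (x := Lt.pi) hM0 hu [Lt.di, Lt.mi, Lt.n, Lt.m, Lt.m, Lt.m, Lt.d, Lt.q] (hat (rf_12 hy) 3 rfl) h
theorem dp_pi_24_s (hy : Hy g H)
    (j u : ℕ) (hu : u < M) (h : dp_pi_24 j u = true) : Gd g H Lt.pi u := by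
  unfold dp_pi_24 at h
  rcases brec_true h with h | h
  · exact lS_good (T := T) (x := Lt.pi) hM0 hu [Lt.q, Lt.ni, Lt.q, Lt.n, Lt.qi, Lt.p, Lt.n] (hat (rf_6 hy) 2 rfl) h
  · exact dp_pi_23_s hy j u hu h
theorem dp_pi_25_s (hy : Hy g H)
    (j u : ℕ) (hu : u < M) (h : dp_pi_25 j u = true) : Gd g H Lt.pi u := by
  unfold dp_pi_25 at h
  rcases brec_true h with h | h
  · exact dp_pi_22_s hy j u hu h
  · exact dp_pi_24_s hy j u hu h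
theorem dp_pi_26_s (hy : Hy g H)
    (j u : ℕ) (hu : u < M) (h : dp_pi_26 j u = true) : Gd g H Lt.pi u := by
  unfold dp_pi_26 at h
  rcases brec_true h with h | h
  · exact lF_good (T := T) (x := Lt.pi) hM0 [Lt.qi, Lt.m, Lt.p, Lt.q, Lt.p, Lt.m, Lt.qi] (hat (rf_5 hy) 7 rfl) h
  · exact lS_good (T := T) (x := Lt.pi) hM0 hu [Lt.q, Lt.ni, Lt.p, Lt.p, Lt.ni, Lt.pi, Lt.n] (hat (rb_9 hy) 3 rfl) h
theorem dp_pi_27_s (hy : Hy g H)
    (j u : ℕ) (hu : u < M) (h : dp_pi_27 j u = true) : Gd g H Lt.pi u := by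
  unfold dp_pi_27 at h
  rcases brec_true h with h | h
  · exact lF_good (T := T) (x := Lt.pi) hM0 [Lt.q, Lt.ni, Lt.qi, Lt.n, Lt.qi, Lt.p, Lt.ni] (hat (rb_6 hy) 1 rfl) h
  · exact dp_pi_26_s hy j u hu h
theorem dp_pi_28_s (hy : Hy g H)
    (j u : ℕ) (hu : u < M) (h : dp_pi_28 j u = true) : Gd g H Lt.pi u := by
  unfold dp_pi_28 at h
  rcases brec_true h with h | h
  · exact lS_good (T := T) (x := Lt.pi) hM0 hu [Lt.di, Lt.p, Lt.n, Lt.qi, Lt.p, Lt.di, Lt.pi, Lt.q, Lt.ni] (hat (rb_13 hy) 5 rfl) h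
  · exact lF_good (T := T) (x := Lt.pi) hM0 [Lt.q, Lt.di, Lt.m, Lt.m, Lt.m, Lt.n, Lt.mi, Lt.d] (hat (rf_11 hy) 2 rfl) h
theorem dp_pi_29_s (hy : Hy g H)
    (j u : ℕ) (hu : u < M) (h : dp_pi_29 j u = true) : Gd g H Lt.pi u := by
  unfold dp_pi_29 at h
  rcases brec_true h with h | h
  · exact lF_good (T := T) (x := Lt.pi) hM0 [Lt.d, Lt.p, Lt.n, Lt.qi, Lt.p, Lt.d, Lt.pi, Lt.q, Lt.ni] (hat (rf_13 hy) 4 rfl) h
  · exact lF_good (T := T) (x := Lt.pi) hM0 [Lt.q, Lt.ni, Lt.p, Lt.p, Lt.ni, Lt.pi, Lt.n] (hat (rb_9 hy) 3 rfl) h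
theorem dp_pi_30_s (hy : Hy g H)
    (j u : ℕ) (hu : u < M) (h : dp_pi_30 j u = true) : Gd g H Lt.pi u := by
  unfold dp_pi_30 at h
  rcases brec_true h with h | h
  · exact lF_good (T := T) (x := Lt.pi) hM0 [Lt.q, Lt.ni, Lt.pi, Lt.d, Lt.p, Lt.n, Lt.qi, Lt.p, Lt.d] (hat (rf_13 hy) 1 rfl) h
  · exact lS_good (T := T) (x := Lt.pi) hM0 hu [Lt.qi, Lt.m, Lt.p, Lt.q, Lt.p, Lt.m, Lt.qi] (hat (rf_5 hy) 7 rfl) h
theorem dp_pi_31_s (hy : Hy g H)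
    (j u : ℕ) (hu : u < M) (h : dp_pi_31 j u = true) : Gd g H Lt.pi u := by
  unfold dp_pi_31 at h
  rcases brec_true h with h | h
  · exact dp_pi_29_s hy j u hu h
  · exact dp_pi_30_s hy j u hu h
theorem dp_pi_32_s (hy : Hy g H)
    (j u : ℕ) (hu : u < M) (h : dp_pi_32 j u = true) : Gd g H Lt.pi u := by
  unfold dp_pi_32 at h
  rcases brec_true h with h | h
  · exact dp_pi_28_s hy j u hu h
  · exact dp_pi_31_s hy j u hu h
theorem dp_pi_33_s (hy : Hy g H)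
    (j u : ℕ) (hu : u < M) (h : dp_pi_33 j u = true) : Gd g H Lt.pi u := by
  unfold dp_pi_33 at h
  rcases brec_true h with h | h
  · exact dp_pi_27_s hy j u hu h
  · exact dp_pi_32_s hy j u hu h
theorem dp_pi_34_s (hy : Hy g H)
    (j u : ℕ) (hu : u < M) (h : dp_pi_34 j u = true) : Gd g H Lt.pi u := by
  unfold dp_pi_34 at h
  rcases brec_true h with h | h
  · exact dp_pi_25_s hy j u hu h
  · exact dp_pi_33_s hy j u hu h
theorem dp_pi_35_s (hy : Hy g H)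
    (j u : ℕ) (hu : u < M) (h : dp_pi_35 j u = true) : Gd g H Lt.pi u := by
  unfold dp_pi_35 at h
  rcases brec_true h with h | h
  · exact dp_pi_21_s hy j u hu h
  · exact dp_pi_34_s hy j u hu h
theorem dp_pi_36_s (hy : Hy g H)
    (j u : ℕ) (hu : u < M) (h : dp_pi_36 j u = true) : Gd g H Lt.pi u := by
  unfold dp_pi_36 at h
  rcases brec_true h with h | h
  · exact dp_pi_16_s hy j u hu h
  · exact dp_pi_35_s hy j u hu h
theorem dp_pi_37_s (hy : Hy g H)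
    (j u : ℕ) (hu : u < M) (h : dp_pi_37 j u = true) : Gd g H Lt.pi u := by
  unfold dp_pi_37 at h
  rcases brec_true h with h | h
  · exact dp_pi_8_s hy j u hu h
  · exact dp_pi_36_s hy j u hu h
theorem snd_pi (hy : Hy g H)
    (j u : ℕ) (hu : u < M) (h : disp_pi j u = true) : Gd g H Lt.pi u := by
  unfold disp_pi at h
  rcases brec_true h with h | h
  · rcases brec_true h with h | h
    · exact lF1_good (T := T) (x := Lt.pi) hM0 .p (hat (rf_21 hy) 0 rfl) h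
    · exact lDef_good (T := T) (x := Lt.pi) (by decide) rfl h
  · rcases brec_true h with h | h
    · rcases brec_true h with h | h
      · exact lPar_good (T := T) (x := Lt.pi) (x' := Lt.p) (by decide) rfl (ivt hy _ _ rfl) h
      · exact lS_good (T := T) (x := Lt.pi) hM0 hu [Lt.p] (hat (rf_21 hy) 0 rfl) h
    · exact dp_pi_37_s hy j u hu h
theorem snc_pi (hy : Hy g H)
    (j u : ℕ) (hu : u < M) (h : chk_pi j u = true) : (T Lt.pi u < A ∧ Gd g H Lt.pi u) ∨ (A ≤ T Lt.pi u ∧ MG u < A) := by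
  unfold chk_pi at h
  cases hb : Nat.ble A (T_pi u) with
  | true => rw [hb] at h; exact Or.inr ⟨le_of_ble hb, le_of_ble h⟩
  | false => rw [hb] at h; exact Or.inl ⟨lt_of_ble_false hb, snd_pi hy j u hu h⟩
theorem dp_q_0_s (hy : Hy g H)
    (j u : ℕ) (hu : u < M) (h : dp_q_0 j u = true) : Gd g H Lt.q u := by
  unfold dp_q_0 at h
  rcases brec_true h with h | h
  · exact lS_good (T := T) (x := Lt.q) hM0 hu [Lt.di, Lt.pi, Lt.q, Lt.ni, Lt.q, Lt.n, Lt.qi, Lt.p, Lt.d] (hat (rf_16 hy) 2 rfl) h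
  · exact lF_good (T := T) (x := Lt.q) hM0 [Lt.di, Lt.pi, Lt.q, Lt.ni, Lt.q, Lt.n, Lt.qi, Lt.p, Lt.d] (hat (rf_16 hy) 2 rfl) h
theorem dp_q_1_s (hy : Hy g H)
    (j u : ℕ) (hu : u < M) (h : dp_q_1 j u = true) : Gd g H Lt.q u := by
  unfold dp_q_1 at h
  rcases brec_true h with h | h
  · exact lF_good (T := T) (x := Lt.q) hM0 [Lt.n, Lt.qi, Lt.p, Lt.n, Lt.pi, Lt.q, Lt.ni] (hat (rf_6 hy) 5 rfl) h
  · exact dp_q_0_s hy j u hu h
theorem dp_q_2_s (hy : Hy g H)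
    (j u : ℕ) (hu : u < M) (h : dp_q_2 j u = true) : Gd g H Lt.q u := by
  unfold dp_q_2 at h
  rcases brec_true h with h | h
  · exact lF_good (T := T) (x := Lt.q) hM0 [Lt.pi, Lt.q, Lt.p, Lt.q, Lt.pi, Lt.q, Lt.p] (hat (rf_3 hy) 2 rfl) h
  · exact lF_good (T := T) (x := Lt.q) hM0 [Lt.p, Lt.q, Lt.mi, Lt.q, Lt.p, Lt.q, Lt.mi] (hat (rb_4 hy) 1 rfl) h
theorem dp_q_3_s (hy : Hy g H)
    (j u : ℕ) (hu : u < M) (h : dp_q_3 j u = true) : Gd g H Lt.q u := by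
  unfold dp_q_3 at h
  rcases brec_true h with h | h
  · exact lF_good (T := T) (x := Lt.q) hM0 [Lt.ni, Lt.q, Lt.n, Lt.qi, Lt.p, Lt.n, Lt.pi] (hat (rf_6 hy) 3 rfl) h
  · exact lF_good (T := T) (x := Lt.q) hM0 [Lt.p, Lt.m, Lt.qi, Lt.pi, Lt.qi, Lt.m, Lt.p] (hat (rf_5 hy) 3 rfl) h
theorem dp_q_4_s (hy : Hy g H)
    (j u : ℕ) (hu : u < M) (h : dp_q_4 j u = true) : Gd g H Lt.q u := by
  unfold dp_q_4 at h
  rcases brec_true h with h | h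
  · exact lS_good (T := T) (x := Lt.q) hM0 hu [Lt.n, Lt.qi, Lt.p, Lt.n, Lt.pi, Lt.q, Lt.ni] (hat (rf_6 hy) 5 rfl) h
  · exact dp_q_3_s hy j u hu h
theorem dp_q_5_s (hy : Hy g H)
    (j u : ℕ) (hu : u < M) (h : dp_q_5 j u = true) : Gd g H Lt.q u := by
  unfold dp_q_5 at h
  rcases brec_true h with h | h
  · exact dp_q_2_s hy j u hu h
  · exact dp_q_4_s hy j u hu h
theorem dp_q_6_s (hy : Hy g H)
    (j u : ℕ) (hu : u < M) (h : dp_q_6 j u = true) : Gd g H Lt.q u := by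
  unfold dp_q_6 at h
  rcases brec_true h with h | h
  · exact dp_q_1_s hy j u hu h
  · exact dp_q_5_s hy j u hu h
theorem dp_q_7_s (hy : Hy g H)
    (j u : ℕ) (hu : u < M) (h : dp_q_7 j u = true) : Gd g H Lt.q u := by
  unfold dp_q_7 at h
  rcases brec_true h with h | h
  · exact lS_good (T := T) (x := Lt.q) hM0 hu [Lt.p, Lt.di, Lt.m, Lt.m, Lt.n, Lt.mi, Lt.mi, Lt.d] (hat (rf_10 hy) 2 rfl) h
  · exact lS_good (T := T) (x := Lt.q) hM0 hu [Lt.ni, Lt.qi, Lt.n, Lt.qi, Lt.p, Lt.ni, Lt.pi] (hat (rb_6 hy) 2 rfl) h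
theorem dp_q_8_s (hy : Hy g H)
    (j u : ℕ) (hu : u < M) (h : dp_q_8 j u = true) : Gd g H Lt.q u := by
  unfold dp_q_8 at h
  rcases brec_true h with h | h
  · exact lS_good (T := T) (x := Lt.q) hM0 hu [Lt.n, Lt.pi, Lt.ni, Lt.q, Lt.n, Lt.pi, Lt.ni] (hat (rb_8 hy) 1 rfl) h
  · exact lS_good (T := T) (x := Lt.q) hM0 hu [Lt.pi, Lt.di, Lt.mi, Lt.n, Lt.m, Lt.m, Lt.m, Lt.d] (hat (rf_12 hy) 2 rfl) h
theorem dp_q_9_s (hy : Hy g H)
    (j u : ℕ) (hu : u < M) (h : dp_q_9 j u = true) : Gd g H Lt.q u := by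
  unfold dp_q_9 at h
  rcases brec_true h with h | h
  · exact dp_q_7_s hy j u hu h
  · exact dp_q_8_s hy j u hu h
theorem dp_q_10_s (hy : Hy g H)
    (j u : ℕ) (hu : u < M) (h : dp_q_10 j u = true) : Gd g H Lt.q u := by
  unfold dp_q_10 at h
  rcases brec_true h with h | h
  · exact lF_good (T := T) (x := Lt.q) hM0 [Lt.p, Lt.di, Lt.m, Lt.m, Lt.n, Lt.mi, Lt.mi, Lt.d] (hat (rf_10 hy) 2 rfl) h
  · exact lF_good (T := T) (x := Lt.q) hM0 [Lt.ni, Lt.qi, Lt.n, Lt.qi, Lt.p, Lt.ni, Lt.pi] (hat (rb_6 hy) 2 rfl) h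
theorem dp_q_11_s (hy : Hy g H)
    (j u : ℕ) (hu : u < M) (h : dp_q_11 j u = true) : Gd g H Lt.q u := by
  unfold dp_q_11 at h
  rcases brec_true h with h | h
  · exact lS_good (T := T) (x := Lt.q) hM0 hu [Lt.p, Lt.q, Lt.mi, Lt.q, Lt.p, Lt.q, Lt.mi] (hat (rb_4 hy) 1 rfl) h
  · exact lF_good (T := T) (x := Lt.q) hM0 [Lt.ni, Lt.p, Lt.p, Lt.ni, Lt.pi, Lt.n, Lt.pi] (hat (rb_9 hy) 4 rfl) h
theorem dp_q_12_s (hy : Hy g H)
    (j u : ℕ) (hu : u < M) (h : dp_q_12 j u = true) : Gd g H Lt.q u := by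
  unfold dp_q_12 at h
  rcases brec_true h with h | h
  · exact lF_good (T := T) (x := Lt.q) hM0 [Lt.p, Lt.q, Lt.pi, Lt.q, Lt.p, Lt.q, Lt.pi] (hat (rf_3 hy) 0 rfl) h
  · exact dp_q_11_s hy j u hu h
theorem dp_q_13_s (hy : Hy g H)
    (j u : ℕ) (hu : u < M) (h : dp_q_13 j u = true) : Gd g H Lt.q u := by
  unfold dp_q_13 at h
  rcases brec_true h with h | h
  · exact dp_q_10_s hy j u hu h
  · exact dp_q_12_s hy j u hu h
theorem dp_q_14_s (hy : Hy g H)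
    (j u : ℕ) (hu : u < M) (h : dp_q_14 j u = true) : Gd g H Lt.q u := by
  unfold dp_q_14 at h
  rcases brec_true h with h | h
  · exact dp_q_9_s hy j u hu h
  · exact dp_q_13_s hy j u hu h
theorem dp_q_15_s (hy : Hy g H)
    (j u : ℕ) (hu : u < M) (h : dp_q_15 j u = true) : Gd g H Lt.q u := by
  unfold dp_q_15 at h
  rcases brec_true h with h | h
  · exact lF_good (T := T) (x := Lt.q) hM0 [Lt.mi, Lt.q, Lt.p, Lt.q, Lt.mi, Lt.q, Lt.p] (hat (rb_4 hy) 3 rfl) h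
  · exact lF_good (T := T) (x := Lt.q) hM0 [Lt.n, Lt.pi, Lt.ni, Lt.q, Lt.n, Lt.pi, Lt.ni] (hat (rb_8 hy) 1 rfl) h
theorem dp_q_16_s (hy : Hy g H)
    (j u : ℕ) (hu : u < M) (h : dp_q_16 j u = true) : Gd g H Lt.q u := by
  unfold dp_q_16 at h
  rcases brec_true h with h | h
  · exact lS_good (T := T) (x := Lt.q) hM0 hu [Lt.mi, Lt.q, Lt.p, Lt.q, Lt.mi, Lt.q, Lt.p] (hat (rb_4 hy) 3 rfl) h
  · exact dp_q_15_s hy j u hu h
theorem dp_q_17_s (hy : Hy g H)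
    (j u : ℕ) (hu : u < M) (h : dp_q_17 j u = true) : Gd g H Lt.q u := by
  unfold dp_q_17 at h
  rcases brec_true h with h | h
  · exact lF_good (T := T) (x := Lt.q) hM0 [Lt.di, Lt.m, Lt.m, Lt.m, Lt.n, Lt.mi, Lt.d, Lt.pi] (hat (rf_11 hy) 3 rfl) h
  · exact lS_good (T := T) (x := Lt.q) hM0 hu [Lt.pi, Lt.q, Lt.p, Lt.q, Lt.pi, Lt.q, Lt.p] (hat (rf_3 hy) 2 rfl) h
theorem dp_q_18_s (hy : Hy g H)
    (j u : ℕ) (hu : u < M) (h : dp_q_18 j u = true) : Gd g H Lt.q u := by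
  unfold dp_q_18 at h
  rcases brec_true h with h | h
  · exact lS_good (T := T) (x := Lt.q) hM0 hu [Lt.ni, Lt.q, Lt.n, Lt.qi, Lt.p, Lt.n, Lt.pi] (hat (rf_6 hy) 3 rfl) h
  · exact dp_q_17_s hy j u hu h
theorem dp_q_19_s (hy : Hy g H)
    (j u : ℕ) (hu : u < M) (h : dp_q_19 j u = true) : Gd g H Lt.q u := by
  unfold dp_q_19 at h
  rcases brec_true h with h | h
  · exact dp_q_16_s hy j u hu h
  · exact dp_q_18_s hy j u hu h
theorem dp_q_20_s (hy : Hy g H)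
    (j u : ℕ) (hu : u < M) (h : dp_q_20 j u = true) : Gd g H Lt.q u := by
  unfold dp_q_20 at h
  rcases brec_true h with h | h
  · exact lF_good (T := T) (x := Lt.q) hM0 [Lt.n, Lt.pi, Lt.pi, Lt.q, Lt.n, Lt.pi, Lt.pi] (hat (rf_7 hy) 0 rfl) h
  · exact lS_good (T := T) (x := Lt.q) hM0 hu [Lt.p, Lt.q, Lt.pi, Lt.q, Lt.p, Lt.q, Lt.pi] (hat (rf_3 hy) 0 rfl) h
theorem dp_q_21_s (hy : Hy g H)
    (j u : ℕ) (hu : u < M) (h : dp_q_21 j u = true) : Gd g H Lt.q u := by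
  unfold dp_q_21 at h
  rcases brec_true h with h | h
  · exact lS_good (T := T) (x := Lt.q) hM0 hu [Lt.q, Lt.q] (hat (rf_0 hy) 0 rfl) h
  · exact lF_good (T := T) (x := Lt.q) hM0 [Lt.p, Lt.q, Lt.mi, Lt.pi, Lt.qi, Lt.pi, Lt.mi] (hat (rb_5 hy) 1 rfl) h
theorem dp_q_22_s (hy : Hy g H)
    (j u : ℕ) (hu : u < M) (h : dp_q_22 j u = true) : Gd g H Lt.q u := by
  unfold dp_q_22 at h
  rcases brec_true h with h | h
  · exact lS_good (T := T) (x := Lt.q) hM0 hu [Lt.n, Lt.pi, Lt.pi, Lt.q, Lt.n, Lt.pi, Lt.pi] (hat (rf_7 hy) 0 rfl) h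
  · exact dp_q_21_s hy j u hu h
theorem dp_q_23_s (hy : Hy g H)
    (j u : ℕ) (hu : u < M) (h : dp_q_23 j u = true) : Gd g H Lt.q u := by
  unfold dp_q_23 at h
  rcases brec_true h with h | h
  · exact dp_q_20_s hy j u hu h
  · exact dp_q_22_s hy j u hu h
theorem dp_q_24_s (hy : Hy g H)
    (j u : ℕ) (hu : u < M) (h : dp_q_24 j u = true) : Gd g H Lt.q u := by
  unfold dp_q_24 at h
  rcases brec_true h with h | h
  · exact lH_good (T := T) (x := Lt.q) hM0 [] [] (by rw [show cP g H 0 = _ from cc_zero]; exact sub_rel hy.1 (hy.2.2 _ (by decide))) h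
  · exact lF_good (T := T) (x := Lt.q) hM0 [Lt.ni, Lt.pi, Lt.di, Lt.p, Lt.n, Lt.qi, Lt.p, Lt.di, Lt.pi] (hat (rb_13 hy) 3 rfl) h
theorem dp_q_25_s (hy : Hy g H)
    (j u : ℕ) (hu : u < M) (h : dp_q_25 j u = true) : Gd g H Lt.q u := by
  unfold dp_q_25 at h
  rcases brec_true h with h | h
  · exact lS_good (T := T) (x := Lt.q) hM0 hu [Lt.mi, Lt.pi, Lt.qi, Lt.pi, Lt.mi, Lt.q, Lt.p] (hat (rb_5 hy) 3 rfl) h
  · exact lF_good (T := T) (x := Lt.q) hM0 [Lt.mi, Lt.pi, Lt.qi, Lt.pi, Lt.mi, Lt.q, Lt.p] (hat (rb_5 hy) 3 rfl) h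
theorem dp_q_26_s (hy : Hy g H)
    (j u : ℕ) (hu : u < M) (h : dp_q_26 j u = true) : Gd g H Lt.q u := by
  unfold dp_q_26 at h
  rcases brec_true h with h | h
  · exact lS_good (T := T) (x := Lt.q) hM0 hu [Lt.ni, Lt.pi, Lt.d, Lt.p, Lt.n, Lt.qi, Lt.p, Lt.d, Lt.pi] (hat (rf_13 hy) 2 rfl) h
  · exact dp_q_25_s hy j u hu h
theorem dp_q_27_s (hy : Hy g H)
    (j u : ℕ) (hu : u < M) (h : dp_q_27 j u = true) : Gd g H Lt.q u := by
  unfold dp_q_27 at h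
  rcases brec_true h with h | h
  · exact dp_q_24_s hy j u hu h
  · exact dp_q_26_s hy j u hu h
theorem dp_q_28_s (hy : Hy g H)
    (j u : ℕ) (hu : u < M) (h : dp_q_28 j u = true) : Gd g H Lt.q u := by
  unfold dp_q_28 at h
  rcases brec_true h with h | h
  · exact lS_good (T := T) (x := Lt.q) hM0 hu [Lt.p, Lt.m, Lt.qi, Lt.pi, Lt.qi, Lt.m, Lt.p] (hat (rf_5 hy) 3 rfl) h
  · exact lS_good (T := T) (x := Lt.q) hM0 hu [Lt.p, Lt.q, Lt.mi, Lt.pi, Lt.qi, Lt.pi, Lt.mi] (hat (rb_5 hy) 1 rfl) h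
theorem dp_q_29_s (hy : Hy g H)
    (j u : ℕ) (hu : u < M) (h : dp_q_29 j u = true) : Gd g H Lt.q u := by
  unfold dp_q_29 at h
  rcases brec_true h with h | h
  · exact lS_good (T := T) (x := Lt.q) hM0 hu [Lt.ni, Lt.p, Lt.p, Lt.ni, Lt.pi, Lt.n, Lt.pi] (hat (rb_9 hy) 4 rfl) h
  · exact dp_q_28_s hy j u hu h
theorem dp_q_30_s (hy : Hy g H)
    (j u : ℕ) (hu : u < M) (h : dp_q_30 j u = true) : Gd g H Lt.q u := by
  unfold dp_q_30 at h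
  rcases brec_true h with h | h
  · exact lF_good (T := T) (x := Lt.q) hM0 [Lt.pi, Lt.di, Lt.mi, Lt.n, Lt.m, Lt.m, Lt.m, Lt.d] (hat (rf_12 hy) 2 rfl) h
  · exact lS_good (T := T) (x := Lt.q) hM0 hu [Lt.ni, Lt.pi, Lt.di, Lt.p, Lt.n, Lt.qi, Lt.p, Lt.di, Lt.pi] (hat (rb_13 hy) 3 rfl) h
theorem dp_q_31_s (hy : Hy g H)
    (j u : ℕ) (hu : u < M) (h : dp_q_31 j u = true) : Gd g H Lt.q u := by
  unfold dp_q_31 at h
  rcases brec_true h with h | h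
  · exact lS_good (T := T) (x := Lt.q) hM0 hu [Lt.di, Lt.m, Lt.m, Lt.m, Lt.n, Lt.mi, Lt.d, Lt.pi] (hat (rf_11 hy) 3 rfl) h
  · exact dp_q_30_s hy j u hu h
theorem dp_q_32_s (hy : Hy g H)
    (j u : ℕ) (hu : u < M) (h : dp_q_32 j u = true) : Gd g H Lt.q u := by
  unfold dp_q_32 at h
  rcases brec_true h with h | h
  · exact dp_q_29_s hy j u hu h
  · exact dp_q_31_s hy j u hu h
theorem dp_q_33_s (hy : Hy g H)
    (j u : ℕ) (hu : u < M) (h : dp_q_33 j u = true) : Gd g H Lt.q u := by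
  unfold dp_q_33 at h
  rcases brec_true h with h | h
  · exact dp_q_27_s hy j u hu h
  · exact dp_q_32_s hy j u hu h
theorem dp_q_34_s (hy : Hy g H)
    (j u : ℕ) (hu : u < M) (h : dp_q_34 j u = true) : Gd g H Lt.q u := by
  unfold dp_q_34 at h
  rcases brec_true h with h | h
  · exact dp_q_23_s hy j u hu h
  · exact dp_q_33_s hy j u hu h
theorem dp_q_35_s (hy : Hy g H)
    (j u : ℕ) (hu : u < M) (h : dp_q_35 j u = true) : Gd g H Lt.q u := by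
  unfold dp_q_35 at h
  rcases brec_true h with h | h
  · exact dp_q_19_s hy j u hu h
  · exact dp_q_34_s hy j u hu h
theorem dp_q_36_s (hy : Hy g H)
    (j u : ℕ) (hu : u < M) (h : dp_q_36 j u = true) : Gd g H Lt.q u := by
  unfold dp_q_36 at h
  rcases brec_true h with h | h
  · exact dp_q_14_s hy j u hu h
  · exact dp_q_35_s hy j u hu h
theorem dp_q_37_s (hy : Hy g H)
    (j u : ℕ) (hu : u < M) (h : dp_q_37 j u = true) : Gd g H Lt.q u := by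
  unfold dp_q_37 at h
  rcases brec_true h with h | h
  · exact dp_q_6_s hy j u hu h
  · exact dp_q_36_s hy j u hu h
theorem dp_q_38_s (hy : Hy g H)
    (j u : ℕ) (hu : u < M) (h : dp_q_38 j u = true) : Gd g H Lt.q u := by
  unfold dp_q_38 at h
  rcases brec_true h with h | h
  · rcases brec_true h with h | h
    · exact lPar_good (T := T) (x := Lt.q) (x' := Lt.qi) (by decide) rfl (ivt hy _ _ rfl) h
    · exact lS_good (T := T) (x := Lt.q) hM0 hu [Lt.qi] (hat (rf_23 hy) 1 rfl) h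
  · exact dp_q_37_s hy j u hu h
theorem snd_q (hy : Hy g H)
    (j u : ℕ) (hu : u < M) (h : disp_q j u = true) : Gd g H Lt.q u := by
  unfold disp_q at h
  rcases brec_true h with h | h
  · rcases brec_true h with h | h
    · exact lF1_good (T := T) (x := Lt.q) hM0 .qi (hat (rf_23 hy) 1 rfl) h
    · rcases brec_true h with h | h
      · exact lF_good (T := T) (x := Lt.q) hM0 [Lt.q, Lt.q] (hat (rf_0 hy) 0 rfl) h
      · exact lDef_good (T := T) (x := Lt.q) (by decide) rfl h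
  · exact dp_q_38_s hy j u hu h
theorem snc_q (hy : Hy g H)
    (j u : ℕ) (hu : u < M) (h : chk_q j u = true) : (T Lt.q u < A ∧ Gd g H Lt.q u) ∨ (A ≤ T Lt.q u ∧ MG u < A) := by
  unfold chk_q at h
  cases hb : Nat.ble A (T_q u) with
  | true => rw [hb] at h; exact Or.inr ⟨le_of_ble hb, le_of_ble h⟩
  | false => rw [hb] at h; exact Or.inl ⟨lt_of_ble_false hb, snd_q hy j u hu h⟩
theorem dp_qi_0_s (hy : Hy g H)
    (j u : ℕ) (hu : u < M) (h : dp_qi_0 j u = true) : Gd g H Lt.qi u := by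
  unfold dp_qi_0 at h
  rcases brec_true h with h | h
  · exact lF_good (T := T) (x := Lt.qi) hM0 [Lt.n, Lt.qi, Lt.p, Lt.ni, Lt.pi, Lt.q, Lt.ni] (hat (rb_6 hy) 4 rfl) h
  · exact lF_good (T := T) (x := Lt.qi) hM0 [Lt.pi, Lt.qi, Lt.p, Lt.qi, Lt.pi, Lt.qi, Lt.p] (hat (rb_3 hy) 3 rfl) h
theorem dp_qi_1_s (hy : Hy g H)
    (j u : ℕ) (hu : u < M) (h : dp_qi_1 j u = true) : Gd g H Lt.qi u := by
  unfold dp_qi_1 at h
  rcases brec_true h with h | h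
  · exact lS_good (T := T) (x := Lt.qi) hM0 hu [Lt.di, Lt.pi, Lt.q, Lt.ni, Lt.qi, Lt.n, Lt.qi, Lt.p, Lt.d] (hat (rb_16 hy) 9 rfl) h
  · exact lS_good (T := T) (x := Lt.qi) hM0 hu [Lt.pi, Lt.qi, Lt.p, Lt.qi, Lt.pi, Lt.qi, Lt.p] (hat (rb_3 hy) 3 rfl) h
theorem dp_qi_2_s (hy : Hy g H)
    (j u : ℕ) (hu : u < M) (h : dp_qi_2 j u = true) : Gd g H Lt.qi u := by
  unfold dp_qi_2 at h
  rcases brec_true h with h | h
  · exact lF_good (T := T) (x := Lt.qi) hM0 [Lt.di, Lt.pi, Lt.q, Lt.ni, Lt.qi, Lt.n, Lt.qi, Lt.p, Lt.d] (hat (rb_16 hy) 9 rfl) h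
  · exact dp_qi_1_s hy j u hu h
theorem dp_qi_3_s (hy : Hy g H)
    (j u : ℕ) (hu : u < M) (h : dp_qi_3 j u = true) : Gd g H Lt.qi u := by
  unfold dp_qi_3 at h
  rcases brec_true h with h | h
  · exact dp_qi_0_s hy j u hu h
  · exact dp_qi_2_s hy j u hu h
theorem dp_qi_4_s (hy : Hy g H)
    (j u : ℕ) (hu : u < M) (h : dp_qi_4 j u = true) : Gd g H Lt.qi u := by
  unfold dp_qi_4 at h
  rcases brec_true h with h | h
  · exact lF_good (T := T) (x := Lt.qi) hM0 [Lt.p, Lt.p, Lt.ni, Lt.qi, Lt.p, Lt.p, Lt.ni] (hat (rb_7 hy) 1 rfl) h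
  · exact lF_good (T := T) (x := Lt.qi) hM0 [Lt.pi, Lt.qi, Lt.m, Lt.qi, Lt.pi, Lt.qi, Lt.m] (hat (rf_4 hy) 2 rfl) h
theorem dp_qi_5_s (hy : Hy g H)
    (j u : ℕ) (hu : u < M) (h : dp_qi_5 j u = true) : Gd g H Lt.qi u := by
  unfold dp_qi_5 at h
  rcases brec_true h with h | h
  · exact lF_good (T := T) (x := Lt.qi) hM0 [Lt.p, Lt.n, Lt.pi, Lt.q, Lt.ni, Lt.q, Lt.n] (hat (rf_6 hy) 7 rfl) h
  · exact lF_good (T := T) (x := Lt.qi) hM0 [Lt.di, Lt.m, Lt.m, Lt.ni, Lt.mi, Lt.mi, Lt.d, Lt.pi] (hat (rb_10 hy) 8 rfl) h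
theorem dp_qi_6_s (hy : Hy g H)
    (j u : ℕ) (hu : u < M) (h : dp_qi_6 j u = true) : Gd g H Lt.qi u := by
  unfold dp_qi_6 at h
  rcases brec_true h with h | h
  · exact dp_qi_4_s hy j u hu h
  · exact dp_qi_5_s hy j u hu h
theorem dp_qi_7_s (hy : Hy g H)
    (j u : ℕ) (hu : u < M) (h : dp_qi_7 j u = true) : Gd g H Lt.qi u := by
  unfold dp_qi_7 at h
  rcases brec_true h with h | h
  · exact lS_good (T := T) (x := Lt.qi) hM0 hu [Lt.p, Lt.di, Lt.m, Lt.ni, Lt.mi, Lt.mi, Lt.mi, Lt.d] (hat (rb_11 hy) 7 rfl) h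
  · exact lS_good (T := T) (x := Lt.qi) hM0 hu [Lt.p, Lt.ni, Lt.p, Lt.n, Lt.pi, Lt.pi, Lt.n] (hat (rf_9 hy) 5 rfl) h
theorem dp_qi_8_s (hy : Hy g H)
    (j u : ℕ) (hu : u < M) (h : dp_qi_8 j u = true) : Gd g H Lt.qi u := by
  unfold dp_qi_8 at h
  rcases brec_true h with h | h
  · exact lS_good (T := T) (x := Lt.qi) hM0 hu [Lt.m, Lt.qi, Lt.pi, Lt.qi, Lt.m, Lt.qi, Lt.pi] (hat (rf_4 hy) 0 rfl) h
  · exact dp_qi_7_s hy j u hu h
theorem dp_qi_9_s (hy : Hy g H)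
    (j u : ℕ) (hu : u < M) (h : dp_qi_9 j u = true) : Gd g H Lt.qi u := by
  unfold dp_qi_9 at h
  rcases brec_true h with h | h
  · exact lF_good (T := T) (x := Lt.qi) hM0 [Lt.p, Lt.di, Lt.m, Lt.ni, Lt.mi, Lt.mi, Lt.mi, Lt.d] (hat (rb_11 hy) 7 rfl) h
  · exact lF_good (T := T) (x := Lt.qi) hM0 [Lt.m, Lt.qi, Lt.pi, Lt.qi, Lt.m, Lt.qi, Lt.pi] (hat (rf_4 hy) 0 rfl) h
theorem dp_qi_10_s (hy : Hy g H)
    (j u : ℕ) (hu : u < M) (h : dp_qi_10 j u = true) : Gd g H Lt.qi u := by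
  unfold dp_qi_10 at h
  rcases brec_true h with h | h
  · exact lF_good (T := T) (x := Lt.qi) hM0 [Lt.p, Lt.ni, Lt.p, Lt.n, Lt.pi, Lt.pi, Lt.n] (hat (rf_9 hy) 5 rfl) h
  · exact dp_qi_9_s hy j u hu h
theorem dp_qi_11_s (hy : Hy g H)
    (j u : ℕ) (hu : u < M) (h : dp_qi_11 j u = true) : Gd g H Lt.qi u := by
  unfold dp_qi_11 at h
  rcases brec_true h with h | h
  · exact dp_qi_8_s hy j u hu h
  · exact dp_qi_10_s hy j u hu h
theorem dp_qi_12_s (hy : Hy g H)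
    (j u : ℕ) (hu : u < M) (h : dp_qi_12 j u = true) : Gd g H Lt.qi u := by
  unfold dp_qi_12 at h
  rcases brec_true h with h | h
  · exact dp_qi_6_s hy j u hu h
  · exact dp_qi_11_s hy j u hu h
theorem dp_qi_13_s (hy : Hy g H)
    (j u : ℕ) (hu : u < M) (h : dp_qi_13 j u = true) : Gd g H Lt.qi u := by
  unfold dp_qi_13 at h
  rcases brec_true h with h | h
  · exact lS_good (T := T) (x := Lt.qi) hM0 hu [Lt.pi, Lt.mi, Lt.q, Lt.p, Lt.q, Lt.mi, Lt.pi] (hat (rb_5 hy) 6 rfl) h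
  · exact lS_good (T := T) (x := Lt.qi) hM0 hu [Lt.p, Lt.ni, Lt.pi, Lt.q, Lt.ni, Lt.qi, Lt.n] (hat (rb_6 hy) 6 rfl) h
theorem dp_qi_14_s (hy : Hy g H)
    (j u : ℕ) (hu : u < M) (h : dp_qi_14 j u = true) : Gd g H Lt.qi u := by
  unfold dp_qi_14 at h
  rcases brec_true h with h | h
  · exact lF_good (T := T) (x := Lt.qi) hM0 [Lt.p, Lt.qi, Lt.pi, Lt.qi, Lt.p, Lt.qi, Lt.pi] (hat (rb_3 hy) 1 rfl) h
  · exact dp_qi_13_s hy j u hu h
theorem dp_qi_15_s (hy : Hy g H)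
    (j u : ℕ) (hu : u < M) (h : dp_qi_15 j u = true) : Gd g H Lt.qi u := by
  unfold dp_qi_15 at h
  rcases brec_true h with h | h
  · exact lS_good (T := T) (x := Lt.qi) hM0 hu [Lt.n, Lt.qi, Lt.p, Lt.ni, Lt.pi, Lt.q, Lt.ni] (hat (rb_6 hy) 4 rfl) h
  · exact lS_good (T := T) (x := Lt.qi) hM0 hu [Lt.n, Lt.p, Lt.ni, Lt.qi, Lt.n, Lt.p, Lt.ni] (hat (rf_8 hy) 0 rfl) h
theorem dp_qi_16_s (hy : Hy g H)
    (j u : ℕ) (hu : u < M) (h : dp_qi_16 j u = true) : Gd g H Lt.qi u := by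
  unfold dp_qi_16 at h
  rcases brec_true h with h | h
  · exact lF_good (T := T) (x := Lt.qi) hM0 [Lt.p, Lt.ni, Lt.pi, Lt.q, Lt.ni, Lt.qi, Lt.n] (hat (rb_6 hy) 6 rfl) h
  · exact dp_qi_15_s hy j u hu h
theorem dp_qi_17_s (hy : Hy g H)
    (j u : ℕ) (hu : u < M) (h : dp_qi_17 j u = true) : Gd g H Lt.qi u := by
  unfold dp_qi_17 at h
  rcases brec_true h with h | h
  · exact dp_qi_14_s hy j u hu h
  · exact dp_qi_16_s hy j u hu h
theorem dp_qi_18_s (hy : Hy g H)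
    (j u : ℕ) (hu : u < M) (h : dp_qi_18 j u = true) : Gd g H Lt.qi u := by
  unfold dp_qi_18 at h
  rcases brec_true h with h | h
  · exact lS_good (T := T) (x := Lt.qi) hM0 hu [Lt.di, Lt.mi, Lt.mi, Lt.mi, Lt.ni, Lt.m, Lt.d, Lt.p] (hat (rb_12 hy) 8 rfl) h
  · exact lF_good (T := T) (x := Lt.qi) hM0 [Lt.pi, Lt.mi, Lt.q, Lt.p, Lt.q, Lt.mi, Lt.pi] (hat (rb_5 hy) 6 rfl) h
theorem dp_qi_19_s (hy : Hy g H)
    (j u : ℕ) (hu : u < M) (h : dp_qi_19 j u = true) : Gd g H Lt.qi u := by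
  unfold dp_qi_19 at h
  rcases brec_true h with h | h
  · exact lS_good (T := T) (x := Lt.qi) hM0 hu [Lt.pi, Lt.qi, Lt.m, Lt.qi, Lt.pi, Lt.qi, Lt.m] (hat (rf_4 hy) 2 rfl) h
  · exact lS_good (T := T) (x := Lt.qi) hM0 hu [Lt.p, Lt.qi, Lt.pi, Lt.qi, Lt.p, Lt.qi, Lt.pi] (hat (rb_3 hy) 1 rfl) h
theorem dp_qi_20_s (hy : Hy g H)
    (j u : ℕ) (hu : u < M) (h : dp_qi_20 j u = true) : Gd g H Lt.qi u := by
  unfold dp_qi_20 at h
  rcases brec_true h with h | h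
  · exact dp_qi_18_s hy j u hu h
  · exact dp_qi_19_s hy j u hu h
theorem dp_qi_21_s (hy : Hy g H)
    (j u : ℕ) (hu : u < M) (h : dp_qi_21 j u = true) : Gd g H Lt.qi u := by
  unfold dp_qi_21 at h
  rcases brec_true h with h | h
  · exact lS_good (T := T) (x := Lt.qi) hM0 hu [Lt.p, Lt.n, Lt.pi, Lt.q, Lt.ni, Lt.q, Lt.n] (hat (rf_6 hy) 7 rfl) h
  · exact lS_good (T := T) (x := Lt.qi) hM0 hu [Lt.p, Lt.di, Lt.pi, Lt.q, Lt.ni, Lt.pi, Lt.di, Lt.p, Lt.n] (hat (rb_13 hy) 9 rfl) h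
theorem dp_qi_22_s (hy : Hy g H)
    (j u : ℕ) (hu : u < M) (h : dp_qi_22 j u = true) : Gd g H Lt.qi u := by
  unfold dp_qi_22 at h
  rcases brec_true h with h | h
  · exact lF_good (T := T) (x := Lt.qi) hM0 [Lt.n, Lt.p, Lt.ni, Lt.qi, Lt.n, Lt.p, Lt.ni] (hat (rf_8 hy) 0 rfl) h
  · exact dp_qi_21_s hy j u hu h
theorem dp_qi_23_s (hy : Hy g H)
    (j u : ℕ) (hu : u < M) (h : dp_qi_23 j u = true) : Gd g H Lt.qi u := by
  unfold dp_qi_23 at h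
  rcases brec_true h with h | h
  · exact lS_good (T := T) (x := Lt.qi) hM0 hu [Lt.qi, Lt.qi] (hat (rb_0 hy) 0 rfl) h
  · exact lS_good (T := T) (x := Lt.qi) hM0 hu [Lt.p, Lt.p, Lt.ni, Lt.qi, Lt.p, Lt.p, Lt.ni] (hat (rb_7 hy) 1 rfl) h
theorem dp_qi_24_s (hy : Hy g H)
    (j u : ℕ) (hu : u < M) (h : dp_qi_24 j u = true) : Gd g H Lt.qi u := by
  unfold dp_qi_24 at h
  rcases brec_true h with h | h
  · exact lF_good (T := T) (x := Lt.qi) hM0 [Lt.m, Lt.p, Lt.q, Lt.p, Lt.m, Lt.qi, Lt.pi] (hat (rf_5 hy) 0 rfl) h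
  · exact lS_good (T := T) (x := Lt.qi) hM0 hu [Lt.p, Lt.d, Lt.pi, Lt.q, Lt.ni, Lt.pi, Lt.d, Lt.p, Lt.n] (hat (rf_13 hy) 8 rfl) h
theorem dp_qi_25_s (hy : Hy g H)
    (j u : ℕ) (hu : u < M) (h : dp_qi_25 j u = true) : Gd g H Lt.qi u := by
  unfold dp_qi_25 at h
  rcases brec_true h with h | h
  · exact lS_good (T := T) (x := Lt.qi) hM0 hu [Lt.pi, Lt.qi, Lt.m, Lt.p, Lt.q, Lt.p, Lt.m] (hat (rf_5 hy) 6 rfl) h
  · exact lF_good (T := T) (x := Lt.qi) hM0 [Lt.di, Lt.mi, Lt.mi, Lt.mi, Lt.ni, Lt.m, Lt.d, Lt.p] (hat (rb_12 hy) 8 rfl) h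
theorem dp_qi_26_s (hy : Hy g H)
    (j u : ℕ) (hu : u < M) (h : dp_qi_26 j u = true) : Gd g H Lt.qi u := by
  unfold dp_qi_26 at h
  rcases brec_true h with h | h
  · exact dp_qi_24_s hy j u hu h
  · exact dp_qi_25_s hy j u hu h
theorem dp_qi_27_s (hy : Hy g H)
    (j u : ℕ) (hu : u < M) (h : dp_qi_27 j u = true) : Gd g H Lt.qi u := by
  unfold dp_qi_27 at h
  rcases brec_true h with h | h
  · exact dp_qi_23_s hy j u hu h
  · exact dp_qi_26_s hy j u hu h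
theorem dp_qi_28_s (hy : Hy g H)
    (j u : ℕ) (hu : u < M) (h : dp_qi_28 j u = true) : Gd g H Lt.qi u := by
  unfold dp_qi_28 at h
  rcases brec_true h with h | h
  · exact dp_qi_22_s hy j u hu h
  · exact dp_qi_27_s hy j u hu h
theorem dp_qi_29_s (hy : Hy g H)
    (j u : ℕ) (hu : u < M) (h : dp_qi_29 j u = true) : Gd g H Lt.qi u := by
  unfold dp_qi_29 at h
  rcases brec_true h with h | h
  · exact dp_qi_20_s hy j u hu h
  · exact dp_qi_28_s hy j u hu h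
theorem dp_qi_30_s (hy : Hy g H)
    (j u : ℕ) (hu : u < M) (h : dp_qi_30 j u = true) : Gd g H Lt.qi u := by
  unfold dp_qi_30 at h
  rcases brec_true h with h | h
  · exact dp_qi_17_s hy j u hu h
  · exact dp_qi_29_s hy j u hu h
theorem dp_qi_31_s (hy : Hy g H)
    (j u : ℕ) (hu : u < M) (h : dp_qi_31 j u = true) : Gd g H Lt.qi u := by
  unfold dp_qi_31 at h
  rcases brec_true h with h | h
  · exact dp_qi_12_s hy j u hu h
  · exact dp_qi_30_s hy j u hu h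
theorem dp_qi_32_s (hy : Hy g H)
    (j u : ℕ) (hu : u < M) (h : dp_qi_32 j u = true) : Gd g H Lt.qi u := by
  unfold dp_qi_32 at h
  rcases brec_true h with h | h
  · rcases brec_true h with h | h
    · exact lF_good (T := T) (x := Lt.qi) hM0 [Lt.qi, Lt.qi] (hat (rb_0 hy) 0 rfl) h
    · exact dp_qi_3_s hy j u hu h
  · exact dp_qi_31_s hy j u hu h
theorem snd_qi (hy : Hy g H)
    (j u : ℕ) (hu : u < M) (h : disp_qi j u = true) : Gd g H Lt.qi u := by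
  unfold disp_qi at h
  rcases brec_true h with h | h
  · rcases brec_true h with h | h
    · exact lF1_good (T := T) (x := Lt.qi) hM0 .q (hat (rf_23 hy) 0 rfl) h
    · exact lDef_good (T := T) (x := Lt.qi) (by decide) rfl h
  · rcases brec_true h with h | h
    · rcases brec_true h with h | h
      · exact lPar_good (T := T) (x := Lt.qi) (x' := Lt.q) (by decide) rfl (ivt hy _ _ rfl) h
      · exact lS_good (T := T) (x := Lt.qi) hM0 hu [Lt.q] (hat (rf_23 hy) 0 rfl) h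
    · exact dp_qi_32_s hy j u hu h
theorem snc_qi (hy : Hy g H)
    (j u : ℕ) (hu : u < M) (h : chk_qi j u = true) : (T Lt.qi u < A ∧ Gd g H Lt.qi u) ∨ (A ≤ T Lt.qi u ∧ MG u < A) := by
  unfold chk_qi at h
  cases hb : Nat.ble A (T_qi u) with
  | true => rw [hb] at h; exact Or.inr ⟨le_of_ble hb, le_of_ble h⟩
  | false => rw [hb] at h; exact Or.inl ⟨lt_of_ble_false hb, snd_qi hy j u hu h⟩
theorem dp_d_0_s (hy : Hy g H)
    (j u : ℕ) (hu : u < M) (h : dp_d_0 j u = true) : Gd g H Lt.d u := by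
  unfold dp_d_0 at h
  rcases brec_true h with h | h
  · exact lF_good (T := T) (x := Lt.d) hM0 [Lt.q, Lt.pi, Lt.di, Lt.mi, Lt.n, Lt.m, Lt.m, Lt.m] (hat (rf_12 hy) 1 rfl) h
  · exact lS_good (T := T) (x := Lt.d) hM0 hu [Lt.qi, Lt.p, Lt.di, Lt.m, Lt.ni, Lt.mi, Lt.mi, Lt.mi] (hat (rb_11 hy) 6 rfl) h
theorem dp_d_1_s (hy : Hy g H)
    (j u : ℕ) (hu : u < M) (h : dp_d_1 j u = true) : Gd g H Lt.d u := by
  unfold dp_d_1 at h
  rcases brec_true h with h | h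
  · exact lF_good (T := T) (x := Lt.d) hM0 [Lt.pi, Lt.qi, Lt.di, Lt.m, Lt.m, Lt.ni, Lt.mi, Lt.mi] (hat (rb_10 hy) 6 rfl) h
  · exact lS_good (T := T) (x := Lt.d) hM0 hu [Lt.q, Lt.pi, Lt.di, Lt.mi, Lt.n, Lt.m, Lt.m, Lt.m] (hat (rf_12 hy) 1 rfl) h
theorem dp_d_2_s (hy : Hy g H)
    (j u : ℕ) (hu : u < M) (h : dp_d_2 j u = true) : Gd g H Lt.d u := by
  unfold dp_d_2 at h
  rcases brec_true h with h | h
  · exact lS_good (T := T) (x := Lt.d) hM0 hu [Lt.q, Lt.p, Lt.di, Lt.m, Lt.m, Lt.n, Lt.mi, Lt.mi] (hat (rf_10 hy) 1 rfl) h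
  · exact lF_good (T := T) (x := Lt.d) hM0 [Lt.qi, Lt.p, Lt.di, Lt.m, Lt.ni, Lt.mi, Lt.mi, Lt.mi] (hat (rb_11 hy) 6 rfl) h
theorem dp_d_3_s (hy : Hy g H)
    (j u : ℕ) (hu : u < M) (h : dp_d_3 j u = true) : Gd g H Lt.d u := by
  unfold dp_d_3 at h
  rcases brec_true h with h | h
  · exact lF_good (T := T) (x := Lt.d) hM0 [Lt.q, Lt.p, Lt.di, Lt.m, Lt.m, Lt.n, Lt.mi, Lt.mi] (hat (rf_10 hy) 1 rfl) h
  · exact dp_d_2_s hy j u hu h
theorem dp_d_4_s (hy : Hy g H)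
    (j u : ℕ) (hu : u < M) (h : dp_d_4 j u = true) : Gd g H Lt.d u := by
  unfold dp_d_4 at h
  rcases brec_true h with h | h
  · exact dp_d_1_s hy j u hu h
  · exact dp_d_3_s hy j u hu h
theorem dp_d_5_s (hy : Hy g H)
    (j u : ℕ) (hu : u < M) (h : dp_d_5 j u = true) : Gd g H Lt.d u := by
  unfold dp_d_5 at h
  rcases brec_true h with h | h
  · exact lS_good (T := T) (x := Lt.d) hM0 hu [Lt.p, Lt.qi, Lt.di, Lt.mi, Lt.mi, Lt.mi, Lt.ni, Lt.m] (hat (rb_12 hy) 6 rfl) h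
  · exact lS_good (T := T) (x := Lt.d) hM0 hu [Lt.pi, Lt.q, Lt.di, Lt.m, Lt.m, Lt.m, Lt.n, Lt.mi] (hat (rf_11 hy) 1 rfl) h
theorem dp_d_6_s (hy : Hy g H)
    (j u : ℕ) (hu : u < M) (h : dp_d_6 j u = true) : Gd g H Lt.d u := by
  unfold dp_d_6 at h
  rcases brec_true h with h | h
  · exact lS_good (T := T) (x := Lt.d) hM0 hu [Lt.qi, Lt.di, Lt.pi, Lt.q, Lt.ni, Lt.qi, Lt.n, Lt.qi, Lt.p] (hat (rb_16 hy) 8 rfl) h
  · exact lF_good (T := T) (x := Lt.d) hM0 [Lt.p, Lt.qi, Lt.di, Lt.mi, Lt.mi, Lt.mi, Lt.ni, Lt.m] (hat (rb_12 hy) 6 rfl) h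
theorem dp_d_7_s (hy : Hy g H)
    (j u : ℕ) (hu : u < M) (h : dp_d_7 j u = true) : Gd g H Lt.d u := by
  unfold dp_d_7 at h
  rcases brec_true h with h | h
  · exact dp_d_5_s hy j u hu h
  · exact dp_d_6_s hy j u hu h
theorem dp_d_8_s (hy : Hy g H)
    (j u : ℕ) (hu : u < M) (h : dp_d_8 j u = true) : Gd g H Lt.d u := by
  unfold dp_d_8 at h
  rcases brec_true h with h | h
  · exact lS_good (T := T) (x := Lt.d) hM0 hu [Lt.q, Lt.di, Lt.pi, Lt.q, Lt.ni, Lt.q, Lt.n, Lt.qi, Lt.p] (hat (rf_16 hy) 1 rfl) h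
  · exact lS_good (T := T) (x := Lt.d) hM0 hu [Lt.pi, Lt.qi, Lt.di, Lt.m, Lt.m, Lt.ni, Lt.mi, Lt.mi] (hat (rb_10 hy) 6 rfl) h
theorem dp_d_9_s (hy : Hy g H)
    (j u : ℕ) (hu : u < M) (h : dp_d_9 j u = true) : Gd g H Lt.d u := by
  unfold dp_d_9 at h
  rcases brec_true h with h | h
  · exact lF_good (T := T) (x := Lt.d) hM0 [Lt.pi, Lt.q, Lt.di, Lt.m, Lt.m, Lt.m, Lt.n, Lt.mi] (hat (rf_11 hy) 1 rfl) h
  · exact dp_d_8_s hy j u hu h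
theorem dp_d_10_s (hy : Hy g H)
    (j u : ℕ) (hu : u < M) (h : dp_d_10 j u = true) : Gd g H Lt.d u := by
  unfold dp_d_10 at h
  rcases brec_true h with h | h
  · exact lS_good (T := T) (x := Lt.d) hM0 hu [Lt.pi, Lt.q, Lt.ni, Lt.pi, Lt.d, Lt.p, Lt.n, Lt.qi, Lt.p] (hat (rf_13 hy) 0 rfl) h
  · exact lF_good (T := T) (x := Lt.d) hM0 [Lt.p, Lt.n, Lt.qi, Lt.p, Lt.d, Lt.pi, Lt.q, Lt.ni, Lt.pi] (hat (rf_13 hy) 5 rfl) h
theorem dp_d_11_s (hy : Hy g H)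
    (j u : ℕ) (hu : u < M) (h : dp_d_11 j u = true) : Gd g H Lt.d u := by
  unfold dp_d_11 at h
  rcases brec_true h with h | h
  · exact lS_good (T := T) (x := Lt.d) hM0 hu [Lt.p, Lt.q, Lt.p, Lt.p, Lt.qi, Lt.pi, Lt.di, Lt.ni, Lt.m] (hat (rf_15 hy) 1 rfl) h
  · exact dp_d_10_s hy j u hu h
theorem dp_d_12_s (hy : Hy g H)
    (j u : ℕ) (hu : u < M) (h : dp_d_12 j u = true) : Gd g H Lt.d u := by
  unfold dp_d_12 at h
  rcases brec_true h with h | h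
  · exact lF_good (T := T) (x := Lt.d) hM0 [Lt.q, Lt.di, Lt.pi, Lt.q, Lt.ni, Lt.q, Lt.n, Lt.qi, Lt.p] (hat (rf_16 hy) 1 rfl) h
  · exact lS_good (T := T) (x := Lt.d) hM0 hu [Lt.m, Lt.n, Lt.mi, Lt.n, Lt.di, Lt.ni, Lt.m, Lt.ni, Lt.mi] (hat (rb_14 hy) 1 rfl) h
theorem dp_d_13_s (hy : Hy g H)
    (j u : ℕ) (hu : u < M) (h : dp_d_13 j u = true) : Gd g H Lt.d u := by
  unfold dp_d_13 at h
  rcases brec_true h with h | h
  · exact lF_good (T := T) (x := Lt.d) hM0 [Lt.p, Lt.q, Lt.p, Lt.p, Lt.qi, Lt.pi, Lt.di, Lt.ni, Lt.m] (hat (rf_15 hy) 1 rfl) h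
  · exact dp_d_12_s hy j u hu h
theorem dp_d_14_s (hy : Hy g H)
    (j u : ℕ) (hu : u < M) (h : dp_d_14 j u = true) : Gd g H Lt.d u := by
  unfold dp_d_14 at h
  rcases brec_true h with h | h
  · exact lF_good (T := T) (x := Lt.d) hM0 [Lt.p, Lt.q, Lt.pi, Lt.pi, Lt.qi, Lt.pi, Lt.di, Lt.mi, Lt.n] (hat (rb_15 hy) 3 rfl) h
  · exact lS_good (T := T) (x := Lt.d) hM0 hu [Lt.d, Lt.d] (hat (rf_1 hy) 0 rfl) h
theorem dp_d_15_s (hy : Hy g H)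
    (j u : ℕ) (hu : u < M) (h : dp_d_15 j u = true) : Gd g H Lt.d u := by
  unfold dp_d_15 at h
  rcases brec_true h with h | h
  · exact lS_good (T := T) (x := Lt.d) hM0 hu [Lt.p, Lt.n, Lt.qi, Lt.p, Lt.d, Lt.pi, Lt.q, Lt.ni, Lt.pi] (hat (rf_13 hy) 5 rfl) h
  · exact lF_good (T := T) (x := Lt.d) hM0 [Lt.pi, Lt.q, Lt.ni, Lt.pi, Lt.d, Lt.p, Lt.n, Lt.qi, Lt.p] (hat (rf_13 hy) 0 rfl) h
theorem dp_d_16_s (hy : Hy g H)
    (j u : ℕ) (hu : u < M) (h : dp_d_16 j u = true) : Gd g H Lt.d u := by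
  unfold dp_d_16 at h
  rcases brec_true h with h | h
  · exact dp_d_14_s hy j u hu h
  · exact dp_d_15_s hy j u hu h
theorem dp_d_17_s (hy : Hy g H)
    (j u : ℕ) (hu : u < M) (h : dp_d_17 j u = true) : Gd g H Lt.d u := by
  unfold dp_d_17 at h
  rcases brec_true h with h | h
  · exact dp_d_13_s hy j u hu h
  · exact dp_d_16_s hy j u hu h
theorem dp_d_18_s (hy : Hy g H)
    (j u : ℕ) (hu : u < M) (h : dp_d_18 j u = true) : Gd g H Lt.d u := by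
  unfold dp_d_18 at h
  rcases brec_true h with h | h
  · exact dp_d_11_s hy j u hu h
  · exact dp_d_17_s hy j u hu h
theorem dp_d_19_s (hy : Hy g H)
    (j u : ℕ) (hu : u < M) (h : dp_d_19 j u = true) : Gd g H Lt.d u := by
  unfold dp_d_19 at h
  rcases brec_true h with h | h
  · exact dp_d_9_s hy j u hu h
  · exact dp_d_18_s hy j u hu h
theorem dp_d_20_s (hy : Hy g H)
    (j u : ℕ) (hu : u < M) (h : dp_d_20 j u = true) : Gd g H Lt.d u := by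
  unfold dp_d_20 at h
  rcases brec_true h with h | h
  · exact dp_d_7_s hy j u hu h
  · exact dp_d_19_s hy j u hu h
theorem dp_d_21_s (hy : Hy g H)
    (j u : ℕ) (hu : u < M) (h : dp_d_21 j u = true) : Gd g H Lt.d u := by
  unfold dp_d_21 at h
  rcases brec_true h with h | h
  · exact dp_d_4_s hy j u hu h
  · exact dp_d_20_s hy j u hu h
theorem dp_d_22_s (hy : Hy g H)
    (j u : ℕ) (hu : u < M) (h : dp_d_22 j u = true) : Gd g H Lt.d u := by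
  unfold dp_d_22 at h
  rcases brec_true h with h | h
  · rcases brec_true h with h | h
    · exact lS_good (T := T) (x := Lt.d) hM0 hu [Lt.di] (hat (rf_25 hy) 1 rfl) h
    · exact dp_d_0_s hy j u hu h
  · exact dp_d_21_s hy j u hu h
theorem snd_d (hy : Hy g H)
    (j u : ℕ) (hu : u < M) (h : disp_d j u = true) : Gd g H Lt.d u := by
  unfold disp_d at h
  rcases brec_true h with h | h
  · rcases brec_true h with h | h
    · exact lF1_good (T := T) (x := Lt.d) hM0 .di (hat (rf_25 hy) 1 rfl) h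
    · exact lF_good (T := T) (x := Lt.d) hM0 [Lt.d, Lt.d] (hat (rf_1 hy) 0 rfl) h
  · rcases brec_true h with h | h
    · rcases brec_true h with h | h
      · exact lPar_good (T := T) (x := Lt.d) (x' := Lt.di) (by decide) rfl (ivt hy _ _ rfl) h
      · exact lDef_good (T := T) (x := Lt.d) (by decide) rfl h
    · exact dp_d_22_s hy j u hu h
theorem snc_d (hy : Hy g H)
    (j u : ℕ) (hu : u < M) (h : chk_d j u = true) : (T Lt.d u < A ∧ Gd g H Lt.d u) ∨ (A ≤ T Lt.d u ∧ MG u < A) := by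
  unfold chk_d at h
  cases hb : Nat.ble A (T_d u) with
  | true => rw [hb] at h; exact Or.inr ⟨le_of_ble hb, le_of_ble h⟩
  | false => rw [hb] at h; exact Or.inl ⟨lt_of_ble_false hb, snd_d hy j u hu h⟩
theorem dp_di_0_s (hy : Hy g H)
    (j u : ℕ) (hu : u < M) (h : dp_di_0 j u = true) : Gd g H Lt.di u := by
  unfold dp_di_0 at h
  rcases brec_true h with h | h
  · exact lF_good (T := T) (x := Lt.di) hM0 [Lt.m, Lt.m, Lt.m, Lt.n, Lt.mi, Lt.d, Lt.pi, Lt.q] (hat (rf_11 hy) 4 rfl) h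
  · exact lF_good (T := T) (x := Lt.di) hM0 [Lt.mi, Lt.mi, Lt.mi, Lt.ni, Lt.m, Lt.d, Lt.p, Lt.qi] (hat (rb_12 hy) 0 rfl) h
theorem dp_di_1_s (hy : Hy g H)
    (j u : ℕ) (hu : u < M) (h : dp_di_1 j u = true) : Gd g H Lt.di u := by
  unfold dp_di_1 at h
  rcases brec_true h with h | h
  · exact lF_good (T := T) (x := Lt.di) hM0 [Lt.m, Lt.m, Lt.n, Lt.mi, Lt.mi, Lt.d, Lt.q, Lt.p] (hat (rf_10 hy) 4 rfl) h
  · exact dp_di_0_s hy j u hu h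
theorem dp_di_2_s (hy : Hy g H)
    (j u : ℕ) (hu : u < M) (h : dp_di_2 j u = true) : Gd g H Lt.di u := by
  unfold dp_di_2 at h
  rcases brec_true h with h | h
  · exact lF_good (T := T) (x := Lt.di) hM0 [Lt.m, Lt.ni, Lt.mi, Lt.mi, Lt.mi, Lt.d, Lt.qi, Lt.p] (hat (rb_11 hy) 0 rfl) h
  · exact lS_good (T := T) (x := Lt.di) hM0 hu [Lt.m, Lt.ni, Lt.mi, Lt.mi, Lt.mi, Lt.d, Lt.qi, Lt.p] (hat (rb_11 hy) 0 rfl) h
theorem dp_di_3_s (hy : Hy g H)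
    (j u : ℕ) (hu : u < M) (h : dp_di_3 j u = true) : Gd g H Lt.di u := by
  unfold dp_di_3 at h
  rcases brec_true h with h | h
  · exact lS_good (T := T) (x := Lt.di) hM0 hu [Lt.m, Lt.m, Lt.n, Lt.mi, Lt.mi, Lt.d, Lt.q, Lt.p] (hat (rf_10 hy) 4 rfl) h
  · exact lF_good (T := T) (x := Lt.di) hM0 [Lt.mi, Lt.n, Lt.m, Lt.m, Lt.m, Lt.d, Lt.q, Lt.pi] (hat (rf_12 hy) 4 rfl) h
theorem dp_di_4_s (hy : Hy g H)
    (j u : ℕ) (hu : u < M) (h : dp_di_4 j u = true) : Gd g H Lt.di u := by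
  unfold dp_di_4 at h
  rcases brec_true h with h | h
  · exact lF_good (T := T) (x := Lt.di) hM0 [Lt.m, Lt.m, Lt.ni, Lt.mi, Lt.mi, Lt.d, Lt.pi, Lt.qi] (hat (rb_10 hy) 0 rfl) h
  · exact dp_di_3_s hy j u hu h
theorem dp_di_5_s (hy : Hy g H)
    (j u : ℕ) (hu : u < M) (h : dp_di_5 j u = true) : Gd g H Lt.di u := by
  unfold dp_di_5 at h
  rcases brec_true h with h | h
  · exact dp_di_2_s hy j u hu h
  · exact dp_di_4_s hy j u hu h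
theorem dp_di_6_s (hy : Hy g H)
    (j u : ℕ) (hu : u < M) (h : dp_di_6 j u = true) : Gd g H Lt.di u := by
  unfold dp_di_6 at h
  rcases brec_true h with h | h
  · exact lS_good (T := T) (x := Lt.di) hM0 hu [Lt.pi, Lt.q, Lt.ni, Lt.qi, Lt.n, Lt.qi, Lt.p, Lt.d, Lt.qi] (hat (rb_16 hy) 0 rfl) h
  · exact lS_good (T := T) (x := Lt.di) hM0 hu [Lt.mi, Lt.mi, Lt.mi, Lt.ni, Lt.m, Lt.d, Lt.p, Lt.qi] (hat (rb_12 hy) 0 rfl) h
theorem dp_di_7_s (hy : Hy g H)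
    (j u : ℕ) (hu : u < M) (h : dp_di_7 j u = true) : Gd g H Lt.di u := by
  unfold dp_di_7 at h
  rcases brec_true h with h | h
  · exact lS_good (T := T) (x := Lt.di) hM0 hu [Lt.m, Lt.m, Lt.m, Lt.n, Lt.mi, Lt.d, Lt.pi, Lt.q] (hat (rf_11 hy) 4 rfl) h
  · exact lS_good (T := T) (x := Lt.di) hM0 hu [Lt.m, Lt.m, Lt.ni, Lt.mi, Lt.mi, Lt.d, Lt.pi, Lt.qi] (hat (rb_10 hy) 0 rfl) h
theorem dp_di_8_s (hy : Hy g H)
    (j u : ℕ) (hu : u < M) (h : dp_di_8 j u = true) : Gd g H Lt.di u := by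
  unfold dp_di_8 at h
  rcases brec_true h with h | h
  · exact dp_di_6_s hy j u hu h
  · exact dp_di_7_s hy j u hu h
theorem dp_di_9_s (hy : Hy g H)
    (j u : ℕ) (hu : u < M) (h : dp_di_9 j u = true) : Gd g H Lt.di u := by
  unfold dp_di_9 at h
  rcases brec_true h with h | h
  · exact lS_good (T := T) (x := Lt.di) hM0 hu [Lt.pi, Lt.q, Lt.ni, Lt.pi, Lt.di, Lt.p, Lt.n, Lt.qi, Lt.p] (hat (rb_13 hy) 1 rfl) h
  · exact lS_good (T := T) (x := Lt.di) hM0 hu [Lt.p, Lt.n, Lt.qi, Lt.p, Lt.di, Lt.pi, Lt.q, Lt.ni, Lt.pi] (hat (rb_13 hy) 6 rfl) h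
theorem dp_di_10_s (hy : Hy g H)
    (j u : ℕ) (hu : u < M) (h : dp_di_10 j u = true) : Gd g H Lt.di u := by
  unfold dp_di_10 at h
  rcases brec_true h with h | h
  · exact lS_good (T := T) (x := Lt.di) hM0 hu [Lt.mi, Lt.n, Lt.m, Lt.m, Lt.m, Lt.d, Lt.q, Lt.pi] (hat (rf_12 hy) 4 rfl) h
  · exact dp_di_9_s hy j u hu h
theorem dp_di_11_s (hy : Hy g H)
    (j u : ℕ) (hu : u < M) (h : dp_di_11 j u = true) : Gd g H Lt.di u := by
  unfold dp_di_11 at h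
  rcases brec_true h with h | h
  · exact lS_good (T := T) (x := Lt.di) hM0 hu [Lt.mi, Lt.n, Lt.d, Lt.p, Lt.q, Lt.pi, Lt.pi, Lt.qi, Lt.pi] (hat (rb_15 hy) 0 rfl) h
  · exact lS_good (T := T) (x := Lt.di) hM0 hu [Lt.di, Lt.di] (hat (rb_1 hy) 0 rfl) h
theorem dp_di_12_s (hy : Hy g H)
    (j u : ℕ) (hu : u < M) (h : dp_di_12 j u = true) : Gd g H Lt.di u := by
  unfold dp_di_12 at h
  rcases brec_true h with h | h
  · exact lS_good (T := T) (x := Lt.di) hM0 hu [Lt.pi, Lt.q, Lt.ni, Lt.q, Lt.n, Lt.qi, Lt.p, Lt.d, Lt.q] (hat (rf_16 hy) 3 rfl) h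
  · exact dp_di_11_s hy j u hu h
theorem dp_di_13_s (hy : Hy g H)
    (j u : ℕ) (hu : u < M) (h : dp_di_13 j u = true) : Gd g H Lt.di u := by
  unfold dp_di_13 at h
  rcases brec_true h with h | h
  · exact lF_good (T := T) (x := Lt.di) hM0 [Lt.pi, Lt.q, Lt.ni, Lt.qi, Lt.n, Lt.qi, Lt.p, Lt.d, Lt.qi] (hat (rb_16 hy) 0 rfl) h
  · exact lS_good (T := T) (x := Lt.di) hM0 hu [Lt.ni, Lt.m, Lt.d, Lt.p, Lt.q, Lt.p, Lt.p, Lt.qi, Lt.pi] (hat (rf_15 hy) 8 rfl) h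
theorem dp_di_14_s (hy : Hy g H)
    (j u : ℕ) (hu : u < M) (h : dp_di_14 j u = true) : Gd g H Lt.di u := by
  unfold dp_di_14 at h
  rcases brec_true h with h | h
  · exact lF_good (T := T) (x := Lt.di) hM0 [Lt.p, Lt.n, Lt.qi, Lt.p, Lt.di, Lt.pi, Lt.q, Lt.ni, Lt.pi] (hat (rb_13 hy) 6 rfl) h
  · exact lF_good (T := T) (x := Lt.di) hM0 [Lt.ni, Lt.m, Lt.d, Lt.p, Lt.q, Lt.p, Lt.p, Lt.qi, Lt.pi] (hat (rf_15 hy) 8 rfl) h
theorem dp_di_15_s (hy : Hy g H)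
    (j u : ℕ) (hu : u < M) (h : dp_di_15 j u = true) : Gd g H Lt.di u := by
  unfold dp_di_15 at h
  rcases brec_true h with h | h
  · exact lS_good (T := T) (x := Lt.di) hM0 hu [Lt.m, Lt.n, Lt.mi, Lt.n, Lt.d, Lt.ni, Lt.m, Lt.ni, Lt.mi] (hat (rf_14 hy) 0 rfl) h
  · exact dp_di_14_s hy j u hu h
theorem dp_di_16_s (hy : Hy g H)
    (j u : ℕ) (hu : u < M) (h : dp_di_16 j u = true) : Gd g H Lt.di u := by
  unfold dp_di_16 at h
  rcases brec_true h with h | h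
  · exact dp_di_13_s hy j u hu h
  · exact dp_di_15_s hy j u hu h
theorem dp_di_17_s (hy : Hy g H)
    (j u : ℕ) (hu : u < M) (h : dp_di_17 j u = true) : Gd g H Lt.di u := by
  unfold dp_di_17 at h
  rcases brec_true h with h | h
  · exact dp_di_12_s hy j u hu h
  · exact dp_di_16_s hy j u hu h
theorem dp_di_18_s (hy : Hy g H)
    (j u : ℕ) (hu : u < M) (h : dp_di_18 j u = true) : Gd g H Lt.di u := by
  unfold dp_di_18 at h
  rcases brec_true h with h | h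
  · exact dp_di_10_s hy j u hu h
  · exact dp_di_17_s hy j u hu h
theorem dp_di_19_s (hy : Hy g H)
    (j u : ℕ) (hu : u < M) (h : dp_di_19 j u = true) : Gd g H Lt.di u := by
  unfold dp_di_19 at h
  rcases brec_true h with h | h
  · exact dp_di_8_s hy j u hu h
  · exact dp_di_18_s hy j u hu h
theorem dp_di_20_s (hy : Hy g H)
    (j u : ℕ) (hu : u < M) (h : dp_di_20 j u = true) : Gd g H Lt.di u := by
  unfold dp_di_20 at h
  rcases brec_true h with h | h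
  · exact dp_di_5_s hy j u hu h
  · exact dp_di_19_s hy j u hu h
theorem dp_di_21_s (hy : Hy g H)
    (j u : ℕ) (hu : u < M) (h : dp_di_21 j u = true) : Gd g H Lt.di u := by
  unfold dp_di_21 at h
  rcases brec_true h with h | h
  · rcases brec_true h with h | h
    · exact lF_good (T := T) (x := Lt.di) hM0 [Lt.di, Lt.di] (hat (rb_1 hy) 0 rfl) h
    · exact dp_di_1_s hy j u hu h
  · exact dp_di_20_s hy j u hu h
theorem dp_di_22_s (hy : Hy g H)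
    (j u : ℕ) (hu : u < M) (h : dp_di_22 j u = true) : Gd g H Lt.di u := by
  unfold dp_di_22 at h
  rcases brec_true h with h | h
  · rcases brec_true h with h | h
    · exact lPar_good (T := T) (x := Lt.di) (x' := Lt.d) (by decide) rfl (ivt hy _ _ rfl) h
    · exact lS_good (T := T) (x := Lt.di) hM0 hu [Lt.d] (hat (rf_25 hy) 0 rfl) h
  · exact dp_di_21_s hy j u hu h
theorem snd_di (hy : Hy g H)
    (j u : ℕ) (hu : u < M) (h : disp_di j u = true) : Gd g H Lt.di u := by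
  unfold disp_di at h
  rcases brec_true h with h | h
  · rcases brec_true h with h | h
    · exact lF1_good (T := T) (x := Lt.di) hM0 .d (hat (rf_25 hy) 0 rfl) h
    · exact lDef_good (T := T) (x := Lt.di) (by decide) rfl h
  · exact dp_di_22_s hy j u hu h
theorem snc_di (hy : Hy g H)
    (j u : ℕ) (hu : u < M) (h : chk_di j u = true) : (T Lt.di u < A ∧ Gd g H Lt.di u) ∨ (A ≤ T Lt.di u ∧ MG u < A) := by
  unfold chk_di at h
  cases hb : Nat.ble A (T_di u) with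
  | true => rw [hb] at h; exact Or.inr ⟨le_of_ble hb, le_of_ble h⟩
  | false => rw [hb] at h; exact Or.inl ⟨lt_of_ble_false hb, snd_di hy j u hu h⟩
theorem dM_0_s (hy : Hy g H) (j z1 z2 u : ℕ) (h : dM_0 j z1 z2 u = true) : GdM g H u := by
  unfold dM_0 at h
  rcases brec_true h with h | h
  · rcases brec_true h with h | h
    · exact mCo_good (T := T) (y := .ni) hM0 h
    · exact mCo_good (T := T) (y := .mi) hM0 h
  · rcases brec_true h with h | h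
    · exact mCo_good (T := T) (y := .n) hM0 h
    · rcases brec_true h with h | h
      · exact mCo_good (T := T) (y := .q) hM0 h
      · exact mCo_good (T := T) (y := .qi) hM0 h
theorem dM_1_s (hy : Hy g H) (j z1 z2 u : ℕ) (h : dM_1 j z1 z2 u = true) : GdM g H u := by
  unfold dM_1 at h
  rcases brec_true h with h | h
  · rcases brec_true h with h | h
    · exact mCo_good (T := T) (y := .d) hM0 h
    · rcases brec_true h with h | h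
      · exact mCo_good (T := T) (y := .di) hM0 h
      · exact mCo_good (T := T) (y := .p) hM0 h
  · rcases brec_true h with h | h
    · exact mCo_good (T := T) (y := .pi) hM0 h
    · rcases brec_true h with h | h
      · exact mCo_good (T := T) (y := .m) hM0 h
      · rcases brec_true h with h | h
        · rcases brec_true h with h | h
          · exact mRel_good (T := T) hM0 [Lt.p, Lt.q, Lt.p] [Lt.mi, Lt.q, Lt.p, Lt.q, Lt.mi] (pat hy (rf_5 hy) 1 rfl) h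
          · exact mRel_good (T := T) hM0 [Lt.d, Lt.pi, Lt.qi, Lt.di] [Lt.m, Lt.m, Lt.n, Lt.mi, Lt.mi] (pat hy (rb_10 hy) 5 rfl) h
        · rcases brec_true h with h | h
          · exact mRel_good (T := T) hM0 [Lt.p, Lt.q, Lt.p, Lt.m] [Lt.mi, Lt.q, Lt.p, Lt.q] (pat hy (rf_5 hy) 1 rfl) h
          · rcases brec_true h with h | h
            · exact mRel_good (T := T) hM0 [Lt.mi, Lt.q, Lt.p, Lt.q] [Lt.qi, Lt.pi, Lt.qi, Lt.m] (pat hy (rb_4 hy) 3 rfl) h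
            · exact mRel_good (T := T) hM0 [Lt.m, Lt.qi, Lt.pi, Lt.qi] [Lt.q, Lt.p, Lt.q, Lt.mi] (pat hy (rf_4 hy) 0 rfl) h
theorem dM_2_s (hy : Hy g H) (j z1 z2 u : ℕ) (h : dM_2 j z1 z2 u = true) : GdM g H u := by
  unfold dM_2 at h
  rcases brec_true h with h | h
  · exact dM_0_s hy j z1 z2 u h
  · exact dM_1_s hy j z1 z2 u h
theorem dM_3_s (hy : Hy g H) (j z1 z2 u : ℕ) (h : dM_3 j z1 z2 u = true) : GdM g H u := by
  unfold dM_3 at h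
  rcases brec_true h with h | h
  · rcases brec_true h with h | h
    · exact mRel_good (T := T) hM0 [Lt.m] [Lt.n, Lt.d, Lt.p, Lt.q, Lt.pi, Lt.pi, Lt.qi, Lt.pi, Lt.di] (pat hy (rf_15 hy) 9 rfl) h
    · rcases brec_true h with h | h
      · exact mRel_good (T := T) hM0 [Lt.mi, Lt.q, Lt.p, Lt.q, Lt.mi] [Lt.qi, Lt.pi, Lt.qi] (pat hy (rb_4 hy) 3 rfl) h
      · exact mRel_good (T := T) hM0 [Lt.di, Lt.m, Lt.m, Lt.m, Lt.n, Lt.mi, Lt.d] [Lt.qi, Lt.p] (pat hy (rf_11 hy) 3 rfl) h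
  · rcases brec_true h with h | h
    · rcases brec_true h with h | h
      · exact mRel_good (T := T) hM0 [Lt.d, Lt.q, Lt.p, Lt.di, Lt.m] [Lt.m, Lt.m, Lt.ni, Lt.mi] (pat hy (rf_10 hy) 0 rfl) h
      · exact mRel_good (T := T) hM0 [Lt.pi, Lt.pi, Lt.q, Lt.n] [Lt.ni, Lt.qi, Lt.p, Lt.p] (pat hy (rf_7 hy) 1 rfl) h
    · rcases brec_true h with h | h
      · exact mRel_good (T := T) hM0 [Lt.mi, Lt.mi, Lt.ni, Lt.m] [Lt.m, Lt.d, Lt.q, Lt.pi, Lt.di] (pat hy (rb_12 hy) 1 rfl) h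
      · exact mRel_good (T := T) hM0 [Lt.m, Lt.ni] [Lt.n, Lt.di, Lt.ni, Lt.m, Lt.ni, Lt.mi, Lt.d, Lt.m] (pat hy (rf_14 hy) 6 rfl) h
theorem dM_4_s (hy : Hy g H) (j z1 z2 u : ℕ) (h : dM_4 j z1 z2 u = true) : GdM g H u := by
  unfold dM_4 at h
  rcases brec_true h with h | h
  · rcases brec_true h with h | h
    · exact mRel_good (T := T) hM0 [Lt.p, Lt.d, Lt.qi] [Lt.q, Lt.ni, Lt.q, Lt.n, Lt.qi, Lt.p, Lt.d] (pat hy (rb_16 hy) 6 rfl) h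
    · rcases brec_true h with h | h
      · exact mRel_good (T := T) hM0 [Lt.pi, Lt.mi, Lt.q, Lt.p, Lt.q, Lt.mi] [Lt.q, Lt.p] (pat hy (rb_5 hy) 6 rfl) h
      · exact mRel_good (T := T) hM0 [Lt.pi, Lt.qi, Lt.pi] [Lt.m, Lt.qi, Lt.pi, Lt.qi, Lt.m] (pat hy (rb_5 hy) 4 rfl) h
  · rcases brec_true h with h | h
    · rcases brec_true h with h | h
      · exact mRel_good (T := T) hM0 [Lt.pi, Lt.n, Lt.qi, Lt.p, Lt.ni, Lt.p] [Lt.p, Lt.ni] (pat hy (rf_9 hy) 2 rfl) h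
      · exact mRel_good (T := T) hM0 [Lt.pi, Lt.qi, Lt.p, Lt.qi] [Lt.q, Lt.pi, Lt.q, Lt.p] (pat hy (rb_3 hy) 3 rfl) h
    · rcases brec_true h with h | h
      · exact mRel_good (T := T) hM0 [Lt.m, Lt.qi, Lt.pi, Lt.qi, Lt.m] [Lt.q, Lt.p, Lt.q] (pat hy (rf_4 hy) 0 rfl) h
      · exact mRel_good (T := T) hM0 [Lt.qi, Lt.p, Lt.p, Lt.ni, Lt.qi, Lt.p] [Lt.n, Lt.pi] (pat hy (rb_7 hy) 0 rfl) h
theorem dM_5_s (hy : Hy g H) (j z1 z2 u : ℕ) (h : dM_5 j z1 z2 u = true) : GdM g H u := by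
  unfold dM_5 at h
  rcases brec_true h with h | h
  · exact dM_3_s hy j z1 z2 u h
  · exact dM_4_s hy j z1 z2 u h
theorem dM_6_s (hy : Hy g H) (j z1 z2 u : ℕ) (h : dM_6 j z1 z2 u = true) : GdM g H u := by
  unfold dM_6 at h
  rcases brec_true h with h | h
  · rcases brec_true h with h | h
    · rcases brec_true h with h | h
      · exact mRel_good (T := T) hM0 [Lt.m, Lt.m, Lt.d] [Lt.mi, Lt.ni, Lt.m, Lt.d, Lt.p, Lt.qi] (pat hy (rf_12 hy) 7 rfl) h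
      · exact mRel_good (T := T) hM0 [Lt.qi, Lt.di] [Lt.di, Lt.pi, Lt.q, Lt.ni, Lt.q, Lt.n, Lt.qi, Lt.p] (pat hy (rb_16 hy) 8 rfl) h
    · rcases brec_true h with h | h
      · exact mRel_good (T := T) hM0 [Lt.mi, Lt.mi, Lt.mi] [Lt.d, Lt.q, Lt.pi, Lt.di, Lt.mi, Lt.n] (pat hy (rb_12 hy) 0 rfl) h
      · rcases brec_true h with h | h
        · exact mRel_good (T := T) hM0 [Lt.m, Lt.ni, Lt.mi, Lt.mi, Lt.mi] [Lt.d, Lt.pi, Lt.q, Lt.di] (pat hy (rb_11 hy) 0 rfl) h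
        · exact mRel_good (T := T) hM0 [Lt.n, Lt.pi, Lt.pi, Lt.n] [Lt.pi, Lt.n, Lt.pi, Lt.q] (pat hy (rf_9 hy) 0 rfl) h
  · rcases brec_true h with h | h
    · rcases brec_true h with h | h
      · exact mRel_good (T := T) hM0 [Lt.ni, Lt.p, Lt.p, Lt.ni] [Lt.qi, Lt.p, Lt.ni, Lt.p] (pat hy (rb_9 hy) 4 rfl) h
      · rcases brec_true h with h | h
        · exact mRel_good (T := T) hM0 [Lt.qi, Lt.n] [Lt.n, Lt.qi, Lt.p, Lt.n, Lt.pi, Lt.q] (pat hy (rb_6 hy) 3 rfl) h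
        · exact mRel_good (T := T) hM0 [Lt.pi, Lt.q, Lt.ni, Lt.p] [Lt.ni, Lt.p, Lt.n, Lt.pi] (pat hy (rb_9 hy) 2 rfl) h
    · rcases brec_true h with h | h
      · exact mRel_good (T := T) hM0 [Lt.n, Lt.mi, Lt.mi, Lt.d, Lt.q, Lt.p, Lt.di] [Lt.mi, Lt.mi] (pat hy (rf_10 hy) 6 rfl) h
      · rcases brec_true h with h | h
        · exact mRel_good (T := T) hM0 [Lt.mi, Lt.mi, Lt.d, Lt.qi, Lt.p, Lt.di] [Lt.m, Lt.n, Lt.mi] (pat hy (rb_11 hy) 3 rfl) h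
        · exact mRel_good (T := T) hM0 [Lt.m, Lt.n, Lt.mi, Lt.d, Lt.pi, Lt.q, Lt.di] [Lt.mi, Lt.mi] (pat hy (rf_11 hy) 6 rfl) h
theorem dM_7_s (hy : Hy g H) (j z1 z2 u : ℕ) (h : dM_7 j z1 z2 u = true) : GdM g H u := by
  unfold dM_7 at h
  rcases brec_true h with h | h
  · rcases brec_true h with h | h
    · rcases brec_true h with h | h
      · exact mRel_good (T := T) hM0 [Lt.pi, Lt.qi, Lt.p] [Lt.q, Lt.pi, Lt.q, Lt.p, Lt.q] (pat hy (rb_3 hy) 3 rfl) h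
      · exact mRel_good (T := T) hM0 [Lt.q, Lt.pi, Lt.q] [Lt.pi, Lt.qi, Lt.p, Lt.qi, Lt.pi] (pat hy (rf_3 hy) 1 rfl) h
    · rcases brec_true h with h | h
      · exact mRel_good (T := T) hM0 [Lt.mi, Lt.d, Lt.pi, Lt.q, Lt.di, Lt.m] [Lt.ni, Lt.mi, Lt.mi] (pat hy (rf_11 hy) 8 rfl) h
      · rcases brec_true h with h | h
        · exact mRel_good (T := T) hM0 [Lt.pi, Lt.qi, Lt.di] [Lt.di, Lt.m, Lt.m, Lt.n, Lt.mi, Lt.mi] (pat hy (rb_10 hy) 6 rfl) h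
        · exact mRel_good (T := T) hM0 [Lt.mi, Lt.mi, Lt.mi, Lt.ni, Lt.m] [Lt.d, Lt.q, Lt.pi, Lt.di] (pat hy (rb_12 hy) 0 rfl) h
  · rcases brec_true h with h | h
    · rcases brec_true h with h | h
      · exact mRel_good (T := T) hM0 [Lt.p, Lt.di, Lt.m, Lt.ni, Lt.mi, Lt.mi, Lt.mi, Lt.d] [Lt.q] (pat hy (rb_11 hy) 7 rfl) h
      · rcases brec_true h with h | h
        · exact mRel_good (T := T) hM0 [Lt.n, Lt.mi, Lt.mi] [Lt.mi, Lt.mi, Lt.d, Lt.pi, Lt.qi, Lt.di] (pat hy (rf_10 hy) 6 rfl) h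
        · exact mRel_good (T := T) hM0 [Lt.ni, Lt.m] [Lt.d, Lt.p, Lt.q, Lt.pi, Lt.pi, Lt.qi, Lt.pi, Lt.di] (pat hy (rf_15 hy) 8 rfl) h
    · rcases brec_true h with h | h
      · exact mRel_good (T := T) hM0 [Lt.di, Lt.m, Lt.m, Lt.n, Lt.mi] [Lt.pi, Lt.qi, Lt.di, Lt.m] (pat hy (rf_10 hy) 3 rfl) h
      · rcases brec_true h with h | h
        · exact mRel_good (T := T) hM0 [Lt.pi, Lt.ni, Lt.q] [Lt.ni, Lt.qi, Lt.n, Lt.p, Lt.ni] (pat hy (rb_8 hy) 2 rfl) h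
        · exact mRel_good (T := T) hM0 [Lt.d, Lt.qi, Lt.p, Lt.di, Lt.m] [Lt.m, Lt.m, Lt.m, Lt.n] (pat hy (rb_11 hy) 5 rfl) h
theorem dM_8_s (hy : Hy g H) (j z1 z2 u : ℕ) (h : dM_8 j z1 z2 u = true) : GdM g H u := by
  unfold dM_8 at h
  rcases brec_true h with h | h
  · exact dM_6_s hy j z1 z2 u h
  · exact dM_7_s hy j z1 z2 u h
theorem dM_9_s (hy : Hy g H) (j z1 z2 u : ℕ) (h : dM_9 j z1 z2 u = true) : GdM g H u := by
  unfold dM_9 at h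
  rcases brec_true h with h | h
  · exact dM_5_s hy j z1 z2 u h
  · exact dM_8_s hy j z1 z2 u h
theorem dM_10_s (hy : Hy g H) (j z1 z2 u : ℕ) (h : dM_10 j z1 z2 u = true) : GdM g H u := by
  unfold dM_10 at h
  rcases brec_true h with h | h
  · rcases brec_true h with h | h
    · exact mRel_good (T := T) hM0 [Lt.n, Lt.mi, Lt.d, Lt.pi, Lt.q, Lt.di, Lt.m] [Lt.mi, Lt.mi] (pat hy (rf_11 hy) 7 rfl) h
    · exact mRel_good (T := T) hM0 [Lt.m, Lt.m] [Lt.d, Lt.qi, Lt.p, Lt.di, Lt.m, Lt.ni, Lt.mi] (pat hy (rf_11 hy) 4 rfl) h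
  · rcases brec_true h with h | h
    · exact mRel_good (T := T) hM0 [Lt.p, Lt.n] [Lt.n, Lt.pi, Lt.q, Lt.ni, Lt.p, Lt.p] (pat hy (rf_9 hy) 7 rfl) h
    · rcases brec_true h with h | h
      · exact mRel_good (T := T) hM0 [Lt.qi, Lt.pi, Lt.mi, Lt.q, Lt.p, Lt.q, Lt.mi] [Lt.p] (pat hy (rb_5 hy) 5 rfl) h
      · exact mRel_good (T := T) hM0 [Lt.p, Lt.q, Lt.p, Lt.p, Lt.qi, Lt.pi, Lt.di, Lt.ni, Lt.m] [Lt.di] (pat hy (rf_15 hy) 1 rfl) h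
theorem dM_11_s (hy : Hy g H) (j z1 z2 u : ℕ) (h : dM_11 j z1 z2 u = true) : GdM g H u := by
  unfold dM_11 at h
  rcases brec_true h with h | h
  · rcases brec_true h with h | h
    · exact mRel_good (T := T) hM0 [Lt.m, Lt.m, Lt.n, Lt.mi, Lt.mi] [Lt.d, Lt.pi, Lt.qi, Lt.di] (pat hy (rf_10 hy) 4 rfl) h
    · rcases brec_true h with h | h
      · exact mRel_good (T := T) hM0 [Lt.m, Lt.m] [Lt.ni, Lt.m, Lt.d, Lt.p, Lt.qi, Lt.di, Lt.mi] (pat hy (rf_12 hy) 6 rfl) h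
      · rcases brec_true h with h | h
        · exact mRel_good (T := T) hM0 [Lt.pi] [Lt.n, Lt.pi, Lt.pi, Lt.n, Lt.qi, Lt.p, Lt.ni] (pat hy (rb_9 hy) 0 rfl) h
        · exact mRel_good (T := T) hM0 [Lt.ni, Lt.qi, Lt.n, Lt.qi, Lt.p, Lt.d] [Lt.qi, Lt.p, Lt.d, Lt.q] (pat hy (rb_16 hy) 2 rfl) h
  · rcases brec_true h with h | h
    · rcases brec_true h with h | h
      · exact mRel_good (T := T) hM0 [Lt.d, Lt.pi, Lt.q, Lt.di] [Lt.m, Lt.ni, Lt.mi, Lt.mi, Lt.mi] (pat hy (rf_11 hy) 0 rfl) h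
      · rcases brec_true h with h | h
        · exact mRel_good (T := T) hM0 [Lt.di, Lt.mi, Lt.mi, Lt.mi, Lt.ni, Lt.m, Lt.d] [Lt.q, Lt.pi] (pat hy (rb_12 hy) 8 rfl) h
        · exact mRel_good (T := T) hM0 [Lt.ni, Lt.m, Lt.d] [Lt.d, Lt.p, Lt.q, Lt.pi, Lt.pi, Lt.qi, Lt.pi] (pat hy (rf_15 hy) 8 rfl) h
    · rcases brec_true h with h | h
      · exact mRel_good (T := T) hM0 [Lt.n, Lt.mi, Lt.d, Lt.pi, Lt.q] [Lt.mi, Lt.mi, Lt.mi, Lt.d] (pat hy (rf_11 hy) 7 rfl) h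
      · rcases brec_true h with h | h
        · exact mRel_good (T := T) hM0 [Lt.q, Lt.ni, Lt.pi, Lt.d, Lt.p, Lt.n] [Lt.p, Lt.di, Lt.pi, Lt.q] (pat hy (rf_13 hy) 1 rfl) h
        · exact mRel_good (T := T) hM0 [Lt.q, Lt.di] [Lt.di, Lt.pi, Lt.q, Lt.ni, Lt.qi, Lt.n, Lt.qi, Lt.p] (pat hy (rf_16 hy) 1 rfl) h
theorem dM_12_s (hy : Hy g H) (j z1 z2 u : ℕ) (h : dM_12 j z1 z2 u = true) : GdM g H u := by
  unfold dM_12 at h
  rcases brec_true h with h | h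
  · exact dM_10_s hy j z1 z2 u h
  · exact dM_11_s hy j z1 z2 u h
theorem dM_13_s (hy : Hy g H) (j z1 z2 u : ℕ) (h : dM_13 j z1 z2 u = true) : GdM g H u := by
  unfold dM_13 at h
  rcases brec_true h with h | h
  · rcases brec_true h with h | h
    · rcases brec_true h with h | h
      · exact mRel_good (T := T) hM0 [Lt.d, Lt.p, Lt.qi, Lt.di, Lt.mi, Lt.mi, Lt.mi, Lt.ni] [Lt.mi] (pat hy (rb_12 hy) 5 rfl) h
      · exact mRel_good (T := T) hM0 [Lt.d, Lt.q, Lt.pi, Lt.di, Lt.mi, Lt.n, Lt.m, Lt.m, Lt.m] [] (pat hy (rf_12 hy) 0 rfl) h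
    · rcases brec_true h with h | h
      · exact mRel_good (T := T) hM0 [Lt.qi, Lt.p, Lt.d] [Lt.ni, Lt.qi, Lt.n, Lt.qi, Lt.p, Lt.d, Lt.qi] (pat hy (rf_16 hy) 8 rfl) h
      · rcases brec_true h with h | h
        · exact mRel_good (T := T) hM0 [Lt.mi, Lt.n, Lt.d] [Lt.d, Lt.p, Lt.q, Lt.p, Lt.p, Lt.qi, Lt.pi] (pat hy (rb_15 hy) 0 rfl) h
        · exact mRel_good (T := T) hM0 [Lt.di, Lt.m, Lt.ni, Lt.mi, Lt.mi, Lt.mi, Lt.d] [Lt.pi, Lt.q] (pat hy (rb_11 hy) 8 rfl) h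
  · rcases brec_true h with h | h
    · rcases brec_true h with h | h
      · exact mRel_good (T := T) hM0 [Lt.q, Lt.ni, Lt.p, Lt.p, Lt.ni] [Lt.p, Lt.ni, Lt.p] (pat hy (rb_9 hy) 3 rfl) h
      · rcases brec_true h with h | h
        · exact mRel_good (T := T) hM0 [Lt.d, Lt.p, Lt.q, Lt.p, Lt.p, Lt.qi, Lt.pi, Lt.di] [Lt.mi, Lt.n] (pat hy (rf_15 hy) 0 rfl) h
        · exact mRel_good (T := T) hM0 [Lt.qi, Lt.p, Lt.n, Lt.pi, Lt.q, Lt.ni] [Lt.ni, Lt.qi] (pat hy (rf_6 hy) 6 rfl) h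
    · rcases brec_true h with h | h
      · exact mRel_good (T := T) hM0 [Lt.pi, Lt.q, Lt.ni, Lt.pi, Lt.d, Lt.p, Lt.n, Lt.qi] [Lt.di, Lt.pi] (pat hy (rf_13 hy) 0 rfl) h
      · rcases brec_true h with h | h
        · exact mRel_good (T := T) hM0 [Lt.q, Lt.ni, Lt.qi, Lt.n] [Lt.p, Lt.n, Lt.pi, Lt.q] (pat hy (rb_6 hy) 1 rfl) h
        · exact mRel_good (T := T) hM0 [Lt.mi, Lt.d, Lt.pi, Lt.q, Lt.di, Lt.m, Lt.m, Lt.m, Lt.n] [] (pat hy (rf_11 hy) 8 rfl) h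
theorem dM_14_s (hy : Hy g H) (j z1 z2 u : ℕ) (h : dM_14 j z1 z2 u = true) : GdM g H u := by
  unfold dM_14 at h
  rcases brec_true h with h | h
  · rcases brec_true h with h | h
    · rcases brec_true h with h | h
      · exact mRel_good (T := T) hM0 [Lt.p, Lt.m, Lt.qi, Lt.pi, Lt.qi, Lt.m, Lt.p] [Lt.qi] (pat hy (rf_5 hy) 3 rfl) h
      · exact mRel_good (T := T) hM0 [Lt.qi, Lt.m, Lt.qi, Lt.pi, Lt.qi, Lt.m, Lt.qi] [Lt.p] (pat hy (rf_4 hy) 3 rfl) h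
    · rcases brec_true h with h | h
      · exact mRel_good (T := T) hM0 [Lt.m, Lt.n, Lt.mi, Lt.mi, Lt.d, Lt.q, Lt.p] [Lt.mi, Lt.d] (pat hy (rf_10 hy) 5 rfl) h
      · rcases brec_true h with h | h
        · exact mRel_good (T := T) hM0 [Lt.m, Lt.ni] [Lt.mi, Lt.d, Lt.q, Lt.p, Lt.di, Lt.m, Lt.m] (pat hy (rb_10 hy) 1 rfl) h
        · exact mRel_good (T := T) hM0 [Lt.m, Lt.d] [Lt.n, Lt.m, Lt.m, Lt.m, Lt.d, Lt.q, Lt.pi] (pat hy (rb_12 hy) 4 rfl) h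
  · rcases brec_true h with h | h
    · rcases brec_true h with h | h
      · exact mRel_good (T := T) hM0 [Lt.q, Lt.p, Lt.q, Lt.pi, Lt.q, Lt.p, Lt.q] [Lt.p] (pat hy (rf_3 hy) 3 rfl) h
      · rcases brec_true h with h | h
        · exact mRel_good (T := T) hM0 [Lt.p, Lt.qi, Lt.pi, Lt.di, Lt.ni, Lt.m] [Lt.pi, Lt.qi, Lt.pi, Lt.di] (pat hy (rf_15 hy) 4 rfl) h
        · exact mRel_good (T := T) hM0 [Lt.d, Lt.qi, Lt.p, Lt.di] [Lt.m, Lt.m, Lt.m, Lt.n, Lt.mi] (pat hy (rb_11 hy) 5 rfl) h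
    · rcases brec_true h with h | h
      · exact mRel_good (T := T) hM0 [Lt.ni, Lt.qi, Lt.n, Lt.qi, Lt.p] [Lt.qi, Lt.p, Lt.n] (pat hy (rb_6 hy) 2 rfl) h
      · rcases brec_true h with h | h
        · exact mRel_good (T := T) hM0 [Lt.pi, Lt.di] [Lt.n, Lt.qi, Lt.p, Lt.d, Lt.pi, Lt.q, Lt.ni, Lt.pi] (pat hy (rb_13 hy) 4 rfl) h
        · exact mRel_good (T := T) hM0 [Lt.m, Lt.ni, Lt.mi, Lt.d] [Lt.n, Lt.d, Lt.ni, Lt.m, Lt.ni, Lt.mi] (pat hy (rb_14 hy) 7 rfl) h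
theorem dM_15_s (hy : Hy g H) (j z1 z2 u : ℕ) (h : dM_15 j z1 z2 u = true) : GdM g H u := by
  unfold dM_15 at h
  rcases brec_true h with h | h
  · exact dM_13_s hy j z1 z2 u h
  · exact dM_14_s hy j z1 z2 u h
theorem dM_16_s (hy : Hy g H) (j z1 z2 u : ℕ) (h : dM_16 j z1 z2 u = true) : GdM g H u := by
  unfold dM_16 at h
  rcases brec_true h with h | h
  · exact dM_12_s hy j z1 z2 u h
  · exact dM_15_s hy j z1 z2 u h
theorem dM_17_s (hy : Hy g H) (j z1 z2 u : ℕ) (h : dM_17 j z1 z2 u = true) : GdM g H u := by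
  unfold dM_17 at h
  rcases brec_true h with h | h
  · rcases brec_true h with h | h
    · rcases brec_true h with h | h
      · exact mRel_good (T := T) hM0 [Lt.pi, Lt.qi, Lt.pi, Lt.mi] [Lt.m, Lt.qi, Lt.pi, Lt.qi] (pat hy (rb_5 hy) 4 rfl) h
      · exact mRel_good (T := T) hM0 [Lt.qi, Lt.p, Lt.ni, Lt.p, Lt.n, Lt.pi, Lt.pi] [Lt.ni] (pat hy (rf_9 hy) 4 rfl) h
    · rcases brec_true h with h | h
      · exact mRel_good (T := T) hM0 [Lt.n, Lt.qi, Lt.p, Lt.ni] [Lt.p, Lt.p, Lt.ni, Lt.pi] (pat hy (rf_9 hy) 3 rfl) h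
      · rcases brec_true h with h | h
        · exact mRel_good (T := T) hM0 [Lt.d, Lt.m, Lt.n] [Lt.m, Lt.n, Lt.mi, Lt.n, Lt.d, Lt.ni, Lt.m] (pat hy (rb_14 hy) 0 rfl) h
        · exact mRel_good (T := T) hM0 [Lt.mi, Lt.mi, Lt.d, Lt.qi, Lt.p, Lt.di, Lt.m, Lt.ni] [Lt.m] (pat hy (rb_11 hy) 3 rfl) h
  · rcases brec_true h with h | h
    · rcases brec_true h with h | h
      · exact mRel_good (T := T) hM0 [Lt.ni, Lt.m, Lt.d, Lt.p, Lt.qi] [Lt.m, Lt.m, Lt.m, Lt.d] (pat hy (rb_12 hy) 3 rfl) h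
      · rcases brec_true h with h | h
        · exact mRel_good (T := T) hM0 [Lt.di, Lt.m, Lt.m, Lt.m, Lt.n] [Lt.qi, Lt.p, Lt.di, Lt.m] (pat hy (rf_11 hy) 3 rfl) h
        · exact mRel_good (T := T) hM0 [Lt.mi, Lt.n, Lt.m, Lt.m, Lt.m, Lt.d] [Lt.d, Lt.p, Lt.qi] (pat hy (rf_12 hy) 4 rfl) h
    · rcases brec_true h with h | h
      · exact mRel_good (T := T) hM0 [Lt.pi, Lt.q, Lt.ni, Lt.q, Lt.n, Lt.qi, Lt.p, Lt.d] [Lt.d, Lt.qi] (pat hy (rf_16 hy) 3 rfl) h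
      · rcases brec_true h with h | h
        · exact mRel_good (T := T) hM0 [Lt.mi, Lt.mi, Lt.d] [Lt.n, Lt.mi, Lt.mi, Lt.d, Lt.q, Lt.p] (pat hy (rb_10 hy) 3 rfl) h
        · exact mRel_good (T := T) hM0 [Lt.m, Lt.qi, Lt.pi, Lt.qi, Lt.m, Lt.qi] [Lt.q, Lt.p] (pat hy (rf_4 hy) 0 rfl) h
theorem dM_18_s (hy : Hy g H) (j z1 z2 u : ℕ) (h : dM_18 j z1 z2 u = true) : GdM g H u := by
  unfold dM_18 at h
  rcases brec_true h with h | h
  · rcases brec_true h with h | h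
    · rcases brec_true h with h | h
      · exact mRel_good (T := T) hM0 [Lt.n, Lt.qi, Lt.p, Lt.d, Lt.qi] [Lt.q, Lt.n, Lt.qi, Lt.p, Lt.d] (pat hy (rb_16 hy) 4 rfl) h
      · exact mRel_good (T := T) hM0 [Lt.q, Lt.ni] [Lt.p, Lt.ni, Lt.p, Lt.n, Lt.pi, Lt.pi] (pat hy (rb_9 hy) 3 rfl) h
    · rcases brec_true h with h | h
      · exact mRel_good (T := T) hM0 [Lt.qi, Lt.p, Lt.n, Lt.pi] [Lt.ni, Lt.qi, Lt.n, Lt.qi] (pat hy (rf_6 hy) 6 rfl) h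
      · rcases brec_true h with h | h
        · exact mRel_good (T := T) hM0 [Lt.m, Lt.d] [Lt.n, Lt.d, Lt.p, Lt.q, Lt.pi, Lt.pi, Lt.qi, Lt.pi] (pat hy (rf_15 hy) 9 rfl) h
        · exact mRel_good (T := T) hM0 [Lt.ni, Lt.mi, Lt.mi, Lt.mi] [Lt.mi, Lt.d, Lt.pi, Lt.q, Lt.di] (pat hy (rb_11 hy) 1 rfl) h
  · rcases brec_true h with h | h
    · rcases brec_true h with h | h
      · exact mRel_good (T := T) hM0 [Lt.mi, Lt.q, Lt.p, Lt.q, Lt.mi, Lt.pi] [Lt.p, Lt.q] (pat hy (rb_5 hy) 7 rfl) h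
      · rcases brec_true h with h | h
        · exact mRel_good (T := T) hM0 [Lt.mi, Lt.d, Lt.q, Lt.p, Lt.di, Lt.m, Lt.m] [Lt.m, Lt.ni] (pat hy (rf_10 hy) 8 rfl) h
        · exact mRel_good (T := T) hM0 [Lt.m, Lt.n] [Lt.mi, Lt.d, Lt.pi, Lt.qi, Lt.di, Lt.m, Lt.m] (pat hy (rf_10 hy) 5 rfl) h
    · rcases brec_true h with h | h
      · exact mRel_good (T := T) hM0 [Lt.mi, Lt.mi, Lt.mi, Lt.d, Lt.qi, Lt.p, Lt.di, Lt.m] [Lt.n] (pat hy (rb_11 hy) 2 rfl) h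
      · rcases brec_true h with h | h
        · exact mRel_good (T := T) hM0 [Lt.pi, Lt.qi, Lt.m, Lt.p] [Lt.q, Lt.mi, Lt.pi, Lt.qi] (pat hy (rf_5 hy) 6 rfl) h
        · exact mRel_good (T := T) hM0 [Lt.d, Lt.ni, Lt.m, Lt.ni, Lt.mi] [Lt.ni, Lt.m, Lt.ni, Lt.mi, Lt.d] (pat hy (rf_14 hy) 4 rfl) h
theorem dM_19_s (hy : Hy g H) (j z1 z2 u : ℕ) (h : dM_19 j z1 z2 u = true) : GdM g H u := by
  unfold dM_19 at h
  rcases brec_true h with h | h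
  · exact dM_17_s hy j z1 z2 u h
  · exact dM_18_s hy j z1 z2 u h
theorem dM_20_s (hy : Hy g H) (j z1 z2 u : ℕ) (h : dM_20 j z1 z2 u = true) : GdM g H u := by
  unfold dM_20 at h
  rcases brec_true h with h | h
  · rcases brec_true h with h | h
    · rcases brec_true h with h | h
      · exact mRel_good (T := T) hM0 [Lt.pi, Lt.q, Lt.p, Lt.q, Lt.pi, Lt.q] [Lt.qi, Lt.pi] (pat hy (rf_3 hy) 2 rfl) h
      · exact mRel_good (T := T) hM0 [Lt.d, Lt.p, Lt.qi, Lt.di, Lt.mi, Lt.mi, Lt.mi, Lt.ni, Lt.m] [] (pat hy (rb_12 hy) 5 rfl) h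
    · rcases brec_true h with h | h
      · exact mRel_good (T := T) hM0 [Lt.pi, Lt.ni, Lt.q, Lt.n, Lt.pi] [Lt.ni, Lt.qi, Lt.n] (pat hy (rb_8 hy) 2 rfl) h
      · rcases brec_true h with h | h
        · exact mRel_good (T := T) hM0 [Lt.p, Lt.ni, Lt.qi, Lt.p] [Lt.pi, Lt.q, Lt.n, Lt.pi] (pat hy (rb_7 hy) 2 rfl) h
        · exact mRel_good (T := T) hM0 [Lt.mi, Lt.d, Lt.pi, Lt.q, Lt.di] [Lt.ni, Lt.mi, Lt.mi, Lt.mi] (pat hy (rf_11 hy) 8 rfl) h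
  · rcases brec_true h with h | h
    · rcases brec_true h with h | h
      · exact mRel_good (T := T) hM0 [Lt.m, Lt.m, Lt.ni] [Lt.d, Lt.q, Lt.p, Lt.di, Lt.m, Lt.m] (pat hy (rb_10 hy) 0 rfl) h
      · rcases brec_true h with h | h
        · exact mRel_good (T := T) hM0 [Lt.ni, Lt.mi, Lt.mi, Lt.mi, Lt.d, Lt.qi, Lt.p] [Lt.mi, Lt.d] (pat hy (rb_11 hy) 1 rfl) h
        · exact mRel_good (T := T) hM0 [Lt.d, Lt.qi, Lt.p, Lt.di, Lt.m, Lt.ni] [Lt.m, Lt.m, Lt.m] (pat hy (rb_11 hy) 5 rfl) h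
    · rcases brec_true h with h | h
      · exact mRel_good (T := T) hM0 [Lt.pi, Lt.q, Lt.ni, Lt.qi] [Lt.n, Lt.pi, Lt.q, Lt.ni] (pat hy (rb_6 hy) 0 rfl) h
      · rcases brec_true h with h | h
        · exact mRel_good (T := T) hM0 [Lt.p, Lt.ni] [Lt.q, Lt.ni, Lt.q, Lt.n, Lt.qi, Lt.p] (pat hy (rb_6 hy) 6 rfl) h
        · exact mRel_good (T := T) hM0 [Lt.d, Lt.pi, Lt.q] [Lt.m, Lt.ni, Lt.mi, Lt.mi, Lt.mi, Lt.d] (pat hy (rf_11 hy) 0 rfl) h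
theorem dM_21_s (hy : Hy g H) (j z1 z2 u : ℕ) (h : dM_21 j z1 z2 u = true) : GdM g H u := by
  unfold dM_21 at h
  rcases brec_true h with h | h
  · rcases brec_true h with h | h
    · rcases brec_true h with h | h
      · exact mRel_good (T := T) hM0 [Lt.p, Lt.di] [Lt.q, Lt.ni, Lt.pi, Lt.d, Lt.p, Lt.n, Lt.qi, Lt.p] (pat hy (rb_13 hy) 9 rfl) h
      · exact mRel_good (T := T) hM0 [Lt.ni, Lt.mi, Lt.mi, Lt.d, Lt.pi, Lt.qi, Lt.di, Lt.m] [Lt.mi] (pat hy (rb_10 hy) 2 rfl) h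
    · rcases brec_true h with h | h
      · exact mRel_good (T := T) hM0 [Lt.p, Lt.p, Lt.ni] [Lt.q, Lt.n, Lt.pi, Lt.pi, Lt.q] (pat hy (rb_7 hy) 1 rfl) h
      · rcases brec_true h with h | h
        · exact mRel_good (T := T) hM0 [Lt.mi, Lt.mi, Lt.d, Lt.q, Lt.p] [Lt.ni, Lt.mi, Lt.mi, Lt.d] (pat hy (rf_10 hy) 7 rfl) h
        · exact mRel_good (T := T) hM0 [Lt.ni, Lt.pi, Lt.n, Lt.pi, Lt.q, Lt.ni] [Lt.pi, Lt.pi] (pat hy (rb_9 hy) 7 rfl) h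
  · rcases brec_true h with h | h
    · rcases brec_true h with h | h
      · exact mRel_good (T := T) hM0 [Lt.p, Lt.p, Lt.ni, Lt.qi, Lt.p, Lt.p, Lt.ni] [Lt.q] (pat hy (rb_7 hy) 1 rfl) h
      · rcases brec_true h with h | h
        · exact mRel_good (T := T) hM0 [Lt.n, Lt.pi, Lt.ni] [Lt.qi, Lt.n, Lt.p, Lt.ni, Lt.qi] (pat hy (rb_8 hy) 1 rfl) h
        · exact mRel_good (T := T) hM0 [Lt.pi, Lt.mi] [Lt.q, Lt.p, Lt.m, Lt.qi, Lt.pi, Lt.qi] (pat hy (rb_5 hy) 6 rfl) h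
    · rcases brec_true h with h | h
      · exact mRel_good (T := T) hM0 [Lt.ni, Lt.q, Lt.n, Lt.qi, Lt.p, Lt.d, Lt.q] [Lt.qi, Lt.p, Lt.d] (pat hy (rf_16 hy) 5 rfl) h
      · rcases brec_true h with h | h
        · exact mRel_good (T := T) hM0 [Lt.ni, Lt.qi, Lt.n, Lt.p, Lt.ni, Lt.qi] [Lt.pi, Lt.ni] (pat hy (rf_8 hy) 2 rfl) h
        · exact mRel_good (T := T) hM0 [Lt.n, Lt.pi, Lt.q, Lt.ni, Lt.q, Lt.n] [Lt.pi, Lt.q] (pat hy (rf_6 hy) 0 rfl) h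
theorem dM_22_s (hy : Hy g H) (j z1 z2 u : ℕ) (h : dM_22 j z1 z2 u = true) : GdM g H u := by
  unfold dM_22 at h
  rcases brec_true h with h | h
  · exact dM_20_s hy j z1 z2 u h
  · exact dM_21_s hy j z1 z2 u h
theorem dM_23_s (hy : Hy g H) (j z1 z2 u : ℕ) (h : dM_23 j z1 z2 u = true) : GdM g H u := by
  unfold dM_23 at h
  rcases brec_true h with h | h
  · exact dM_19_s hy j z1 z2 u h
  · exact dM_22_s hy j z1 z2 u h
theorem dM_24_s (hy : Hy g H) (j z1 z2 u : ℕ) (h : dM_24 j z1 z2 u = true) : GdM g H u := by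
  unfold dM_24 at h
  rcases brec_true h with h | h
  · exact dM_16_s hy j z1 z2 u h
  · exact dM_23_s hy j z1 z2 u h
theorem dM_25_s (hy : Hy g H) (j z1 z2 u : ℕ) (h : dM_25 j z1 z2 u = true) : GdM g H u := by
  unfold dM_25 at h
  rcases brec_true h with h | h
  · exact dM_9_s hy j z1 z2 u h
  · exact dM_24_s hy j z1 z2 u h
theorem dM_26_s (hy : Hy g H) (j z1 z2 u : ℕ) (h : dM_26 j z1 z2 u = true) : GdM g H u := by
  unfold dM_26 at h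
  rcases brec_true h with h | h
  · rcases brec_true h with h | h
    · rcases brec_true h with h | h
      · exact mRel_good (T := T) hM0 [Lt.pi, Lt.n, Lt.pi, Lt.q, Lt.ni, Lt.p] [Lt.n, Lt.pi] (pat hy (rb_9 hy) 0 rfl) h
      · exact mRel_good (T := T) hM0 [Lt.pi, Lt.q, Lt.ni, Lt.q, Lt.n, Lt.qi, Lt.p] [Lt.ni] (pat hy (rf_6 hy) 1 rfl) h
    · rcases brec_true h with h | h
      · exact mRel_good (T := T) hM0 [Lt.m, Lt.m, Lt.ni, Lt.mi, Lt.mi] [Lt.d, Lt.q, Lt.p, Lt.di] (pat hy (rb_10 hy) 0 rfl) h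
      · rcases brec_true h with h | h
        · exact mRel_good (T := T) hM0 [Lt.m, Lt.m, Lt.n, Lt.mi, Lt.d, Lt.pi, Lt.q, Lt.di] [Lt.mi] (pat hy (rf_11 hy) 5 rfl) h
        · exact mRel_good (T := T) hM0 [Lt.ni, Lt.mi, Lt.mi, Lt.d, Lt.pi, Lt.qi, Lt.di] [Lt.mi, Lt.mi] (pat hy (rb_10 hy) 2 rfl) h
  · rcases brec_true h with h | h
    · rcases brec_true h with h | h
      · exact mRel_good (T := T) hM0 [Lt.pi, Lt.q, Lt.ni, Lt.p, Lt.p, Lt.ni] [Lt.ni, Lt.p] (pat hy (rb_9 hy) 2 rfl) h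
      · exact mRel_good (T := T) hM0 [Lt.pi, Lt.q, Lt.ni, Lt.q, Lt.n, Lt.qi] [Lt.ni, Lt.pi] (pat hy (rf_6 hy) 1 rfl) h
    · rcases brec_true h with h | h
      · exact mRel_good (T := T) hM0 [Lt.p, Lt.ni, Lt.qi, Lt.n, Lt.p, Lt.ni] [Lt.ni, Lt.q] (pat hy (rf_8 hy) 1 rfl) h
      · rcases brec_true h with h | h
        · exact mRel_good (T := T) hM0 [Lt.p, Lt.m, Lt.qi, Lt.pi, Lt.qi, Lt.m] [Lt.qi, Lt.pi] (pat hy (rf_5 hy) 3 rfl) h
        · exact mRel_good (T := T) hM0 [Lt.ni, Lt.pi, Lt.n, Lt.pi, Lt.q] [Lt.pi, Lt.pi, Lt.n] (pat hy (rb_9 hy) 7 rfl) h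
theorem dM_27_s (hy : Hy g H) (j z1 z2 u : ℕ) (h : dM_27 j z1 z2 u = true) : GdM g H u := by
  unfold dM_27 at h
  rcases brec_true h with h | h
  · rcases brec_true h with h | h
    · rcases brec_true h with h | h
      · exact mRel_good (T := T) hM0 [Lt.n, Lt.mi] [Lt.mi, Lt.mi, Lt.d, Lt.pi, Lt.qi, Lt.di, Lt.m] (pat hy (rf_10 hy) 6 rfl) h
      · exact mRel_good (T := T) hM0 [Lt.mi, Lt.d] [Lt.m, Lt.n, Lt.mi, Lt.mi, Lt.d, Lt.q, Lt.p] (pat hy (rb_10 hy) 4 rfl) h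
    · rcases brec_true h with h | h
      · exact mRel_good (T := T) hM0 [Lt.d, Lt.q] [Lt.pi, Lt.q, Lt.ni, Lt.qi, Lt.n, Lt.qi, Lt.p, Lt.d] (pat hy (rf_16 hy) 0 rfl) h
      · rcases brec_true h with h | h
        · exact mRel_good (T := T) hM0 [Lt.pi, Lt.q, Lt.di] [Lt.di, Lt.m, Lt.ni, Lt.mi, Lt.mi, Lt.mi] (pat hy (rf_11 hy) 1 rfl) h
        · exact mRel_good (T := T) hM0 [Lt.d] [Lt.m, Lt.m, Lt.n, Lt.mi, Lt.mi, Lt.d, Lt.q, Lt.p] (pat hy (rb_10 hy) 5 rfl) h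
  · rcases brec_true h with h | h
    · rcases brec_true h with h | h
      · exact mRel_good (T := T) hM0 [Lt.m, Lt.ni, Lt.mi] [Lt.d, Lt.pi, Lt.q, Lt.di, Lt.m, Lt.m] (pat hy (rb_11 hy) 0 rfl) h
      · rcases brec_true h with h | h
        · exact mRel_good (T := T) hM0 [Lt.p, Lt.q, Lt.mi, Lt.q, Lt.p, Lt.q, Lt.mi] [Lt.qi] (pat hy (rb_4 hy) 1 rfl) h
        · exact mRel_good (T := T) hM0 [Lt.p, Lt.q, Lt.mi, Lt.pi, Lt.qi] [Lt.qi, Lt.m, Lt.p] (pat hy (rb_5 hy) 1 rfl) h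
    · rcases brec_true h with h | h
      · exact mRel_good (T := T) hM0 [Lt.q, Lt.p, Lt.di] [Lt.di, Lt.m, Lt.m, Lt.ni, Lt.mi, Lt.mi] (pat hy (rf_10 hy) 1 rfl) h
      · rcases brec_true h with h | h
        · exact mRel_good (T := T) hM0 [Lt.n, Lt.pi, Lt.q, Lt.ni, Lt.p] [Lt.p, Lt.n, Lt.pi] (pat hy (rb_9 hy) 1 rfl) h
        · exact mRel_good (T := T) hM0 [Lt.m, Lt.d, Lt.q, Lt.pi] [Lt.mi, Lt.mi, Lt.ni, Lt.m, Lt.d] (pat hy (rf_12 hy) 8 rfl) h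
theorem dM_28_s (hy : Hy g H) (j z1 z2 u : ℕ) (h : dM_28 j z1 z2 u = true) : GdM g H u := by
  unfold dM_28 at h
  rcases brec_true h with h | h
  · exact dM_26_s hy j z1 z2 u h
  · exact dM_27_s hy j z1 z2 u h
theorem dM_29_s (hy : Hy g H) (j z1 z2 u : ℕ) (h : dM_29 j z1 z2 u = true) : GdM g H u := by
  unfold dM_29 at h
  rcases brec_true h with h | h
  · rcases brec_true h with h | h
    · rcases brec_true h with h | h
      · exact mRel_good (T := T) hM0 [Lt.n, Lt.m, Lt.m, Lt.m] [Lt.m, Lt.d, Lt.p, Lt.qi, Lt.di] (pat hy (rf_12 hy) 5 rfl) h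
      · exact mRel_good (T := T) hM0 [Lt.qi, Lt.p, Lt.di, Lt.m, Lt.ni, Lt.mi, Lt.mi] [Lt.di, Lt.m] (pat hy (rb_11 hy) 6 rfl) h
    · rcases brec_true h with h | h
      · exact mRel_good (T := T) hM0 [Lt.mi, Lt.mi] [Lt.n, Lt.mi, Lt.mi, Lt.d, Lt.q, Lt.p, Lt.di] (pat hy (rb_10 hy) 3 rfl) h
      · rcases brec_true h with h | h
        · exact mRel_good (T := T) hM0 [Lt.qi, Lt.qi] [Lt.q] (pat hy (rb_0 hy) 0 rfl) h
        · exact mRel_good (T := T) hM0 [Lt.pi, Lt.q, Lt.ni, Lt.q, Lt.n, Lt.qi, Lt.p, Lt.d, Lt.q] [Lt.d] (pat hy (rf_16 hy) 3 rfl) h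
  · rcases brec_true h with h | h
    · rcases brec_true h with h | h
      · exact mRel_good (T := T) hM0 [Lt.ni, Lt.p] [Lt.pi, Lt.q, Lt.ni, Lt.p, Lt.p, Lt.ni] (pat hy (rf_9 hy) 6 rfl) h
      · rcases brec_true h with h | h
        · exact mRel_good (T := T) hM0 [Lt.n, Lt.qi, Lt.p, Lt.d] [Lt.qi, Lt.n, Lt.qi, Lt.p, Lt.d, Lt.qi] (pat hy (rf_16 hy) 7 rfl) h
        · exact mRel_good (T := T) hM0 [Lt.mi, Lt.d, Lt.qi, Lt.p] [Lt.m, Lt.m, Lt.n, Lt.mi, Lt.d] (pat hy (rb_11 hy) 4 rfl) h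
    · rcases brec_true h with h | h
      · exact mRel_good (T := T) hM0 [Lt.mi, Lt.di] [Lt.n, Lt.mi, Lt.n, Lt.di, Lt.ni, Lt.m, Lt.ni, Lt.mi] (pat hy (rf_14 hy) 8 rfl) h
      · rcases brec_true h with h | h
        · exact mRel_good (T := T) hM0 [Lt.di, Lt.m, Lt.ni, Lt.mi] [Lt.pi, Lt.q, Lt.di, Lt.m, Lt.m] (pat hy (rb_11 hy) 8 rfl) h
        · exact mRel_good (T := T) hM0 [Lt.pi, Lt.q, Lt.ni, Lt.pi, Lt.di] [Lt.d, Lt.pi, Lt.q, Lt.ni, Lt.pi] (pat hy (rb_13 hy) 1 rfl) h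
theorem dM_30_s (hy : Hy g H) (j z1 z2 u : ℕ) (h : dM_30 j z1 z2 u = true) : GdM g H u := by
  unfold dM_30 at h
  rcases brec_true h with h | h
  · rcases brec_true h with h | h
    · rcases brec_true h with h | h
      · exact mRel_good (T := T) hM0 [Lt.n, Lt.m, Lt.m, Lt.m, Lt.d, Lt.q, Lt.pi] [Lt.m, Lt.d] (pat hy (rf_12 hy) 5 rfl) h
      · exact mRel_good (T := T) hM0 [Lt.q, Lt.di, Lt.m, Lt.m, Lt.m, Lt.n, Lt.mi] [Lt.p, Lt.di] (pat hy (rf_11 hy) 2 rfl) h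
    · rcases brec_true h with h | h
      · exact mRel_good (T := T) hM0 [Lt.m, Lt.m, Lt.d, Lt.q, Lt.pi] [Lt.mi, Lt.ni, Lt.m, Lt.d] (pat hy (rf_12 hy) 7 rfl) h
      · rcases brec_true h with h | h
        · exact mRel_good (T := T) hM0 [Lt.q, Lt.n, Lt.qi, Lt.p, Lt.n] [Lt.n, Lt.qi, Lt.p] (pat hy (rf_6 hy) 4 rfl) h
        · exact mRel_good (T := T) hM0 [Lt.ni, Lt.mi, Lt.mi, Lt.d] [Lt.mi, Lt.mi, Lt.d, Lt.q, Lt.p] (pat hy (rb_10 hy) 2 rfl) h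
  · rcases brec_true h with h | h
    · rcases brec_true h with h | h
      · exact mRel_good (T := T) hM0 [Lt.mi, Lt.mi, Lt.d, Lt.qi, Lt.p] [Lt.m, Lt.n, Lt.mi, Lt.d] (pat hy (rb_11 hy) 3 rfl) h
      · rcases brec_true h with h | h
        · exact mRel_good (T := T) hM0 [Lt.d, Lt.p, Lt.qi, Lt.di, Lt.mi] [Lt.mi, Lt.n, Lt.m, Lt.m] (pat hy (rb_12 hy) 5 rfl) h
        · exact mRel_good (T := T) hM0 [Lt.p, Lt.qi, Lt.di, Lt.mi, Lt.mi, Lt.mi, Lt.ni] [Lt.di, Lt.mi] (pat hy (rb_12 hy) 6 rfl) h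
    · rcases brec_true h with h | h
      · exact mRel_good (T := T) hM0 [Lt.m, Lt.n, Lt.mi, Lt.d] [Lt.mi, Lt.mi, Lt.d, Lt.qi, Lt.p] (pat hy (rf_11 hy) 6 rfl) h
      · rcases brec_true h with h | h
        · exact mRel_good (T := T) hM0 [Lt.pi, Lt.qi, Lt.m] [Lt.q, Lt.mi, Lt.q, Lt.p, Lt.q] (pat hy (rf_4 hy) 2 rfl) h
        · exact mRel_good (T := T) hM0 [Lt.m, Lt.d, Lt.p, Lt.qi, Lt.di, Lt.mi, Lt.mi, Lt.mi] [Lt.n] (pat hy (rb_12 hy) 4 rfl) h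
theorem dM_31_s (hy : Hy g H) (j z1 z2 u : ℕ) (h : dM_31 j z1 z2 u = true) : GdM g H u := by
  unfold dM_31 at h
  rcases brec_true h with h | h
  · exact dM_29_s hy j z1 z2 u h
  · exact dM_30_s hy j z1 z2 u h
theorem dM_32_s (hy : Hy g H) (j z1 z2 u : ℕ) (h : dM_32 j z1 z2 u = true) : GdM g H u := by
  unfold dM_32 at h
  rcases brec_true h with h | h
  · exact dM_28_s hy j z1 z2 u h
  · exact dM_31_s hy j z1 z2 u h
theorem dM_33_s (hy : Hy g H) (j z1 z2 u : ℕ) (h : dM_33 j z1 z2 u = true) : GdM g H u := by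
  unfold dM_33 at h
  rcases brec_true h with h | h
  · rcases brec_true h with h | h
    · rcases brec_true h with h | h
      · exact mRel_good (T := T) hM0 [Lt.p, Lt.qi, Lt.pi, Lt.qi] [Lt.q, Lt.p, Lt.q, Lt.pi] (pat hy (rb_3 hy) 1 rfl) h
      · exact mRel_good (T := T) hM0 [Lt.q, Lt.n, Lt.qi, Lt.p, Lt.n, Lt.pi] [Lt.n, Lt.qi] (pat hy (rf_6 hy) 4 rfl) h
    · rcases brec_true h with h | h
      · exact mRel_good (T := T) hM0 [Lt.n, Lt.p, Lt.ni, Lt.qi, Lt.n] [Lt.q, Lt.n, Lt.pi] (pat hy (rf_8 hy) 0 rfl) h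
      · rcases brec_true h with h | h
        · exact mRel_good (T := T) hM0 [Lt.d, Lt.q, Lt.p, Lt.di, Lt.m, Lt.m, Lt.n] [Lt.m, Lt.m] (pat hy (rf_10 hy) 0 rfl) h
        · exact mRel_good (T := T) hM0 [Lt.di] [Lt.pi, Lt.q, Lt.di, Lt.m, Lt.m, Lt.m, Lt.n, Lt.mi] (pat hy (rb_11 hy) 8 rfl) h
  · rcases brec_true h with h | h
    · rcases brec_true h with h | h
      · exact mRel_good (T := T) hM0 [Lt.q, Lt.pi, Lt.di, Lt.mi, Lt.n, Lt.m, Lt.m] [Lt.di, Lt.mi] (pat hy (rf_12 hy) 1 rfl) h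
      · rcases brec_true h with h | h
        · exact mRel_good (T := T) hM0 [Lt.p, Lt.ni, Lt.qi, Lt.n, Lt.p, Lt.ni, Lt.qi] [Lt.ni] (pat hy (rf_8 hy) 1 rfl) h
        · exact mRel_good (T := T) hM0 [Lt.p, Lt.di, Lt.m, Lt.ni, Lt.mi, Lt.mi] [Lt.q, Lt.di, Lt.m] (pat hy (rb_11 hy) 7 rfl) h
    · rcases brec_true h with h | h
      · exact mRel_good (T := T) hM0 [Lt.mi, Lt.mi, Lt.mi, Lt.d, Lt.qi, Lt.p, Lt.di] [Lt.n, Lt.mi] (pat hy (rb_11 hy) 2 rfl) h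
      · rcases brec_true h with h | h
        · exact mRel_good (T := T) hM0 [Lt.p, Lt.ni, Lt.p] [Lt.q, Lt.ni, Lt.p, Lt.p, Lt.ni] (pat hy (rf_9 hy) 5 rfl) h
        · exact mRel_good (T := T) hM0 [Lt.p, Lt.qi, Lt.pi, Lt.qi, Lt.p, Lt.qi] [Lt.q, Lt.p] (pat hy (rb_3 hy) 1 rfl) h
theorem dM_34_s (hy : Hy g H) (j z1 z2 u : ℕ) (h : dM_34 j z1 z2 u = true) : GdM g H u := by
  unfold dM_34 at h
  rcases brec_true h with h | h
  · rcases brec_true h with h | h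
    · rcases brec_true h with h | h
      · exact mRel_good (T := T) hM0 [Lt.m, Lt.qi, Lt.pi, Lt.qi, Lt.m] [Lt.pi, Lt.qi, Lt.pi] (pat hy (rf_5 hy) 4 rfl) h
      · exact mRel_good (T := T) hM0 [Lt.m, Lt.d, Lt.q, Lt.pi, Lt.di] [Lt.mi, Lt.mi, Lt.ni, Lt.m] (pat hy (rf_12 hy) 8 rfl) h
    · rcases brec_true h with h | h
      · exact mRel_good (T := T) hM0 [Lt.d, Lt.pi, Lt.qi] [Lt.m, Lt.m, Lt.n, Lt.mi, Lt.mi, Lt.d] (pat hy (rb_10 hy) 5 rfl) h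
      · rcases brec_true h with h | h
        · exact mRel_good (T := T) hM0 [Lt.di, Lt.m, Lt.m, Lt.n, Lt.mi, Lt.mi, Lt.d] [Lt.pi, Lt.qi] (pat hy (rf_10 hy) 3 rfl) h
        · exact mRel_good (T := T) hM0 [Lt.ni, Lt.qi] [Lt.pi, Lt.pi, Lt.q, Lt.n, Lt.pi, Lt.pi] (pat hy (rb_7 hy) 3 rfl) h
  · rcases brec_true h with h | h
    · rcases brec_true h with h | h
      · exact mRel_good (T := T) hM0 [Lt.pi, Lt.pi, Lt.q, Lt.n, Lt.pi, Lt.pi] [Lt.ni, Lt.qi] (pat hy (rf_7 hy) 1 rfl) h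
      · rcases brec_true h with h | h
        · exact mRel_good (T := T) hM0 [Lt.q, Lt.p, Lt.q, Lt.mi, Lt.pi, Lt.qi] [Lt.m, Lt.p] (pat hy (rb_5 hy) 0 rfl) h
        · exact mRel_good (T := T) hM0 [Lt.m, Lt.m, Lt.m, Lt.n, Lt.mi, Lt.d] [Lt.d, Lt.qi, Lt.p] (pat hy (rf_11 hy) 4 rfl) h
    · rcases brec_true h with h | h
      · exact mRel_good (T := T) hM0 [Lt.qi, Lt.pi, Lt.qi, Lt.m] [Lt.mi, Lt.q, Lt.p, Lt.q] (pat hy (rf_4 hy) 1 rfl) h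
      · rcases brec_true h with h | h
        · exact mRel_good (T := T) hM0 [Lt.mi, Lt.q, Lt.p, Lt.q, Lt.mi] [Lt.p, Lt.q, Lt.p] (pat hy (rb_5 hy) 7 rfl) h
        · exact mRel_good (T := T) hM0 [Lt.pi, Lt.qi, Lt.pi, Lt.mi, Lt.q, Lt.p] [Lt.m, Lt.qi] (pat hy (rb_5 hy) 4 rfl) h
theorem dM_35_s (hy : Hy g H) (j z1 z2 u : ℕ) (h : dM_35 j z1 z2 u = true) : GdM g H u := by
  unfold dM_35 at h
  rcases brec_true h with h | h
  · exact dM_33_s hy j z1 z2 u h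
  · exact dM_34_s hy j z1 z2 u h
theorem dM_36_s (hy : Hy g H) (j z1 z2 u : ℕ) (h : dM_36 j z1 z2 u = true) : GdM g H u := by
  unfold dM_36 at h
  rcases brec_true h with h | h
  · rcases brec_true h with h | h
    · rcases brec_true h with h | h
      · exact mRel_good (T := T) hM0 [Lt.m, Lt.n, Lt.mi, Lt.d, Lt.pi, Lt.q] [Lt.mi, Lt.mi, Lt.d] (pat hy (rf_11 hy) 6 rfl) h
      · exact mRel_good (T := T) hM0 [Lt.q, Lt.p, Lt.m, Lt.qi, Lt.pi] [Lt.pi, Lt.mi, Lt.q] (pat hy (rf_5 hy) 2 rfl) h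
    · rcases brec_true h with h | h
      · exact mRel_good (T := T) hM0 [Lt.m, Lt.n] [Lt.mi, Lt.mi, Lt.d, Lt.qi, Lt.p, Lt.di, Lt.m] (pat hy (rf_11 hy) 6 rfl) h
      · rcases brec_true h with h | h
        · exact mRel_good (T := T) hM0 [Lt.ni, Lt.m, Lt.ni, Lt.mi, Lt.d, Lt.m] [Lt.d, Lt.ni, Lt.m, Lt.ni] (pat hy (rb_14 hy) 6 rfl) h
        · exact mRel_good (T := T) hM0 [Lt.pi, Lt.q, Lt.n, Lt.pi] [Lt.p, Lt.ni, Lt.qi, Lt.p] (pat hy (rf_7 hy) 2 rfl) h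
  · rcases brec_true h with h | h
    · rcases brec_true h with h | h
      · exact mRel_good (T := T) hM0 [Lt.qi, Lt.m, Lt.qi, Lt.pi, Lt.qi, Lt.m] [Lt.p, Lt.q] (pat hy (rf_4 hy) 3 rfl) h
      · rcases brec_true h with h | h
        · exact mRel_good (T := T) hM0 [Lt.ni, Lt.qi, Lt.n, Lt.p] [Lt.pi, Lt.ni, Lt.q, Lt.n] (pat hy (rf_8 hy) 2 rfl) h
        · exact mRel_good (T := T) hM0 [Lt.pi, Lt.n, Lt.qi, Lt.p, Lt.ni] [Lt.p, Lt.ni, Lt.pi] (pat hy (rf_9 hy) 2 rfl) h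
    · rcases brec_true h with h | h
      · exact mRel_good (T := T) hM0 [Lt.qi, Lt.pi, Lt.qi, Lt.p, Lt.qi] [Lt.pi, Lt.q, Lt.p] (pat hy (rb_3 hy) 2 rfl) h
      · rcases brec_true h with h | h
        · exact mRel_good (T := T) hM0 [Lt.q, Lt.pi] [Lt.pi, Lt.qi, Lt.p, Lt.qi, Lt.pi, Lt.qi] (pat hy (rf_3 hy) 1 rfl) h
        · exact mRel_good (T := T) hM0 [Lt.pi, Lt.qi, Lt.di, Lt.m] [Lt.di, Lt.m, Lt.m, Lt.n, Lt.mi] (pat hy (rb_10 hy) 6 rfl) h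
theorem dM_37_s (hy : Hy g H) (j z1 z2 u : ℕ) (h : dM_37 j z1 z2 u = true) : GdM g H u := by
  unfold dM_37 at h
  rcases brec_true h with h | h
  · rcases brec_true h with h | h
    · rcases brec_true h with h | h
      · exact mRel_good (T := T) hM0 [Lt.mi, Lt.d, Lt.pi, Lt.qi, Lt.di, Lt.m, Lt.m] [Lt.m, Lt.n] (pat hy (rb_10 hy) 4 rfl) h
      · exact mRel_good (T := T) hM0 [Lt.qi, Lt.pi] [Lt.pi, Lt.q, Lt.p, Lt.q, Lt.pi, Lt.q] (pat hy (rb_3 hy) 2 rfl) h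
    · rcases brec_true h with h | h
      · exact mRel_good (T := T) hM0 [Lt.qi, Lt.p, Lt.qi, Lt.pi] [Lt.p, Lt.q, Lt.pi, Lt.q] (pat hy (rb_3 hy) 0 rfl) h
      · rcases brec_true h with h | h
        · exact mRel_good (T := T) hM0 [Lt.mi, Lt.mi, Lt.d, Lt.q, Lt.p, Lt.di] [Lt.ni, Lt.mi, Lt.mi] (pat hy (rf_10 hy) 7 rfl) h
        · exact mRel_good (T := T) hM0 [Lt.q, Lt.ni, Lt.p] [Lt.p, Lt.ni, Lt.p, Lt.n, Lt.pi] (pat hy (rb_9 hy) 3 rfl) h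
  · rcases brec_true h with h | h
    · rcases brec_true h with h | h
      · exact mRel_good (T := T) hM0 [Lt.pi, Lt.di, Lt.mi, Lt.n, Lt.m, Lt.m, Lt.m, Lt.d] [Lt.qi] (pat hy (rf_12 hy) 2 rfl) h
      · rcases brec_true h with h | h
        · exact mRel_good (T := T) hM0 [Lt.n] [Lt.m, Lt.d, Lt.p, Lt.q, Lt.p, Lt.p, Lt.qi, Lt.pi, Lt.di] (pat hy (rb_15 hy) 1 rfl) h
        · exact mRel_good (T := T) hM0 [Lt.d, Lt.p, Lt.qi, Lt.di, Lt.mi, Lt.mi, Lt.mi] [Lt.mi, Lt.n] (pat hy (rb_12 hy) 5 rfl) h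
    · rcases brec_true h with h | h
      · exact mRel_good (T := T) hM0 [Lt.ni, Lt.p, Lt.n, Lt.pi] [Lt.pi, Lt.q, Lt.ni, Lt.p] (pat hy (rf_9 hy) 6 rfl) h
      · rcases brec_true h with h | h
        · exact mRel_good (T := T) hM0 [Lt.p, Lt.p, Lt.ni] [Lt.n, Lt.qi, Lt.p, Lt.ni, Lt.p] (pat hy (rb_9 hy) 5 rfl) h
        · exact mRel_good (T := T) hM0 [Lt.p, Lt.q, Lt.pi, Lt.q, Lt.p] [Lt.qi, Lt.p, Lt.qi] (pat hy (rf_3 hy) 0 rfl) h
theorem dM_38_s (hy : Hy g H) (j z1 z2 u : ℕ) (h : dM_38 j z1 z2 u = true) : GdM g H u := by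
  unfold dM_38 at h
  rcases brec_true h with h | h
  · exact dM_36_s hy j z1 z2 u h
  · exact dM_37_s hy j z1 z2 u h
theorem dM_39_s (hy : Hy g H) (j z1 z2 u : ℕ) (h : dM_39 j z1 z2 u = true) : GdM g H u := by
  unfold dM_39 at h
  rcases brec_true h with h | h
  · exact dM_35_s hy j z1 z2 u h
  · exact dM_38_s hy j z1 z2 u h
theorem dM_40_s (hy : Hy g H) (j z1 z2 u : ℕ) (h : dM_40 j z1 z2 u = true) : GdM g H u := by
  unfold dM_40 at h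
  rcases brec_true h with h | h
  · exact dM_32_s hy j z1 z2 u h
  · exact dM_39_s hy j z1 z2 u h
theorem dM_41_s (hy : Hy g H) (j z1 z2 u : ℕ) (h : dM_41 j z1 z2 u = true) : GdM g H u := by
  unfold dM_41 at h
  rcases brec_true h with h | h
  · rcases brec_true h with h | h
    · rcases brec_true h with h | h
      · exact mRel_good (T := T) hM0 [Lt.pi, Lt.q] [Lt.n, Lt.pi, Lt.q, Lt.ni, Lt.q, Lt.n] (pat hy (rb_6 hy) 0 rfl) h
      · exact mRel_good (T := T) hM0 [Lt.pi, Lt.q, Lt.ni, Lt.q, Lt.n, Lt.qi, Lt.p] [Lt.d, Lt.qi, Lt.di] (pat hy (rf_16 hy) 3 rfl) h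
    · rcases brec_true h with h | h
      · exact mRel_good (T := T) hM0 [Lt.pi, Lt.q] [Lt.qi, Lt.pi, Lt.qi, Lt.p, Lt.qi, Lt.pi] (pat hy (rf_3 hy) 2 rfl) h
      · rcases brec_true h with h | h
        · exact mRel_good (T := T) hM0 [Lt.m, Lt.n, Lt.mi] [Lt.mi, Lt.mi, Lt.d, Lt.qi, Lt.p, Lt.di] (pat hy (rf_11 hy) 6 rfl) h
        · exact mRel_good (T := T) hM0 [Lt.m, Lt.n, Lt.mi, Lt.mi, Lt.d, Lt.q, Lt.p, Lt.di, Lt.m] [] (pat hy (rf_10 hy) 5 rfl) h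
  · rcases brec_true h with h | h
    · rcases brec_true h with h | h
      · exact mRel_good (T := T) hM0 [Lt.d, Lt.pi, Lt.q, Lt.di, Lt.m, Lt.m, Lt.m, Lt.n] [Lt.m] (pat hy (rf_11 hy) 0 rfl) h
      · exact mRel_good (T := T) hM0 [Lt.qi, Lt.p, Lt.qi, Lt.pi, Lt.qi] [Lt.p, Lt.q, Lt.pi] (pat hy (rb_3 hy) 0 rfl) h
    · rcases brec_true h with h | h
      · exact mRel_good (T := T) hM0 [Lt.d, Lt.p, Lt.qi, Lt.di] [Lt.mi, Lt.n, Lt.m, Lt.m, Lt.m] (pat hy (rb_12 hy) 5 rfl) h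
      · rcases brec_true h with h | h
        · exact mRel_good (T := T) hM0 [Lt.mi, Lt.mi, Lt.d, Lt.pi, Lt.qi, Lt.di, Lt.m, Lt.m] [Lt.n] (pat hy (rb_10 hy) 3 rfl) h
        · exact mRel_good (T := T) hM0 [Lt.q, Lt.p] [Lt.m, Lt.qi, Lt.pi, Lt.qi, Lt.m, Lt.qi] (pat hy (rb_4 hy) 0 rfl) h
theorem dM_42_s (hy : Hy g H) (j z1 z2 u : ℕ) (h : dM_42 j z1 z2 u = true) : GdM g H u := by
  unfold dM_42 at h
  rcases brec_true h with h | h
  · rcases brec_true h with h | h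
    · rcases brec_true h with h | h
      · exact mRel_good (T := T) hM0 [Lt.qi, Lt.pi, Lt.qi, Lt.m, Lt.qi, Lt.pi, Lt.qi, Lt.m] [] (pat hy (rf_4 hy) 1 rfl) h
      · exact mRel_good (T := T) hM0 [Lt.n, Lt.mi, Lt.mi, Lt.d, Lt.q] [Lt.mi, Lt.mi, Lt.d, Lt.pi] (pat hy (rf_10 hy) 6 rfl) h
    · rcases brec_true h with h | h
      · exact mRel_good (T := T) hM0 [Lt.p, Lt.qi] [Lt.di, Lt.mi, Lt.n, Lt.m, Lt.m, Lt.m, Lt.d] (pat hy (rb_12 hy) 6 rfl) h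
      · rcases brec_true h with h | h
        · exact mRel_good (T := T) hM0 [Lt.m, Lt.m, Lt.m, Lt.d, Lt.q, Lt.pi, Lt.di] [Lt.ni, Lt.m] (pat hy (rf_12 hy) 6 rfl) h
        · exact mRel_good (T := T) hM0 [Lt.pi, Lt.q] [Lt.di, Lt.pi, Lt.q, Lt.ni, Lt.pi, Lt.di, Lt.p, Lt.n] (pat hy (rf_13 hy) 0 rfl) h
  · rcases brec_true h with h | h
    · rcases brec_true h with h | h
      · exact mRel_good (T := T) hM0 [Lt.m, Lt.n] [Lt.di, Lt.m, Lt.n, Lt.mi, Lt.n, Lt.d, Lt.ni, Lt.m] (pat hy (rb_14 hy) 1 rfl) h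
      · rcases brec_true h with h | h
        · exact mRel_good (T := T) hM0 [Lt.pi, Lt.q, Lt.ni, Lt.p, Lt.p, Lt.ni, Lt.pi] [Lt.ni] (pat hy (rb_9 hy) 2 rfl) h
        · exact mRel_good (T := T) hM0 [Lt.ni, Lt.q, Lt.n, Lt.pi, Lt.ni, Lt.q] [Lt.p, Lt.ni] (pat hy (rb_8 hy) 3 rfl) h
    · rcases brec_true h with h | h
      · exact mRel_good (T := T) hM0 [Lt.p, Lt.ni, Lt.qi, Lt.n] [Lt.ni, Lt.q, Lt.n, Lt.pi] (pat hy (rf_8 hy) 1 rfl) h
      · rcases brec_true h with h | h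
        · exact mRel_good (T := T) hM0 [Lt.n, Lt.qi, Lt.p, Lt.ni, Lt.pi, Lt.q] [Lt.q, Lt.n] (pat hy (rb_6 hy) 4 rfl) h
        · exact mRel_good (T := T) hM0 [Lt.p, Lt.n, Lt.qi, Lt.p, Lt.di] [Lt.d, Lt.p, Lt.n, Lt.qi, Lt.p] (pat hy (rb_13 hy) 6 rfl) h
theorem dM_43_s (hy : Hy g H) (j z1 z2 u : ℕ) (h : dM_43 j z1 z2 u = true) : GdM g H u := by
  unfold dM_43 at h
  rcases brec_true h with h | h
  · exact dM_41_s hy j z1 z2 u h
  · exact dM_42_s hy j z1 z2 u h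
theorem dM_44_s (hy : Hy g H) (j z1 z2 u : ℕ) (h : dM_44 j z1 z2 u = true) : GdM g H u := by
  unfold dM_44 at h
  rcases brec_true h with h | h
  · rcases brec_true h with h | h
    · rcases brec_true h with h | h
      · exact mRel_good (T := T) hM0 [Lt.m, Lt.m, Lt.ni, Lt.mi] [Lt.d, Lt.q, Lt.p, Lt.di, Lt.m] (pat hy (rb_10 hy) 0 rfl) h
      · exact mRel_good (T := T) hM0 [Lt.pi, Lt.q, Lt.di, Lt.m, Lt.m, Lt.m, Lt.n, Lt.mi] [Lt.di] (pat hy (rf_11 hy) 1 rfl) h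
    · rcases brec_true h with h | h
      · exact mRel_good (T := T) hM0 [Lt.mi, Lt.q, Lt.p, Lt.q, Lt.mi, Lt.q] [Lt.qi, Lt.pi] (pat hy (rb_4 hy) 3 rfl) h
      · rcases brec_true h with h | h
        · exact mRel_good (T := T) hM0 [Lt.m, Lt.m, Lt.n, Lt.mi] [Lt.d, Lt.pi, Lt.qi, Lt.di, Lt.m] (pat hy (rf_10 hy) 4 rfl) h
        · exact mRel_good (T := T) hM0 [Lt.q] [Lt.p, Lt.ni, Lt.pi, Lt.q, Lt.ni, Lt.qi, Lt.n] (pat hy (rf_6 hy) 2 rfl) h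
  · rcases brec_true h with h | h
    · rcases brec_true h with h | h
      · exact mRel_good (T := T) hM0 [Lt.ni, Lt.q, Lt.n, Lt.pi, Lt.ni] [Lt.p, Lt.ni, Lt.qi] (pat hy (rb_8 hy) 3 rfl) h
      · rcases brec_true h with h | h
        · exact mRel_good (T := T) hM0 [Lt.m, Lt.m, Lt.m, Lt.n, Lt.mi, Lt.d, Lt.pi, Lt.q, Lt.di] [] (pat hy (rf_11 hy) 4 rfl) h
        · exact mRel_good (T := T) hM0 [Lt.n] [Lt.mi, Lt.mi, Lt.d, Lt.pi, Lt.qi, Lt.di, Lt.m, Lt.m] (pat hy (rf_10 hy) 6 rfl) h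
    · rcases brec_true h with h | h
      · exact mRel_good (T := T) hM0 [Lt.mi, Lt.n, Lt.d, Lt.ni] [Lt.ni, Lt.mi, Lt.d, Lt.m, Lt.n, Lt.mi] (pat hy (rf_14 hy) 2 rfl) h
      · rcases brec_true h with h | h
        · exact mRel_good (T := T) hM0 [Lt.mi, Lt.mi, Lt.d] [Lt.ni, Lt.mi, Lt.mi, Lt.d, Lt.pi, Lt.qi] (pat hy (rf_10 hy) 7 rfl) h
        · exact mRel_good (T := T) hM0 [Lt.qi, Lt.p, Lt.p, Lt.ni, Lt.qi] [Lt.n, Lt.pi, Lt.pi] (pat hy (rb_7 hy) 0 rfl) h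
theorem dM_45_s (hy : Hy g H) (j z1 z2 u : ℕ) (h : dM_45 j z1 z2 u = true) : GdM g H u := by
  unfold dM_45 at h
  rcases brec_true h with h | h
  · rcases brec_true h with h | h
    · rcases brec_true h with h | h
      · exact mRel_good (T := T) hM0 [Lt.p, Lt.q] [Lt.qi, Lt.p, Lt.qi, Lt.pi, Lt.qi, Lt.p] (pat hy (rf_3 hy) 0 rfl) h
      · exact mRel_good (T := T) hM0 [Lt.n, Lt.mi, Lt.d] [Lt.mi, Lt.mi, Lt.mi, Lt.d, Lt.qi, Lt.p] (pat hy (rf_11 hy) 7 rfl) h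
    · rcases brec_true h with h | h
      · exact mRel_good (T := T) hM0 [Lt.mi, Lt.ni] [Lt.m, Lt.m, Lt.d, Lt.q, Lt.pi, Lt.di, Lt.mi] (pat hy (rb_12 hy) 2 rfl) h
      · rcases brec_true h with h | h
        · exact mRel_good (T := T) hM0 [Lt.qi, Lt.di, Lt.mi, Lt.mi, Lt.mi, Lt.ni, Lt.m, Lt.d, Lt.p] [] (pat hy (rb_12 hy) 7 rfl) h
        · exact mRel_good (T := T) hM0 [Lt.mi, Lt.mi, Lt.ni, Lt.m, Lt.d] [Lt.m, Lt.d, Lt.q, Lt.pi] (pat hy (rb_12 hy) 1 rfl) h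
  · rcases brec_true h with h | h
    · rcases brec_true h with h | h
      · exact mRel_good (T := T) hM0 [Lt.q, Lt.ni, Lt.q, Lt.n, Lt.qi, Lt.p, Lt.d, Lt.q] [Lt.p, Lt.d] (pat hy (rf_16 hy) 4 rfl) h
      · rcases brec_true h with h | h
        · exact mRel_good (T := T) hM0 [Lt.qi, Lt.p] [Lt.n, Lt.pi, Lt.pi, Lt.q, Lt.n, Lt.pi] (pat hy (rb_7 hy) 0 rfl) h
        · exact mRel_good (T := T) hM0 [Lt.mi, Lt.ni, Lt.m] [Lt.m, Lt.m, Lt.d, Lt.q, Lt.pi, Lt.di] (pat hy (rb_12 hy) 2 rfl) h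
    · rcases brec_true h with h | h
      · exact mRel_good (T := T) hM0 [Lt.n, Lt.p] [Lt.q, Lt.n, Lt.pi, Lt.ni, Lt.q, Lt.n] (pat hy (rf_8 hy) 0 rfl) h
      · rcases brec_true h with h | h
        · exact mRel_good (T := T) hM0 [Lt.n, Lt.pi] [Lt.pi, Lt.q, Lt.ni, Lt.qi, Lt.n, Lt.qi] (pat hy (rf_6 hy) 0 rfl) h
        · exact mRel_good (T := T) hM0 [Lt.n, Lt.qi] [Lt.qi, Lt.n, Lt.qi, Lt.p, Lt.ni, Lt.pi] (pat hy (rf_6 hy) 5 rfl) h
theorem dM_46_s (hy : Hy g H) (j z1 z2 u : ℕ) (h : dM_46 j z1 z2 u = true) : GdM g H u := by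
  unfold dM_46 at h
  rcases brec_true h with h | h
  · exact dM_44_s hy j z1 z2 u h
  · exact dM_45_s hy j z1 z2 u h
theorem dM_47_s (hy : Hy g H) (j z1 z2 u : ℕ) (h : dM_47 j z1 z2 u = true) : GdM g H u := by
  unfold dM_47 at h
  rcases brec_true h with h | h
  · exact dM_43_s hy j z1 z2 u h
  · exact dM_46_s hy j z1 z2 u h
theorem dM_48_s (hy : Hy g H) (j z1 z2 u : ℕ) (h : dM_48 j z1 z2 u = true) : GdM g H u := by
  unfold dM_48 at h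
  rcases brec_true h with h | h
  · rcases brec_true h with h | h
    · rcases brec_true h with h | h
      · exact mRel_good (T := T) hM0 [Lt.p, Lt.p, Lt.ni, Lt.pi] [Lt.n, Lt.qi, Lt.p, Lt.ni] (pat hy (rb_9 hy) 5 rfl) h
      · exact mRel_good (T := T) hM0 [Lt.q, Lt.pi, Lt.q, Lt.p, Lt.q] [Lt.pi, Lt.qi, Lt.p] (pat hy (rf_3 hy) 1 rfl) h
    · rcases brec_true h with h | h
      · exact mRel_good (T := T) hM0 [Lt.n, Lt.pi, Lt.pi, Lt.n, Lt.qi, Lt.p] [Lt.pi, Lt.n] (pat hy (rf_9 hy) 0 rfl) h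
      · rcases brec_true h with h | h
        · exact mRel_good (T := T) hM0 [Lt.mi, Lt.n, Lt.m, Lt.m, Lt.m] [Lt.d, Lt.p, Lt.qi, Lt.di] (pat hy (rf_12 hy) 4 rfl) h
        · exact mRel_good (T := T) hM0 [Lt.p, Lt.ni] [Lt.q, Lt.ni, Lt.p, Lt.p, Lt.ni, Lt.pi] (pat hy (rf_9 hy) 5 rfl) h
  · rcases brec_true h with h | h
    · rcases brec_true h with h | h
      · exact mRel_good (T := T) hM0 [Lt.pi, Lt.q, Lt.ni] [Lt.ni, Lt.p, Lt.n, Lt.pi, Lt.pi] (pat hy (rb_9 hy) 2 rfl) h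
      · rcases brec_true h with h | h
        · exact mRel_good (T := T) hM0 [Lt.pi, Lt.qi, Lt.m, Lt.qi, Lt.pi, Lt.qi] [Lt.q, Lt.mi] (pat hy (rf_4 hy) 2 rfl) h
        · exact mRel_good (T := T) hM0 [Lt.m, Lt.p, Lt.q, Lt.p] [Lt.q, Lt.p, Lt.q, Lt.mi] (pat hy (rf_5 hy) 0 rfl) h
    · rcases brec_true h with h | h
      · exact mRel_good (T := T) hM0 [Lt.m, Lt.ni, Lt.mi, Lt.mi, Lt.mi, Lt.d] [Lt.d, Lt.pi, Lt.q] (pat hy (rb_11 hy) 0 rfl) h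
      · rcases brec_true h with h | h
        · exact mRel_good (T := T) hM0 [Lt.pi, Lt.ni] [Lt.ni, Lt.qi, Lt.n, Lt.p, Lt.ni, Lt.qi] (pat hy (rb_8 hy) 2 rfl) h
        · exact mRel_good (T := T) hM0 [Lt.q, Lt.ni] [Lt.p, Lt.n, Lt.pi, Lt.q, Lt.ni, Lt.q] (pat hy (rb_6 hy) 1 rfl) h
theorem dM_49_s (hy : Hy g H) (j z1 z2 u : ℕ) (h : dM_49 j z1 z2 u = true) : GdM g H u := by
  unfold dM_49 at h
  rcases brec_true h with h | h
  · rcases brec_true h with h | h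
    · rcases brec_true h with h | h
      · exact mRel_good (T := T) hM0 [Lt.p, Lt.d, Lt.pi, Lt.q, Lt.ni, Lt.pi] [Lt.q, Lt.ni, Lt.pi, Lt.di] (pat hy (rf_13 hy) 8 rfl) h
      · exact mRel_good (T := T) hM0 [Lt.ni, Lt.pi, Lt.di] [Lt.qi, Lt.p, Lt.d, Lt.pi, Lt.q, Lt.ni, Lt.pi] (pat hy (rb_13 hy) 3 rfl) h
    · rcases brec_true h with h | h
      · exact mRel_good (T := T) hM0 [Lt.m, Lt.m, Lt.n, Lt.mi] [Lt.mi, Lt.d, Lt.qi, Lt.p, Lt.di] (pat hy (rf_11 hy) 5 rfl) h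
      · rcases brec_true h with h | h
        · exact mRel_good (T := T) hM0 [Lt.q, Lt.di, Lt.m] [Lt.p, Lt.di, Lt.m, Lt.ni, Lt.mi, Lt.mi] (pat hy (rf_11 hy) 2 rfl) h
        · exact mRel_good (T := T) hM0 [Lt.mi, Lt.d, Lt.qi, Lt.p, Lt.di, Lt.m] [Lt.m, Lt.m, Lt.n] (pat hy (rb_11 hy) 4 rfl) h
  · rcases brec_true h with h | h
    · rcases brec_true h with h | h
      · exact mRel_good (T := T) hM0 [Lt.mi, Lt.mi, Lt.mi, Lt.ni, Lt.m, Lt.d, Lt.p, Lt.qi, Lt.di] [] (pat hy (rb_12 hy) 0 rfl) h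
      · rcases brec_true h with h | h
        · exact mRel_good (T := T) hM0 [Lt.mi, Lt.d, Lt.pi, Lt.qi, Lt.di] [Lt.m, Lt.n, Lt.mi, Lt.mi] (pat hy (rb_10 hy) 4 rfl) h
        · exact mRel_good (T := T) hM0 [Lt.ni, Lt.q, Lt.n, Lt.qi, Lt.p, Lt.n, Lt.pi] [Lt.qi] (pat hy (rf_6 hy) 3 rfl) h
    · rcases brec_true h with h | h
      · exact mRel_good (T := T) hM0 [Lt.p, Lt.n, Lt.pi, Lt.pi] [Lt.n, Lt.pi, Lt.q, Lt.ni] (pat hy (rf_9 hy) 7 rfl) h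
      · rcases brec_true h with h | h
        · exact mRel_good (T := T) hM0 [Lt.mi, Lt.n, Lt.d, Lt.ni, Lt.m] [Lt.ni, Lt.mi, Lt.d, Lt.m, Lt.n] (pat hy (rf_14 hy) 2 rfl) h
        · exact mRel_good (T := T) hM0 [Lt.m, Lt.m, Lt.n, Lt.mi, Lt.mi, Lt.d, Lt.q, Lt.p, Lt.di] [] (pat hy (rf_10 hy) 4 rfl) h
theorem dM_50_s (hy : Hy g H) (j z1 z2 u : ℕ) (h : dM_50 j z1 z2 u = true) : GdM g H u := by
  unfold dM_50 at h
  rcases brec_true h with h | h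
  · exact dM_48_s hy j z1 z2 u h
  · exact dM_49_s hy j z1 z2 u h
theorem dM_51_s (hy : Hy g H) (j z1 z2 u : ℕ) (h : dM_51 j z1 z2 u = true) : GdM g H u := by
  unfold dM_51 at h
  rcases brec_true h with h | h
  · rcases brec_true h with h | h
    · rcases brec_true h with h | h
      · exact mRel_good (T := T) hM0 [Lt.di, Lt.ni, Lt.m, Lt.ni] [Lt.ni, Lt.m, Lt.ni, Lt.mi, Lt.di, Lt.m] (pat hy (rb_14 hy) 5 rfl) h
      · exact mRel_good (T := T) hM0 [Lt.mi, Lt.n, Lt.d, Lt.ni, Lt.m, Lt.ni, Lt.mi] [Lt.ni, Lt.mi, Lt.d] (pat hy (rf_14 hy) 2 rfl) h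
    · rcases brec_true h with h | h
      · exact mRel_good (T := T) hM0 [Lt.qi, Lt.pi, Lt.qi] [Lt.mi, Lt.q, Lt.p, Lt.q, Lt.mi] (pat hy (rf_4 hy) 1 rfl) h
      · rcases brec_true h with h | h
        · exact mRel_good (T := T) hM0 [Lt.q] [Lt.pi, Lt.qi, Lt.p, Lt.qi, Lt.pi, Lt.qi, Lt.p] (pat hy (rf_3 hy) 1 rfl) h
        · exact mRel_good (T := T) hM0 [Lt.m, Lt.m, Lt.m, Lt.n, Lt.mi] [Lt.d, Lt.qi, Lt.p, Lt.di] (pat hy (rf_11 hy) 4 rfl) h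
  · rcases brec_true h with h | h
    · rcases brec_true h with h | h
      · exact mRel_good (T := T) hM0 [Lt.n, Lt.qi, Lt.p, Lt.ni, Lt.p] [Lt.p, Lt.p, Lt.ni] (pat hy (rf_9 hy) 3 rfl) h
      · rcases brec_true h with h | h
        · exact mRel_good (T := T) hM0 [Lt.m] [Lt.mi, Lt.mi, Lt.d, Lt.qi, Lt.p, Lt.di, Lt.m, Lt.ni] (pat hy (rf_11 hy) 6 rfl) h
        · exact mRel_good (T := T) hM0 [Lt.m, Lt.d, Lt.p, Lt.qi, Lt.di, Lt.mi] [Lt.n, Lt.m, Lt.m] (pat hy (rb_12 hy) 4 rfl) h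
    · rcases brec_true h with h | h
      · exact mRel_good (T := T) hM0 [Lt.ni, Lt.mi, Lt.mi] [Lt.mi, Lt.d, Lt.pi, Lt.q, Lt.di, Lt.m] (pat hy (rb_11 hy) 1 rfl) h
      · rcases brec_true h with h | h
        · exact mRel_good (T := T) hM0 [Lt.ni, Lt.m, Lt.d, Lt.p, Lt.qi, Lt.di, Lt.mi] [Lt.m, Lt.m] (pat hy (rb_12 hy) 3 rfl) h
        · exact mRel_good (T := T) hM0 [Lt.pi, Lt.q, Lt.di, Lt.m] [Lt.di, Lt.m, Lt.ni, Lt.mi, Lt.mi] (pat hy (rf_11 hy) 1 rfl) h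
theorem dM_52_s (hy : Hy g H) (j z1 z2 u : ℕ) (h : dM_52 j z1 z2 u = true) : GdM g H u := by
  unfold dM_52 at h
  rcases brec_true h with h | h
  · rcases brec_true h with h | h
    · rcases brec_true h with h | h
      · exact mRel_good (T := T) hM0 [Lt.di, Lt.di] [Lt.d] (pat hy (rb_1 hy) 0 rfl) h
      · exact mRel_good (T := T) hM0 [Lt.m] [Lt.n, Lt.di, Lt.ni, Lt.m, Lt.ni, Lt.mi, Lt.d, Lt.m, Lt.n] (pat hy (rf_14 hy) 6 rfl) h
    · rcases brec_true h with h | h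
      · exact mRel_good (T := T) hM0 [Lt.ni, Lt.ni, Lt.ni] [] (pat hy (rb_2 hy) 0 rfl) h
      · rcases brec_true h with h | h
        · exact mRel_good (T := T) hM0 [Lt.mi, Lt.d, Lt.q, Lt.p, Lt.di, Lt.m] [Lt.m, Lt.ni, Lt.mi] (pat hy (rf_10 hy) 8 rfl) h
        · exact mRel_good (T := T) hM0 [Lt.qi, Lt.di, Lt.m, Lt.m, Lt.ni, Lt.mi] [Lt.p, Lt.di, Lt.m] (pat hy (rb_10 hy) 7 rfl) h
  · rcases brec_true h with h | h
    · rcases brec_true h with h | h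
      · exact mRel_good (T := T) hM0 [Lt.mi, Lt.d, Lt.pi, Lt.qi, Lt.di, Lt.m] [Lt.m, Lt.n, Lt.mi] (pat hy (rb_10 hy) 4 rfl) h
      · rcases brec_true h with h | h
        · exact mRel_good (T := T) hM0 [Lt.di, Lt.p] [Lt.p, Lt.n, Lt.qi, Lt.p, Lt.d, Lt.pi, Lt.q, Lt.ni] (pat hy (rb_13 hy) 5 rfl) h
        · exact mRel_good (T := T) hM0 [Lt.di, Lt.m, Lt.m, Lt.ni, Lt.mi, Lt.mi] [Lt.q, Lt.p, Lt.di] (pat hy (rb_10 hy) 8 rfl) h
    · rcases brec_true h with h | h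
      · exact mRel_good (T := T) hM0 [Lt.ni, Lt.q, Lt.n, Lt.qi, Lt.p, Lt.d] [Lt.qi, Lt.p, Lt.d, Lt.qi] (pat hy (rf_16 hy) 5 rfl) h
      · rcases brec_true h with h | h
        · exact mRel_good (T := T) hM0 [Lt.qi, Lt.p] [Lt.ni, Lt.qi, Lt.n, Lt.qi, Lt.p, Lt.ni] (pat hy (rf_6 hy) 6 rfl) h
        · exact mRel_good (T := T) hM0 [Lt.mi, Lt.n] [Lt.d, Lt.p, Lt.qi, Lt.di, Lt.mi, Lt.mi, Lt.mi] (pat hy (rf_12 hy) 4 rfl) h
theorem dM_53_s (hy : Hy g H) (j z1 z2 u : ℕ) (h : dM_53 j z1 z2 u = true) : GdM g H u := by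
  unfold dM_53 at h
  rcases brec_true h with h | h
  · exact dM_51_s hy j z1 z2 u h
  · exact dM_52_s hy j z1 z2 u h
theorem dM_54_s (hy : Hy g H) (j z1 z2 u : ℕ) (h : dM_54 j z1 z2 u = true) : GdM g H u := by
  unfold dM_54 at h
  rcases brec_true h with h | h
  · exact dM_50_s hy j z1 z2 u h
  · exact dM_53_s hy j z1 z2 u h
theorem dM_55_s (hy : Hy g H) (j z1 z2 u : ℕ) (h : dM_55 j z1 z2 u = true) : GdM g H u := by
  unfold dM_55 at h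
  rcases brec_true h with h | h
  · exact dM_47_s hy j z1 z2 u h
  · exact dM_54_s hy j z1 z2 u h
theorem dM_56_s (hy : Hy g H) (j z1 z2 u : ℕ) (h : dM_56 j z1 z2 u = true) : GdM g H u := by
  unfold dM_56 at h
  rcases brec_true h with h | h
  · exact dM_40_s hy j z1 z2 u h
  · exact dM_55_s hy j z1 z2 u h
theorem dM_57_s (hy : Hy g H) (j z1 z2 u : ℕ) (h : dM_57 j z1 z2 u = true) : GdM g H u := by
  unfold dM_57 at h
  rcases brec_true h with h | h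
  · exact dM_25_s hy j z1 z2 u h
  · exact dM_56_s hy j z1 z2 u h
theorem dM_58_s (hy : Hy g H) (j z1 z2 u : ℕ) (h : dM_58 j z1 z2 u = true) : GdM g H u := by
  unfold dM_58 at h
  rcases brec_true h with h | h
  · exact dM_2_s hy j z1 z2 u h
  · exact dM_57_s hy j z1 z2 u h
theorem sndM (hy : Hy g H) (u : ℕ) (h : chkM u = true) :
    MG u < A → MG u % M < u ∧ GdM g H u := by
  intro hA
  unfold chkM at h
  cases hb : Nat.ble A (MG u) with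
  | true => exact absurd (le_of_ble hb) (by omega)
  | false =>
    rw [hb] at h
    obtain ⟨h1, h2⟩ := band_eq_true.1 h
    exact ⟨le_of_ble h1, dM_58_s hy _ _ _ _ h2⟩
theorem sndN (hy : Hy g H)
    (u : ℕ) (hu : u < M) (h : chkP u = true) : (∀ x, (T x u < A ∧ Gd g H x u) ∨ (A ≤ T x u ∧ MG u < A)) ∧ (MG u < A → MG u % M < u ∧ GdM g H u) := by
  unfold chkP at h
  cases hb : Nat.ble M u with
  | true => exact absurd (le_of_ble hb) (by omega)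
  | false =>
    rw [hb] at h
    change chkN u = true at h
    unfold chkN at h
    obtain ⟨h0, h⟩ := band_eq_true.1 h
    obtain ⟨h1, h⟩ := band_eq_true.1 h
    obtain ⟨h2, h⟩ := band_eq_true.1 h
    obtain ⟨h3, h⟩ := band_eq_true.1 h
    obtain ⟨h4, h⟩ := band_eq_true.1 h
    obtain ⟨h5, h⟩ := band_eq_true.1 h
    obtain ⟨h6, h⟩ := band_eq_true.1 h
    obtain ⟨h7, h⟩ := band_eq_true.1 h
    obtain ⟨h8, h⟩ := band_eq_true.1 h
    obtain ⟨h9, h⟩ := band_eq_true.1 h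
    refine ⟨?_, sndM hy u h⟩
    intro x
    cases x
    · exact snc_m hy _ u hu h0
    · exact snc_mi hy _ u hu h1
    · exact snc_n hy _ u hu h2
    · exact snc_ni hy _ u hu h3
    · exact snc_p hy _ u hu h4
    · exact snc_pi hy _ u hu h5
    · exact snc_q hy _ u hu h6
    · exact snc_qi hy _ u hu h7
    · exact snc_d hy _ u hu h8
    · exact snc_di hy _ u hu h9
theorem final (hinv : ∀ x, g (inv x) = (g x)⁻¹) (hr : ∀ r ∈ rels, (r.map g).prod = 1) (hH : ∀ r ∈ subs, (r.map g).prod ∈ H)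
    (hall : ∀ u, u < M → chkP u = true) (hc : cntB liveP 11 0 = 704) :
    H.relIndex (Subgroup.closure (Set.range g)) ≤ 704 ∧ H.relIndex (Subgroup.closure (Set.range g)) ≠ 0 := by
  have hn := fun u hu => sndN ⟨hinv, hr, hH⟩ u hu (hall u hu)
  have h1 : ∀ x u, u < M → T x u < A → Good (fa g) T MG M (cP g H) x u := by
    intro x u hu hx
    rcases (hn u hu).1 x with h | h
    · exact h.2
    · exact absurd h.1 (by omega)
  have h2 : ∀ u, u < M → MG u < A → GoodM (fa g) T MG M (cP g H) u := fun u hu h => ((hn u hu).2 h).2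
  refine relIndex_le (M := M) (A := A) (T := T) (MG := MG) (c := cP g H) (by decide) cc_zero (sound_of_good h1 h2) ?_ ?_ ?_
  · intro u hu h
    exact ((hn u hu).2 h).1
  · intro x u hu h
    rcases (hn u hu).1 x with h' | h'
    · exact h'.1
    · exact absurd h'.2 (by omega)
  · rw [← hc, ← cntB_spec]
    apply Finset.card_le_card
    intro u
    simp only [Finset.mem_filter, Finset.mem_Ico]
    rintro ⟨⟨_, h3⟩, h4⟩
    refine ⟨⟨Nat.zero_le _, lt_of_lt_of_le h3 (by decide)⟩, ?_⟩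
    unfold liveP
    cases hb : Nat.ble M u with
    | true => exact absurd (le_of_ble hb) (by omega)
    | false => exact h4
end
end H64.TCHSA
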